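import Cfsg.Agent.Lib.Invol.SL2Natural

/-!
# A subgroup inducing `SL(2, q)` on a natural module, and its normalizer

`Mod L V J F` records coordinates in which `J` induces the upper unitriangular matrices. An element normalizing
`L` and `V` acts semilinearly; `σ` is its field automorphism.
-/

set_option autoImplicit false
set_option linter.unusedSectionVars false

namespace Cfsg.Agent.Invol.NatPair

open Matrix Cfsg.Agent.Grp.SL2
open Cfsg.Agent.Invol.Nat2 (dg mulVec_up mulVec_dg)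
open Cfsg.Agent.Invol.SL2Nat (wel)

universe u v

variable {G : Type u} [Group G] {F : Type v} [Field F]

local notation "SS" => Matrix.SpecialLinearGroup (Fin 2) F

/-- Coordinates on a natural module. -/
structure Mod (L V J : Subgroup G) (F : Type v) [Field F] where
  le : V ≤ L
  norm : L ≤ Subgroup.normalizer (V : Set G)
  ρ : L →* Matrix.SpecialLinearGroup (Fin 2) F
  surj : Function.Surjective ρ
  ker : ∀ l : L, ρ l = 1 ↔ (l : G) ∈ V
  ψ : Additive V ≃+ (Fin 2 → F)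
  act : ∀ (l : L) (v : V) (h : (l : G) * v * (l : G)⁻¹ ∈ V),
    ψ (Additive.ofMul ⟨(l : G) * v * (l : G)⁻¹, h⟩) =
      ((ρ l : Matrix.SpecialLinearGroup (Fin 2) F) : Matrix (Fin 2) (Fin 2) F).mulVec (ψ (Additive.ofMul v))
  Jle : J ≤ L
  mem_J : ∀ l : L, (l : G) ∈ J ↔ ∃ t, ρ l = up t

theorem mulVec_wel (x : Fin 2 → F) :
    ((wel : SS) : Matrix (Fin 2) (Fin 2) F).mulVec x = ![-x 1, x 0] := by
  ext i; fin_cases i <;> simp [wel, Matrix.mulVec, dotProduct, Fin.sum_univ_two]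

/-- An additive map commuting with `SL(2, F)` is a scalar. -/
theorem scalar_of_commute (f : (Fin 2 → F) →+ (Fin 2 → F))
    (h : ∀ (A : SS) x, f ((A : Matrix (Fin 2) (Fin 2) F).mulVec x) = (A : Matrix (Fin 2) (Fin 2) F).mulVec (f x))
    (x : Fin 2 → F) : f x = (f ![1, 0] 0) • x := by
  have h1 : ∀ a : F, f ![a, 0] 1 = 0 := fun a => by
    have := congrFun (h (up 1) ![a, 0]) 0
    rw [mulVec_up, mulVec_up] at this
    simpa using this
  have hd : ∀ a : F, f ![a, 0] 0 = a * f ![1, 0] 0 := fun a => by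
    by_cases ha : a = 0
    · subst ha
      rw [show (![0, 0] : Fin 2 → F) = 0 by ext i; fin_cases i <;> rfl, map_zero]; simp
    · have := congrFun (h (dg a ha) ![1, 0]) 0
      rw [mulVec_dg, mulVec_dg] at this
      simpa using this
  have hs : ∀ a : F, f ![a, 0] = f ![1, 0] 0 • ![a, 0] := fun a => by
    ext i; fin_cases i
    · simpa [mul_comm] using hd a
    · simpa using h1 a
  have hw : ∀ a : F, f ![0, a] = f ![1, 0] 0 • ![0, a] := fun a => by
    have := h wel ![a, 0]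
    rw [mulVec_wel, mulVec_wel] at this
    rw [show (![0, a] : Fin 2 → F) = ![-(![a, 0] : Fin 2 → F) 1, (![a, 0] : Fin 2 → F) 0] by simp, this, hs]
    ext i; fin_cases i <;> simp
  have hx : x = ![x 0, 0] + ![0, x 1] := by ext i; fin_cases i <;> simp
  conv_lhs => rw [hx, map_add, hs, hw, ← smul_add, ← hx]

theorem eq_up_of_fix [CharP F 2] {A : SS} (h : (A : Matrix (Fin 2) (Fin 2) F).mulVec ![1, 0] = ![1, 0]) :
    ∃ t, A = up t := by
  have h0 := congrFun h 0
  have h1 := congrFun h 1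
  simp [Matrix.mulVec, dotProduct, Fin.sum_univ_two] at h0 h1
  have hd := det_eq A
  rw [h0, h1] at hd
  simp at hd
  exact ⟨(A : Matrix (Fin 2) (Fin 2) F) 0 1, Subtype.ext (by
    ext i j; fin_cases i <;> fin_cases j <;> simp [up, h0, h1, hd])⟩

theorem up_inj {s t : F} (h : (up s : SS) = up t) : s = t := by
  simpa [up] using congrArg (fun A : SS => (A : Matrix (Fin 2) (Fin 2) F) 0 1) h

theorem wel_ne_up (t : F) : (wel : SS) ≠ up t := fun h => by
  simpa [up, wel] using congrArg (fun A : SS => (A : Matrix (Fin 2) (Fin 2) F) 1 0) h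

namespace Mod

variable {L V J : Subgroup G} (C : Mod L V J F)

/-- The element of `V` with given coordinates. -/
noncomputable def vec (x : Fin 2 → F) : G := ((Additive.toMul (C.ψ.symm x) : V) : G)

/-- The coordinates of an element of `V`. -/
noncomputable def co (v : G) : Fin 2 → F := by
  classical exact if h : v ∈ V then C.ψ (Additive.ofMul ⟨v, h⟩) else 0

theorem vec_mem (x : Fin 2 → F) : C.vec x ∈ V := (Additive.toMul (C.ψ.symm x) : V).2

theorem co_eq {v : G} (h : v ∈ V) : C.co v = C.ψ (Additive.ofMul ⟨v, h⟩) := dif_pos h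

theorem co_vec (x : Fin 2 → F) : C.co (C.vec x) = x := by
  rw [C.co_eq (C.vec_mem x)]; simp [vec]

theorem vec_co {v : G} (h : v ∈ V) : C.vec (C.co v) = v := by
  rw [C.co_eq h]; simp [vec]

theorem vec_inj {x y : Fin 2 → F} (h : C.vec x = C.vec y) : x = y := by
  rw [← C.co_vec x, h, C.co_vec]

theorem vec_add (x y : Fin 2 → F) : C.vec (x + y) = C.vec x * C.vec y := by simp [vec]

theorem vec_zero : C.vec 0 = 1 := by simp [vec]

theorem vec_eq_one {x : Fin 2 → F} : C.vec x = 1 ↔ x = 0 :=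
  ⟨fun h => C.vec_inj (h.trans C.vec_zero.symm), fun h => h ▸ C.vec_zero⟩

theorem co_mul {a b : G} (ha : a ∈ V) (hb : b ∈ V) : C.co (a * b) = C.co a + C.co b := by
  rw [C.co_eq ha, C.co_eq hb, C.co_eq (V.mul_mem ha hb)]
  exact map_add C.ψ (Additive.ofMul ⟨a, ha⟩) (Additive.ofMul ⟨b, hb⟩)

theorem co_one : C.co 1 = 0 := by rw [← C.vec_zero, C.co_vec]

theorem co_eq_zero {v : G} (h : v ∈ V) : C.co v = 0 ↔ v = 1 := by
  rw [← C.vec_eq_one, C.vec_co h]

include C in
theorem conj_mem {l : G} (hl : l ∈ L) {v : G} (hv : v ∈ V) : l * v * l⁻¹ ∈ V :=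
  (Subgroup.mem_normalizer_iff.mp (C.norm hl) v).mp hv

theorem co_conj (l : L) {v : G} (hv : v ∈ V) :
    C.co ((l : G) * v * (l : G)⁻¹) = (C.ρ l : Matrix (Fin 2) (Fin 2) F).mulVec (C.co v) := by
  rw [C.co_eq (C.conj_mem l.2 hv), C.co_eq hv]
  exact C.act l ⟨v, hv⟩ _

theorem conj_vec (l : L) (x : Fin 2 → F) :
    (l : G) * C.vec x * (l : G)⁻¹ = C.vec ((C.ρ l : Matrix (Fin 2) (Fin 2) F).mulVec x) := by
  conv_rhs => rw [← C.co_vec x, ← C.co_conj l (C.vec_mem x), C.vec_co (C.conj_mem l.2 (C.vec_mem x))]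

theorem exists_lift (A : SS) : ∃ l : L, C.ρ l = A := C.surj A

theorem mem_of_ρ_eq {l m : L} (h : C.ρ l = C.ρ m) : (l : G)⁻¹ * m ∈ V :=
  (C.ker (l⁻¹ * m)).mp (by rw [map_mul, map_inv, h, inv_mul_cancel])

include C in
theorem V_le_J : V ≤ J := fun v hv =>
  (C.mem_J ⟨v, C.le hv⟩).mpr ⟨0, by rw [(C.ker ⟨v, C.le hv⟩).mpr hv, up_zero]⟩

include C in
theorem mul_comm_V {a b : G} (ha : a ∈ V) (hb : b ∈ V) : a * b = b * a := by
  rw [← C.vec_co ha, ← C.vec_co hb, ← C.vec_add, ← C.vec_add, add_comm]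

include C in
theorem mul_self [CharP F 2] {a : G} (ha : a ∈ V) : a * a = 1 := by
  rw [← C.vec_co ha, ← C.vec_add, CharTwo.add_self_eq_zero, C.vec_zero]

include C in
theorem inv_eq [CharP F 2] {a : G} (ha : a ∈ V) : a⁻¹ = a := inv_eq_of_mul_eq_one_left (C.mul_self ha)

theorem co_inv [CharP F 2] {a : G} (ha : a ∈ V) : C.co a⁻¹ = C.co a := by rw [C.inv_eq ha]

include C in
theorem card_V : Nat.card V = Nat.card F * Nat.card F := by
  rw [← Nat.card_congr (Additive.ofMul (α := V)).symm, Nat.card_congr C.ψ.toEquiv, Nat.card_fun, Nat.card_fin,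
    sq]

/-- An element of `L` fixing a nonzero vector `(z, 0)` lies in `J`. -/
theorem mem_J_of_fix [CharP F 2] (l : L) {z : F} (hz : z ≠ 0)
    (h : (l : G) * C.vec ![z, 0] * (l : G)⁻¹ = C.vec ![z, 0]) : (l : G) ∈ J := by
  rw [C.conj_vec] at h
  have h' := C.vec_inj h
  refine (C.mem_J l).mpr (eq_up_of_fix ?_)
  have h2 : (![1, 0] : Fin 2 → F) = z⁻¹ • ![z, 0] := by ext i; fin_cases i <;> simp [hz]
  rw [h2, Matrix.mulVec_smul, h']

section Semi

variable {n n' : G}

/-- The action of an element normalizing `V`, in coordinates. -/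
noncomputable def mov (n : G) (x : Fin 2 → F) : Fin 2 → F := C.co (n * C.vec x * n⁻¹)

theorem vec_mov (hn : n ∈ Subgroup.normalizer (V : Set G)) (x : Fin 2 → F) :
    n * C.vec x * n⁻¹ = C.vec (C.mov n x) :=
  (C.vec_co ((Subgroup.mem_normalizer_iff.mp hn _).mp (C.vec_mem x))).symm

theorem mov_add (hn : n ∈ Subgroup.normalizer (V : Set G)) (x y : Fin 2 → F) :
    C.mov n (x + y) = C.mov n x + C.mov n y := C.vec_inj (by
  rw [C.vec_add, ← C.vec_mov hn, ← C.vec_mov hn, ← C.vec_mov hn, C.vec_add]; group)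

theorem mov_zero : C.mov n 0 = 0 := by rw [mov, C.vec_zero, mul_one, mul_inv_cancel, C.co_one]

theorem mov_mul (hn : n ∈ Subgroup.normalizer (V : Set G)) (hn' : n' ∈ Subgroup.normalizer (V : Set G))
    (x : Fin 2 → F) : C.mov (n * n') x = C.mov n (C.mov n' x) := C.vec_inj (by
  rw [← C.vec_mov (mul_mem hn hn'), ← C.vec_mov hn, ← C.vec_mov hn']; group)

theorem mov_one (x : Fin 2 → F) : C.mov 1 x = x := by rw [mov, one_mul, inv_one, mul_one, C.co_vec]

theorem mov_inv (hn : n ∈ Subgroup.normalizer (V : Set G)) (x : Fin 2 → F) : C.mov n (C.mov n⁻¹ x) = x := by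
  rw [← C.mov_mul hn (inv_mem hn), mul_inv_cancel, C.mov_one]

theorem mov_inv' (hn : n ∈ Subgroup.normalizer (V : Set G)) (x : Fin 2 → F) : C.mov n⁻¹ (C.mov n x) = x := by
  rw [← C.mov_mul (inv_mem hn) hn, inv_mul_cancel, C.mov_one]

theorem mov_inj (hn : n ∈ Subgroup.normalizer (V : Set G)) {x y : Fin 2 → F} (h : C.mov n x = C.mov n y) :
    x = y := by rw [← C.mov_inv' hn x, h, C.mov_inv' hn]

theorem mov_L (l : L) (x : Fin 2 → F) : C.mov l x = (C.ρ l : Matrix (Fin 2) (Fin 2) F).mulVec x := by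
  rw [mov, C.conj_vec, C.co_vec]

theorem mov_mulVec (hn : n ∈ Subgroup.normalizer (V : Set G)) (l : L)
    (hl : n * (l : G) * n⁻¹ ∈ L) (x : Fin 2 → F) :
    C.mov n ((C.ρ l : Matrix (Fin 2) (Fin 2) F).mulVec x) =
      (C.ρ ⟨n * (l : G) * n⁻¹, hl⟩ : Matrix (Fin 2) (Fin 2) F).mulVec (C.mov n x) := by
  rw [← C.mov_L l, ← C.mov_L ⟨n * (l : G) * n⁻¹, hl⟩, ← C.mov_mul hn (C.norm l.2),
    ← C.mov_mul (C.norm hl) hn]
  congr 1
  show n * (l : G) = n * (l : G) * n⁻¹ * n
  group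

/-- The field automorphism of a semilinear element. -/
noncomputable def σ (n : G) (c : F) : F := C.mov n (c • C.mov n⁻¹ ![1, 0]) 0

variable (hn : n ∈ Subgroup.normalizer (V : Set G)) (hnL : n ∈ Subgroup.normalizer (L : Set G))
include hn hnL

theorem semilinear (c : F) (x : Fin 2 → F) : C.mov n (c • x) = C.σ n c • C.mov n x := by
  have hn' := inv_mem hn
  let f : (Fin 2 → F) →+ (Fin 2 → F) :=
    { toFun := fun y => C.mov n (c • C.mov n⁻¹ y)
      map_zero' := by rw [C.mov_zero, smul_zero, C.mov_zero]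
      map_add' := fun y y' => by rw [C.mov_add hn', smul_add, C.mov_add hn] }
  have hf : ∀ (A : SS) y, f ((A : Matrix (Fin 2) (Fin 2) F).mulVec y)
      = (A : Matrix (Fin 2) (Fin 2) F).mulVec (f y) := by
    intro A y
    obtain ⟨l, rfl⟩ := C.exists_lift A
    have hl : n⁻¹ * (l : G) * n⁻¹⁻¹ ∈ L := (Subgroup.mem_normalizer_iff.mp (inv_mem hnL) _).mp l.2
    show C.mov n (c • C.mov n⁻¹ _) = Matrix.mulVec _ (C.mov n (c • C.mov n⁻¹ y))
    rw [C.mov_mulVec hn' l hl, ← Matrix.mulVec_smul,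
      C.mov_mulVec hn ⟨_, hl⟩ (by convert l.2 using 1; group)]
    congr 3
    apply Subtype.ext; show n * (n⁻¹ * (l : G) * n⁻¹⁻¹) * n⁻¹ = _; group
  have := scalar_of_commute f hf (C.mov n x)
  show _ = f ![1, 0] 0 • _
  rw [← this]
  show _ = C.mov n (c • C.mov n⁻¹ (C.mov n x))
  rw [C.mov_inv' hn]

theorem σ_eq_of (c d : F) {x : Fin 2 → F} (hx : x ≠ 0) (h : C.mov n (c • x) = d • C.mov n x) :
    C.σ n c = d := by
  rw [C.semilinear hn hnL] at h
  exact smul_left_injective F (fun e => hx (C.mov_inj hn (e.trans C.mov_zero.symm))) h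

theorem σ_one : C.σ n 1 = 1 :=
  C.σ_eq_of hn hnL 1 1 (x := ![1, 0]) (fun e => one_ne_zero (α := F) (by simpa using congrFun e 0))
    (by rw [one_smul, one_smul])

theorem σ_mul (c d : F) : C.σ n (c * d) = C.σ n c * C.σ n d :=
  C.σ_eq_of hn hnL (c * d) _ (x := ![1, 0]) (fun e => one_ne_zero (α := F) (by simpa using congrFun e 0))
    (by rw [mul_smul, C.semilinear hn hnL, C.semilinear hn hnL, smul_smul])

theorem σ_add (c d : F) : C.σ n (c + d) = C.σ n c + C.σ n d :=
  C.σ_eq_of hn hnL (c + d) _ (x := ![1, 0]) (fun e => one_ne_zero (α := F) (by simpa using congrFun e 0))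
    (by rw [add_smul, C.mov_add hn, C.semilinear hn hnL, C.semilinear hn hnL, ← add_smul])

theorem σ_comp (hn' : n' ∈ Subgroup.normalizer (V : Set G)) (hnL' : n' ∈ Subgroup.normalizer (L : Set G))
    (c : F) : C.σ (n * n') c = C.σ n (C.σ n' c) :=
  C.σ_eq_of (mul_mem hn hn') (mul_mem hnL hnL') c _ (x := ![1, 0])
    (fun e => one_ne_zero (α := F) (by simpa using congrFun e 0))
    (by rw [C.mov_mul hn hn', C.semilinear hn' hnL', C.semilinear hn hnL, C.mov_mul hn hn'])

end Semi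

theorem σ_L (l : L) (c : F) : C.σ (l : G) c = c :=
  C.σ_eq_of (C.norm l.2) (Subgroup.le_normalizer l.2) c c (x := ![1, 0])
    (fun e => one_ne_zero (α := F) (by simpa using congrFun e 0))
    (by rw [C.mov_L, C.mov_L, Matrix.mulVec_smul])

theorem σ_unit (c : F) : C.σ (1 : G) c = c := C.σ_L 1 c

end Mod

end Cfsg.Agent.Invol.NatPair
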