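import Cfsg.Agent.Lib.Invol.NatPair.Normalizer
import Cfsg.Agent.Lib.Invol.Core2.ClassCentral
import Cfsg.Agent.Lib.Spor.ONan.Fitting
import Cfsg.Agent.S1175

/-!
# The generalized Fitting subgroup is `L₁ ⊔ L₂`
-/

set_option autoImplicit false
set_option linter.unusedSectionVars false
set_option linter.style.haveILetI false

namespace Cfsg.Agent.Invol.NatPair

universe u v

variable {G : Type u} [Group G] [Finite G] {F : Type v} [Field F] [Finite F] [CharP F 2]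

namespace Pair

variable {L1 L2 V1 V2 J T : Subgroup G} (P : Pair L1 L2 V1 V2 J T F)
include P

theorem simple_G0 (h8 : 8 ≤ Nat.card F) : IsSimpleGroup ↥(L1 ⊔ L2) := by
  classical
  haveI := Fintype.ofFinite F
  haveI : IsSimpleGroup (Matrix.ProjectiveSpecialLinearGroup (Fin 3) F) :=
    Classical.PSL_isSimple (F := F) (n := 3) (by norm_num) (by intro h; omega)
  obtain ⟨⟨e⟩, -, -⟩ := P.iso_psl h8
  haveI : Nontrivial ↥(L1 ⊔ L2) := e.toEquiv.nontrivial
  exact IsSimpleGroup.isSimpleGroup_of_surjective e.symm.toMonoidHom e.symm.surjective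

theorem conj_mem_Z {n : G} (hn : n ∈ Subgroup.normalizer (J : Set G)) {z : G} (hz : z ∈ V1 ⊓ V2) :
    n * z * n⁻¹ ∈ V1 ⊓ V2 := by
  by_cases hb : n ∈ both V1 V2
  · exact ⟨(Subgroup.mem_normalizer_iff.mp hb.1 z).mp hz.1, (Subgroup.mem_normalizer_iff.mp hb.2 z).mp hz.2⟩
  · exact P.conj_Z hn hb hz.1 hz.2

/-- A nontrivial subgroup normalized by `L₁ ⊔ L₂` contains it. -/
theorem le_of_normalized (h8 : 8 ≤ Nat.card F) {N : Subgroup G} (hne : N ≠ ⊥)
    (hn : L1 ⊔ L2 ≤ Subgroup.normalizer (N : Set G)) : L1 ⊔ L2 ≤ N := by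
  haveI := P.simple_G0 h8
  set G0 := L1 ⊔ L2
  have hNn : (N.subgroupOf G0).Normal := Subgroup.normal_subgroupOf_of_le_normalizer hn
  rcases hNn.eq_bot_or_eq_top with h | h
  swap
  · exact Subgroup.subgroupOf_eq_top.mp h
  exfalso
  rw [Subgroup.subgroupOf_eq_bot, disjoint_iff] at h
  have hmem : ∀ x ∈ N, x ∈ G0 → x = 1 := fun x hx hx' => Subgroup.mem_bot.mp (h ▸ ⟨hx, hx'⟩)
  have hconj : ∀ g ∈ G0, ∀ x ∈ N, g * x * g⁻¹ ∈ N := fun g hg x hx =>
    (Subgroup.mem_normalizer_iff.mp (hn hg) x).mp hx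
  have hfix : ∀ z ∈ V1 ⊓ V2, z ≠ 1 → ∀ n ∈ N, Commute n z → n = 1 := by
    intro z hz hz1 n hnN hc
    have hnJ := P.centralizer_Z_le h8 hz hz1 hc
    refine hmem n hnN (P.J_le_G0 (P.V1_le_J (P.centralizer_J fun j hj => ?_).1))
    refine mul_inv_eq_iff_eq_mul.mp (mul_inv_eq_one.mp (hmem (n * j * n⁻¹ * j⁻¹) ?_ ?_))
    · rw [show n * j * n⁻¹ * j⁻¹ = n * (j * n⁻¹ * j⁻¹) by group]
      exact mul_mem hnN (hconj j (P.J_le_G0 hj) _ (inv_mem hnN))
    · exact P.J_le_G0 (mul_mem ((Subgroup.mem_normalizer_iff.mp hnJ j).mp hj) (inv_mem hj))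
  have hinv : ∀ z ∈ V1 ⊓ V2, z ≠ 1 → ∀ n ∈ N, z * n * z⁻¹ = n⁻¹ := by
    intro z hz hz1 m hm
    have hzG : z ∈ G0 := P.J_le_G0 (P.V1_le_J hz.1)
    let f : N → N := fun n => ⟨(n : G)⁻¹ * (z * n * z⁻¹), mul_mem (inv_mem n.2) (hconj z hzG _ n.2)⟩
    have hf : Function.Injective f := fun a b e => by
      have e' : (a : G)⁻¹ * (z * a * z⁻¹) = (b : G)⁻¹ * (z * b * z⁻¹) := congrArg Subtype.val e
      have h1 : z * ((a : G) * (b : G)⁻¹) * z⁻¹ = (a : G) * (b : G)⁻¹ := by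
        calc z * ((a : G) * (b : G)⁻¹) * z⁻¹ = (a : G) * ((a : G)⁻¹ * (z * a * z⁻¹)) * (z * b * z⁻¹)⁻¹ := by group
          _ = _ := by rw [e']; group
      have := hfix z hz hz1 _ (mul_mem a.2 (inv_mem b.2)) (mul_inv_eq_iff_eq_mul.mp h1 : z * _ = _ * z).symm
      exact Subtype.ext (mul_inv_eq_one.mp this)
    obtain ⟨⟨n, hn'⟩, e⟩ := (Finite.injective_iff_surjective.mp hf) ⟨m, hm⟩
    have e' : n⁻¹ * (z * n * z⁻¹) = m := congrArg Subtype.val e
    have hzz : z * z = 1 := P.m1.mul_self hz.1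
    rw [← e']
    calc z * (n⁻¹ * (z * n * z⁻¹)) * z⁻¹ = (z * n⁻¹ * z⁻¹) * ((z * z) * n * (z * z)⁻¹) := by group
      _ = (n⁻¹ * (z * n * z⁻¹))⁻¹ := by rw [hzz]; group
  obtain ⟨a, ha0, ha1⟩ := P.exists_ne_zero_one
  have hz : ∀ t, t ≠ (0 : F) → P.m1.vec ![t, 0] ∈ V1 ⊓ V2 ∧ P.m1.vec ![t, 0] ≠ 1 := fun t ht =>
    ⟨⟨P.m1.vec_mem _, P.vec_mem_Z t⟩, fun e => ht (by simpa using congrFun (P.m1.vec_eq_one.mp e) 0)⟩
  obtain ⟨m1, n1⟩ := hz 1 one_ne_zero
  obtain ⟨m2, n2⟩ := hz a ha0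
  have hsum : (1 : F) + a ≠ 0 := fun e => ha1 (CharTwo.add_eq_zero.mp e).symm
  obtain ⟨m3, n3⟩ := hz _ hsum
  have hprod : P.m1.vec ![1 + a, 0] = P.m1.vec ![1, 0] * P.m1.vec ![a, 0] := by
    rw [← P.m1.vec_add]; congr 1; ext i; fin_cases i <;> simp
  refine hne ((Subgroup.eq_bot_iff_forall _).mpr fun n hnN => hfix _ m3 n3 n hnN ?_)
  refine (mul_inv_eq_iff_eq_mul.mp ?_ : P.m1.vec ![1 + a, 0] * n = n * P.m1.vec ![1 + a, 0]).symm
  rw [hprod, show P.m1.vec ![1, 0] * P.m1.vec ![a, 0] * n * (P.m1.vec ![1, 0] * P.m1.vec ![a, 0])⁻¹ =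
    P.m1.vec ![1, 0] * (P.m1.vec ![a, 0] * n * (P.m1.vec ![a, 0])⁻¹) * (P.m1.vec ![1, 0])⁻¹ by group,
    hinv _ m2 n2 n hnN, hinv _ m1 n1 _ (inv_mem hnN), inv_inv]

/-- The conclusion for `q ≥ 8`. -/
theorem gfitting_iso (h8 : 8 ≤ Nat.card F) :
    Nonempty (↥(Cfsg.generalizedFittingSubgroup G) ≃* Matrix.ProjectiveSpecialLinearGroup (Fin 3) F) := by
  classical
  haveI : Fact (Nat.Prime 2) := ⟨Nat.prime_two⟩
  haveI := P.simple_G0 h8
  obtain ⟨⟨e⟩, -, a, ha, b, hb, hab⟩ := P.iso_psl h8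
  set G0 := L1 ⊔ L2
  have hJG := P.J_le_G0
  set K : Subgroup G := sInf {N : Subgroup G | N.Normal ∧ N ≠ ⊥} with hK
  have hG0K : G0 ≤ K := le_sInf fun N ⟨hN, hN1⟩ =>
    P.le_of_normalized h8 hN1 (by rw [Subgroup.normalizer_eq_top]; exact le_top)
  haveI hKn : K.Normal := ⟨fun x hx g => by
    rw [hK, Subgroup.mem_sInf] at hx ⊢
    exact fun N hN => hN.1.conj_mem x (hx N hN) g⟩
  have hG0ne : G0 ≠ ⊥ := fun h => hab (by
    have h1 : a = 1 := Subgroup.mem_bot.mp (h ▸ hJG (P.V1_le_J ha))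
    rw [h1]; exact Commute.one_right _)
  have hKne : K ≠ ⊥ := fun h => hG0ne (le_bot_iff.mp (h ▸ hG0K))
  have hKsimple : IsSimpleGroup ↥K := by
    haveI : Nontrivial ↥K := (Subgroup.nontrivial_iff_ne_bot K).mpr hKne
    refine ⟨fun X hX => ?_⟩
    by_cases hbot : X = ⊥
    · exact Or.inl hbot
    refine Or.inr ?_
    set X' := X.map K.subtype with hX'
    have hX'ne : X' ≠ ⊥ := fun h =>
      hbot ((Subgroup.map_eq_bot_iff_of_injective X K.subtype_injective).mp h)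
    have hcore : G0 ≤ X'.normalCore := by
      intro x hx g
      have hge : G0 ≤ X'.comap (MulAut.conj g).toMonoidHom := by
        refine P.le_of_normalized h8 ?_ fun k hk => mem_normalizer_of_conj fun y hy => ?_
        · intro h
          refine hX'ne ((Subgroup.eq_bot_iff_forall _).mpr fun y hy => ?_)
          have hy' : g⁻¹ * y * g ∈ X'.comap (MulAut.conj g).toMonoidHom := by
            show g * (g⁻¹ * y * g) * g⁻¹ ∈ X'
            convert hy using 1
            group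
          rw [h, Subgroup.mem_bot] at hy'
          calc y = g * (g⁻¹ * y * g) * g⁻¹ := by group
            _ = 1 := by rw [hy', mul_one, mul_inv_cancel]
        · show g * (k * y * k⁻¹) * g⁻¹ ∈ X'
          obtain ⟨w, hw, e⟩ := (hy : g * y * g⁻¹ ∈ X')
          refine ⟨⟨g * k * g⁻¹, hKn.conj_mem k (hG0K hk) g⟩ * w * (⟨g * k * g⁻¹, hKn.conj_mem k (hG0K hk) g⟩)⁻¹,
            hX.conj_mem w hw _, ?_⟩
          show g * k * g⁻¹ * (K.subtype w) * (g * k * g⁻¹)⁻¹ = _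
          rw [e, show (MulAut.conj g).toMonoidHom y = g * y * g⁻¹ from rfl]; group
      exact hge hx
    have hK_le : K ≤ X'.normalCore :=
      sInf_le ⟨X'.normalCore_normal, fun h => hG0ne (le_bot_iff.mp (h ▸ hcore))⟩
    rw [eq_top_iff]
    intro x _
    obtain ⟨w, hw, e⟩ := (hK_le.trans X'.normalCore_le) x.2
    exact K.subtype_injective e ▸ hw
  have haK : a ∈ K := hG0K (hJG (P.V1_le_J ha))
  have hbK : b ∈ K := hG0K (hJG (P.V2_le_J hb))
  have hKG0 : K = G0 := by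
    refine le_antisymm ?_ hG0K
    set M := Subgroup.normalizer (G0 : Set G)
    by_cases hKM : K ≤ M
    · have hn : (G0.subgroupOf K).Normal := Subgroup.normal_subgroupOf_of_le_normalizer hKM
      rcases hn.eq_bot_or_eq_top with h | h
      · exact absurd (le_bot_iff.mp fun x hx => by
          have : (⟨x, hG0K hx⟩ : K) ∈ G0.subgroupOf K := hx
          rw [h, Subgroup.mem_bot] at this
          exact congrArg Subtype.val this) hG0ne
      · exact Subgroup.subgroupOf_eq_top.mp h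
    exfalso
    have hJK : J ≤ K := hJG.trans hG0K
    obtain ⟨S, hS⟩ := (P.J_pGroup.of_equiv (Subgroup.subgroupOfEquivOfLe hJK).symm).exists_le_sylow
    set R := (S : Subgroup K).map K.subtype
    have hRp : IsPGroup 2 R := S.isPGroup'.map _
    have hRJ := P.le_normalizer_J hRp (fun y hy => ⟨⟨y, hJK hy⟩, hS hy, rfl⟩)
    obtain ⟨z, hz, hz1, hfix⟩ := exists_ne_one_fixed (V := V1 ⊓ V2) hRp (P.V1_pGroup.to_le inf_le_left)
      (fun h => by
        have := P.card_Z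
        rw [h, Subgroup.card_bot] at this
        omega)
      (fun r hr => mem_normalizer_of_conj fun w hw => P.conj_mem_Z (hRJ hr) hw)
    have hzJ : z ∈ J := P.V1_le_J hz.1
    have D := P.outerData h8 hz hz1
    have hzz : z * z = 1 := P.m1.mul_self hz.1
    obtain ⟨H, hH⟩ := S1175.result (G := ↥K) (M.subgroupOf K) (fun h => hKM (Subgroup.subgroupOf_eq_top.mp h))
      ⟨z, hJK hzJ⟩ (orderOf_eq_prime (Subtype.ext (show z ^ 2 = 1 by rw [pow_two, hzz]))
        fun e => hz1 (congrArg Subtype.val e))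
      (D.leM (D.le0 D.zG0))
      ⟨S, hS hzJ, fun s hs => Subtype.ext
        (mul_inv_eq_iff_eq_mul.mp (hfix _ ⟨s, hs, rfl⟩) : (s : G) * z = z * s)⟩
      (fun g hg => (D.isolated hzz (g := (g : G)) hg).1)
      (fun g hc hne x hx => D.cent_prod hzz (g := (g : G)) (congrArg Subtype.val hc)
        (fun e => hne (Subtype.ext e))
        (congrArg Subtype.val (Subgroup.mem_centralizer_singleton_iff.mp hx)))
    have ha2 : orderOf (⟨a, haK⟩ : K) = 2 := by
      refine orderOf_eq_prime (Subtype.ext (show a ^ 2 = 1 by rw [pow_two, P.m1.mul_self ha])) fun e => hab ?_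
      rw [show a = 1 from congrArg Subtype.val e]
      exact Commute.one_right _
    have := Core2.commute_of_se hH (P.J_pGroup.of_equiv (Subgroup.subgroupOfEquivOfLe hJK).symm) ha2
      (show (⟨a, haK⟩ : K) ∈ J.subgroupOf K from P.V1_le_J ha)
      (show (⟨b, hbK⟩ : K) ∈ J.subgroupOf K from P.V2_le_J hb)
    exact hab (congrArg Subtype.val this : a * b = b * a).symm
  have hna : ¬ IsMulCommutative K := fun h =>
    hab (congrArg Subtype.val (h.is_comm.comm (⟨b, hbK⟩ : K) ⟨a, haK⟩) : b * a = a * b)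
  have hC : Subgroup.centralizer (K : Set G) = ⊥ := by
    by_contra hne
    have h := P.le_of_normalized h8 hne (fun k hk => by
      rw [Subgroup.normalizer_eq_top]; exact Subgroup.mem_top _)
    exact hab ((Subgroup.mem_centralizer_iff.mp (h (hJG (P.V1_le_J ha))) b hbK))
  rw [Spor.ONan.gfitting_eq_of_simple K hKsimple hna hC]
  exact ⟨(MulEquiv.subgroupCongr hKG0).trans e⟩

end Pair

end Cfsg.Agent.Invol.NatPair
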