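import Cfsg.Agent.Lib.Invol.CharP

/-!
# Stabilizers of invariant chains in the 2-core
-/

set_option autoImplicit false
set_option linter.unusedSectionVars false

namespace Cfsg.Agent.Invol.NatPair

universe u

variable {G : Type u} [Group G] [Finite G]

/-- `Q` behaves as `O₂(C)` of a group `C` of characteristic 2. -/
structure IsCore (C Q : Subgroup G) : Prop where
  le : Q ≤ C
  two : IsPGroup 2 Q
  norm : ∀ c ∈ C, ∀ x ∈ Q, c * x * c⁻¹ ∈ Q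
  cent : ∀ c ∈ C, (∀ x ∈ Q, Commute c x) → c ∈ Q
  max : ∀ W : Subgroup G, W ≤ C → IsPGroup 2 W → (∀ c ∈ C, ∀ x ∈ W, c * x * c⁻¹ ∈ W) → W ≤ Q

/-- An element stabilizing an invariant chain `Z₀ ≤ P₀ ≤ Q` lies in `Q`. -/
theorem IsCore.mem_of_stab {C Q : Subgroup G} (h : IsCore C Q) {Z0 P0 : Subgroup G} (hZP : Z0 ≤ P0)
    (hPQ : P0 ≤ Q) (hZ : ∀ c ∈ C, ∀ x ∈ Z0, c * x * c⁻¹ ∈ Z0) (hP : ∀ c ∈ C, ∀ x ∈ P0, c * x * c⁻¹ ∈ P0)
    {x : G} (hx : x ∈ C) (h1 : ∀ z ∈ Z0, Commute x z) (h2 : ∀ p ∈ P0, x * p * x⁻¹ * p⁻¹ ∈ Z0)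
    (h3 : ∀ q ∈ Q, x * q * x⁻¹ * q⁻¹ ∈ P0) : x ∈ Q := by
  let W : Subgroup G :=
    { carrier := {y | y ∈ C ∧ (∀ z ∈ Z0, Commute y z) ∧ (∀ p ∈ P0, y * p * y⁻¹ * p⁻¹ ∈ Z0) ∧
        ∀ q ∈ Q, y * q * y⁻¹ * q⁻¹ ∈ P0}
      one_mem' := ⟨one_mem _, fun z _ => Commute.one_left z, fun p _ => by simp, fun q _ => by simp⟩
      mul_mem' := by
        rintro a b ⟨ha, a1, a2, a3⟩ ⟨hb, b1, b2, b3⟩
        refine ⟨mul_mem ha hb, fun z hz => (a1 z hz).mul_left (b1 z hz), fun p hp => ?_, fun q hq => ?_⟩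
        · rw [show a * b * p * (a * b)⁻¹ * p⁻¹ = a * (b * p * b⁻¹ * p⁻¹) * a⁻¹ * (a * p * a⁻¹ * p⁻¹) by group]
          exact mul_mem (hZ a ha _ (b2 p hp)) (a2 p hp)
        · rw [show a * b * q * (a * b)⁻¹ * q⁻¹ = a * (b * q * b⁻¹ * q⁻¹) * a⁻¹ * (a * q * a⁻¹ * q⁻¹) by group]
          exact mul_mem (hP a ha _ (b3 q hq)) (a3 q hq)
      inv_mem' := by
        rintro a ⟨ha, a1, a2, a3⟩
        refine ⟨inv_mem ha, fun z hz => (a1 z hz).inv_left, fun p hp => ?_, fun q hq => ?_⟩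
        · rw [show a⁻¹ * p * a⁻¹⁻¹ * p⁻¹ = a⁻¹ * (a * p * a⁻¹ * p⁻¹)⁻¹ * a⁻¹⁻¹ by group]
          exact hZ _ (inv_mem ha) _ (inv_mem (a2 p hp))
        · rw [show a⁻¹ * q * a⁻¹⁻¹ * q⁻¹ = a⁻¹ * (a * q * a⁻¹ * q⁻¹)⁻¹ * a⁻¹⁻¹ by group]
          exact hP _ (inv_mem ha) _ (inv_mem (a3 q hq)) }
  refine h.max W (fun y hy => hy.1) ?_ ?_ ⟨hx, h1, h2, h3⟩
  · rintro ⟨y, hy⟩
    obtain ⟨k, m, hm, hk⟩ := Nat.exists_eq_two_pow_mul_odd (orderOf_pos y).ne'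
    refine ⟨k, Subtype.ext ?_⟩
    show y ^ 2 ^ k = 1
    set v := y ^ 2 ^ k with hv
    obtain ⟨hvC, v1, v2, v3⟩ := pow_mem hy (2 ^ k)
    have hcop : (orderOf v).Coprime 2 := by
      have : orderOf v ∣ m := orderOf_dvd_of_pow_eq_one (by rw [hv, ← pow_mul, ← hk, pow_orderOf_eq_one])
      exact (Nat.coprime_two_right.mpr hm).coprime_dvd_left this
    have hpow : ∀ z ∈ Q, ∃ j : ℕ, z ^ 2 ^ j = 1 := fun z hz => by
      obtain ⟨j, hj⟩ := h.two ⟨z, hz⟩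
      exact ⟨j, congrArg Subtype.val hj⟩
    have hPc : ∀ p ∈ P0, Commute v p := fun p hp => by
      obtain ⟨j, hj⟩ := hpow _ (hPQ (hZP (v2 p hp)))
      exact Invol.commute_of_stabilises hcop hj (v1 _ (v2 p hp)) (inv_mul_cancel_right _ _).symm
    have hQc : ∀ q ∈ Q, Commute v q := fun q hq => by
      obtain ⟨j, hj⟩ := hpow _ (hPQ (v3 q hq))
      exact Invol.commute_of_stabilises hcop hj (hPc _ (v3 q hq)) (inv_mul_cancel_right _ _).symm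
    obtain ⟨j, hj⟩ := hpow v (h.cent v hvC hQc)
    have hd := orderOf_dvd_of_pow_eq_one hj
    exact orderOf_eq_one_iff.mp (Nat.eq_one_of_dvd_coprimes (hcop.pow_right j) dvd_rfl hd)
  · rintro c hc y ⟨hy, y1, y2, y3⟩
    have hci := C.inv_mem hc
    refine ⟨mul_mem (mul_mem hc hy) hci, fun z hz => ?_, fun p hp => ?_, fun q hq => ?_⟩
    · have := (y1 _ (hZ _ hci z hz)).map (MulAut.conj c).toMonoidHom
      simp only [MulEquiv.coe_toMonoidHom, MulAut.conj_apply] at this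
      rwa [show c * (c⁻¹ * z * c⁻¹⁻¹) * c⁻¹ = z by group] at this
    · have := hZ c hc _ (y2 _ (hP _ hci p hp))
      convert this using 1; group
    · have := hP c hc _ (y3 _ (h.norm _ hci q hq))
      convert this using 1; group

end Cfsg.Agent.Invol.NatPair
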