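import Cfsg.Agent.Lib.Invol.NatPair.Kernel
import Cfsg.Agent.Lib.Invol.NatPair.Stab

/-!
# The centralizer of an involution of `Z` normalizes `J`, for fields of at least eight elements
-/

set_option autoImplicit false
set_option linter.unusedSectionVars false
set_option linter.style.haveILetI false

namespace Cfsg.Agent.Invol.NatPair

open Matrix Cfsg.Agent.Grp.SL2

universe u v

variable {G : Type u} [Group G] [Finite G] {F : Type v} [Field F] [Finite F] [CharP F 2]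

namespace Pair

variable {L1 L2 V1 V2 J T : Subgroup G} (P : Pair L1 L2 V1 V2 J T F)

/-- Every element of the common normalizer centralizing `Z` normalizes `X`. -/
def KInv (_ : Pair L1 L2 V1 V2 J T F) (X : Subgroup G) : Prop :=
  ∀ n ∈ both V1 V2, (∀ z ∈ V1 ⊓ V2, Commute n z) → ∀ x ∈ X, n * x * n⁻¹ ∈ X

include P

theorem KInv.swap {X : Subgroup G} (h : P.KInv X) : P.swap.KInv X := fun n hn hc =>
  h n (P.both_swap ▸ hn) fun z hz => hc z ⟨hz.2, hz.1⟩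

theorem mem_normalizer_J_of_conj {n : G} (h : ∀ x ∈ J, n * x * n⁻¹ ∈ Subgroup.normalizer (J : Set G)) :
    n ∈ Subgroup.normalizer (J : Set G) := by
  refine mem_normalizer_of_conj fun x hx => ?_
  have hV : ∀ {V : Subgroup G}, V ≤ J → (∀ v ∈ V, v * v = 1) → Nat.card V = Nat.card F * Nat.card F →
      ∀ v ∈ V, n * v * n⁻¹ ∈ J := by
    intro V hVJ h2 hc v hv
    refine P.le_J_of_big (E := V.map (MulAut.conj n).toMonoidHom) ?_ ?_
      ((Subgroup.card_map_of_injective (MulAut.conj n).injective).trans hc) ⟨v, hv, rfl⟩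
    · rintro _ ⟨w, hw, rfl⟩; exact h w (hVJ hw)
    · rintro _ ⟨w, hw, rfl⟩; rw [← map_mul, h2 w hw, map_one]
  obtain ⟨a, ha, b, hb, rfl⟩ := P.exists_mul hx
  rw [show n * (a * b) * n⁻¹ = (n * a * n⁻¹) * (n * b * n⁻¹) by group]
  exact mul_mem (hV P.V1_le_J (fun v hv => P.m1.mul_self hv) P.card_V1 a ha)
    (hV P.V2_le_J (fun v hv => P.m2.mul_self hv) P.swap.card_V1 b hb)

/-- An invariant subgroup meeting `V1` outside `Z` covers `V1/Z`. -/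
theorem axis_full (h8 : 8 ≤ Nat.card F) {X : Subgroup G} (hX : P.KInv X) {x0 : G} (h0 : x0 ∈ X)
    (h01 : x0 ∈ V1) (h02 : x0 ∉ V2) {a : G} (ha : a ∈ V1) : ∃ x ∈ X, x ∈ V1 ∧ x⁻¹ * a ∈ V2 := by
  let S : AddSubgroup F :=
    { carrier := {s | ∃ x ∈ X, x ∈ V1 ∧ P.m1.co x 1 = s}
      zero_mem' := ⟨1, one_mem _, one_mem _, by rw [P.m1.co_one]; rfl⟩
      add_mem' := by
        rintro _ _ ⟨x, hx, hx1, rfl⟩ ⟨y, hy, hy1, rfl⟩
        exact ⟨x * y, mul_mem hx hy, mul_mem hx1 hy1, by rw [P.m1.co_mul hx1 hy1, Pi.add_apply]⟩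
      neg_mem' := by
        rintro _ ⟨x, hx, hx1, rfl⟩
        exact ⟨x, hx, hx1, (CharTwo.neg_eq _).symm⟩ }
  have hS : ∀ c : F, c ≠ 0 → ∀ s ∈ S, c ^ 3 * s ∈ S := by
    rintro c hc _ ⟨x, hx, hx1, rfl⟩
    obtain ⟨n, hn, hd⟩ := P.exists_kernel hc
    refine ⟨n * x * n⁻¹, hX n hn.1 (fun z hz => P.InK_comm_Z hn hz.1 hz.2) x hx,
      (Subgroup.mem_normalizer_iff.mp hn.1.1 x).mp hx1, ?_⟩
    rw [P.conj_V1_co hn.1 hn.2.1 hx1, hd, mul_comm]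
  have htop := cube_invariant_eq_top h8 S hS ⟨x0, h0, h01, rfl⟩ fun e => h02 ((P.mem_Z_iff h01).mpr e)
  obtain ⟨x, hx, hx1, e⟩ : P.m1.co a 1 ∈ S := htop ▸ AddSubgroup.mem_top _
  refine ⟨x, hx, hx1, (P.mem_Z_iff (mul_mem (inv_mem hx1) ha)).mpr ?_⟩
  rw [P.m1.co_mul (inv_mem hx1) ha, P.m1.co_inv hx1, Pi.add_apply, e, CharTwo.add_self_eq_zero]

theorem le_of_two_axes (h8 : 8 ≤ Nat.card F) {X : Subgroup G} (hX : P.KInv X) {x y : G} (hx : x ∈ X)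
    (hx1 : x ∈ V1) (hx2 : x ∉ V2) (hy : y ∈ X) (hy2 : y ∈ V2) (hy1 : y ∉ V1) : J ≤ X := by
  have hZ : ∀ z ∈ V1, z ∈ V2 → z ∈ X := by
    intro z hz1 hz2
    obtain ⟨b, hb, hρ⟩ := P.exists_b (P.m1.co z 0)
    obtain ⟨a', ha', ha'1, hd⟩ := P.axis_full h8 hX hx hx1 hx2 (P.m1.vec_mem ![0, 1])
    have hco : P.m1.co a' 1 = 1 := by
      have := (P.mem_Z_iff (mul_mem (inv_mem ha'1) (P.m1.vec_mem _))).mp hd
      rw [P.m1.co_mul (inv_mem ha'1) (P.m1.vec_mem _), P.m1.co_inv ha'1, P.m1.co_vec] at this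
      exact CharTwo.add_eq_zero.mp (by simpa using this)
    obtain ⟨b', hb', hb'2, hd'⟩ := P.swap.axis_full h8 hX.swap hy hy2 hy1 hb
    have hbL := P.m1.Jle (P.V2_le_J hb'2)
    have hρ' : P.m1.ρ ⟨b', hbL⟩ = up (P.m1.co z 0) := by
      have hm : b'⁻¹ * b ∈ V1 := hd'
      have e := congrArg P.m1.ρ (show (⟨b, P.V2_le_L1 hb⟩ : L1) = ⟨b', hbL⟩ * ⟨b'⁻¹ * b, P.m1.le hm⟩ from
        Subtype.ext (mul_inv_cancel_left b' b).symm)
      rw [map_mul, (P.m1.ker ⟨b'⁻¹ * b, P.m1.le hm⟩).mpr hm, mul_one, hρ] at e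
      exact e.symm
    have := P.conj_up hbL hρ' ha'1
    rw [hco, mul_one, ← P.Z_eq_vec hz1 hz2] at this
    rw [← this]
    exact mul_mem (mul_mem (mul_mem hb' ha') (inv_mem hb')) (inv_mem ha')
  intro g hg
  obtain ⟨a, ha, b, hb, rfl⟩ := P.exists_mul hg
  obtain ⟨a', ha', ha'1, hd⟩ := P.axis_full h8 hX hx hx1 hx2 ha
  obtain ⟨b', hb', hb'2, hd'⟩ := P.swap.axis_full h8 hX.swap hy hy2 hy1 hb
  have e1 := mul_mem ha' (hZ _ (mul_mem (inv_mem ha'1) ha) hd)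
  have e2 := mul_mem hb' (hZ _ hd' (mul_mem (inv_mem hb'2) hb))
  rw [mul_inv_cancel_left] at e1 e2
  exact mul_mem e1 e2

theorem comm_mem_Z {x y : G} (hx : x ∈ J) (hy : y ∈ J) :
    x * y * x⁻¹ * y⁻¹ ∈ V1 ∧ x * y * x⁻¹ * y⁻¹ ∈ V2 := by
  have key : ∀ {M1 M2 W1 W2 : Subgroup G} (R : Pair M1 M2 W1 W2 J T F), x * y * x⁻¹ * y⁻¹ ∈ W1 := by
    intro M1 M2 W1 W2 R
    obtain ⟨s, hs⟩ := R.exists_up hx
    obtain ⟨t, ht⟩ := R.exists_up hy
    refine (R.m1.ker (⟨x, R.m1.Jle hx⟩ * ⟨y, R.m1.Jle hy⟩ * (⟨x, R.m1.Jle hx⟩)⁻¹ *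
      (⟨y, R.m1.Jle hy⟩)⁻¹)).mp ?_
    rw [map_mul, map_mul, map_mul, map_inv, map_inv, hs, ht, mul_assoc, ← _root_.mul_inv_rev, up_mul, up_mul,
      add_comm t s, mul_inv_cancel]
  exact ⟨key P, key P.swap⟩

/-- In an invariant subgroup meeting neither axis, only elements of `Z` are central. -/
theorem mem_Z_of_central (h8 : 8 ≤ Nat.card F) {X : Subgroup G} (hXJ : X ≤ J) (hX : P.KInv X)
    (h1 : ∀ x ∈ X, x ∈ V1 → x ∈ V2) (h2 : ∀ x ∈ X, x ∈ V2 → x ∈ V1) {w : G} (hw : w ∈ X)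
    (hc : ∀ x ∈ X, Commute w x) : w ∈ V1 ∧ w ∈ V2 := by
  obtain ⟨k, hk, -, hd⟩ := P.exists_kernel_ne h8
  obtain ⟨a, ha, b, hb, rfl⟩ := P.exists_mul (hXJ hw)
  obtain ⟨t, ht⟩ := P.exists_up (P.V2_le_J hb)
  set a' := k * a * k⁻¹
  set b' := k * b * k⁻¹
  have ha' : a' ∈ V1 := (Subgroup.mem_normalizer_iff.mp hk.1.1 a).mp ha
  have hb'2 : b' ∈ V2 := (Subgroup.mem_normalizer_iff.mp hk.1.2 b).mp hb
  have hw' : a' * b' ∈ X := by
    have := hX k hk.1 (fun z hz => P.InK_comm_Z hk hz.1 hz.2) _ hw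
    convert this using 1
    simp only [a', b']; group
  have hcomm := hc _ hw'
  have hb'L : b' ∈ L1 := P.V2_le_L1 hb'2
  have ht' := P.conj_up_param hk.1 (P.V2_le_J hb) ht hb'L
  rw [hk.2.1, hk.2.2, mul_one] at ht'
  have hbL : b ∈ L1 := P.V2_le_L1 hb
  have c1 := P.conj_up hbL ht ha'
  have c2 := P.conj_up hb'L ht' ha
  rw [P.conj_V1_co hk.1 hk.2.1 ha] at c1
  set z1 := P.m1.vec ![t * (P.m1.co a 1 * P.delta k), 0]
  set z2 := P.m1.vec ![t / P.delta k * P.m1.co a 1, 0]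
  have hz1 : ∀ y ∈ J, Commute z1 y := fun y hy => P.Z_central (P.m1.vec_mem _) (P.vec_mem_Z _) hy
  have hz2 : ∀ y ∈ J, Commute z2 y := fun y hy => P.Z_central (P.m1.vec_mem _) (P.vec_mem_Z _) hy
  have e1 : (a * b) * (a' * b') = (a * a' * (b * b')) * z1 := by
    have e : b * a' = a' * b * z1 := by
      rw [← (hz1 _ (mul_mem (P.V1_le_J ha') (P.V2_le_J hb))).eq, ← c1]; group
    calc a * b * (a' * b') = a * (b * a') * b' := by group
      _ = a * a' * b * (z1 * b') := by rw [e]; group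
      _ = a * a' * (b * b') * z1 := by rw [(hz1 b' (P.V2_le_J hb'2)).eq]; group
  have e2 : (a' * b') * (a * b) = (a * a' * (b * b')) * z2 := by
    have e : b' * a = a * b' * z2 := by
      rw [← (hz2 _ (mul_mem (P.V1_le_J ha) (P.V2_le_J hb'2))).eq, ← c2]; group
    calc a' * b' * (a * b) = a' * (b' * a) * b := by group
      _ = (a' * a) * b' * (z2 * b) := by rw [e]; group
      _ = a * a' * (b' * b) * z2 := by rw [(hz2 b (P.V2_le_J hb)).eq, P.m1.mul_comm_V ha' ha]; group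
      _ = a * a' * (b * b') * z2 := by rw [P.m2.mul_comm_V hb'2 hb]
  have hz : z1 = z2 := mul_left_cancel (e1.symm.trans (hcomm.eq.trans e2))
  have hd0 := P.delta_ne_zero hk.1
  have he := congrFun (P.m1.vec_inj hz) 0
  simp only [Matrix.cons_val_zero] at he
  have hprod : t * P.m1.co a 1 = 0 := by
    by_contra hne
    refine hd ?_
    field_simp at he ⊢
    have : t * P.m1.co a 1 * (P.delta k ^ 2 - 1) = 0 := by linear_combination he
    linear_combination (mul_eq_zero.mp this).resolve_left hne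
  rcases mul_eq_zero.mp hprod with h | h
  · have hb1 := (P.mem_V1_iff_up _ ht).mpr h
    have := mul_mem ha hb1
    exact ⟨this, h1 _ hw this⟩
  · have ha2 := (P.mem_Z_iff ha).mpr h
    have := mul_mem ha2 hb
    exact ⟨h2 _ hw this, this⟩

section Core

variable {z : G} {C Q : Subgroup G}

theorem both_inf_le (hzZ : z ∈ V1 ⊓ V2) (hC : ∀ g, g ∈ C ↔ Commute g z) (hQ : IsCore C Q)
    (h8 : 8 ≤ Nat.card F) (hJQ : ¬ J ≤ Q) : Q ⊓ both V1 V2 ≤ J := by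
  intro f hf
  by_contra hfJ
  have hKinv : P.KInv Q := fun n hn hc x hx => hQ.norm n ((hC n).mpr (hc z hzZ)) x hx
  obtain ⟨k, hk⟩ := hQ.two ⟨f, hf.1⟩
  have hk' : f ^ 2 ^ k = 1 := congrArg Subtype.val hk
  have key : ∀ {M1 M2 W1 W2 : Subgroup G} (R : Pair M1 M2 W1 W2 J T F), f ∈ both W1 W2 →
      ∃ x ∈ Q, x ∈ W1 ∧ x ∉ W2 := by
    intro M1 M2 W1 W2 R hfb
    obtain ⟨c, hc⟩ := R.exists_moved hfb hfJ hk'
    by_contra h
    push Not at h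
    have hσ : ∀ t : F, R.m1.σ f t * R.delta f = t := fun t => by
      have ha := R.m1.vec_mem ![0, t]
      set a := R.m1.vec ![0, t] with hadef
      have hfa : f * a * f⁻¹ ∈ W1 := (Subgroup.mem_normalizer_iff.mp hfb.1 a).mp ha
      have hm : f * a * f⁻¹ * a⁻¹ ∈ Q := by
        have haC : a ∈ C := (hC a).mpr (P.Z_central hzZ.1 hzZ.2 (R.V1_le_J ha)).symm
        have := Q.mul_mem hf.1 (hQ.norm a haC _ (Q.inv_mem hf.1))
        convert this using 1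
        group
      have h2 := (R.mem_Z_iff (mul_mem hfa (inv_mem ha))).mp (h _ hm (mul_mem hfa (inv_mem ha)))
      rw [R.m1.co_mul hfa (inv_mem ha), R.m1.co_inv ha, hadef, R.m1.co_vec,
        show R.m1.co (f * R.m1.vec ![0, t] * f⁻¹) = R.m1.mov f ![0, t] from rfl, R.mov_eq hfb] at h2
      exact CharTwo.add_eq_zero.mp (by simpa using h2)
    have h1 := hσ 1
    rw [R.m1.σ_one hfb.1 (R.nL1 hfb.1), one_mul] at h1
    exact hc (by simpa [h1] using hσ c)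
  obtain ⟨x, hx, hx1, hx2⟩ := key P hf.2
  obtain ⟨y, hy, hy2, hy1⟩ := key P.swap (P.both_swap.symm ▸ hf.2)
  exact hJQ (P.le_of_two_axes h8 hKinv hx hx1 hx2 hy hy2 hy1)

theorem le_normalizer_of_axis (hzZ : z ∈ V1 ⊓ V2) (hz1 : z ≠ 1) (hC : ∀ g, g ∈ C ↔ Commute g z)
    (hQ : IsCore C Q) (h8 : 8 ≤ Nat.card F) (hJQ : ¬ J ≤ Q) (hQJ : Q ≤ Subgroup.normalizer (J : Set G))
    {x : G} (hx : x ∈ Q) (hx1 : x ∈ V1) (hx2 : x ∉ V2) : C ≤ Subgroup.normalizer (J : Set G) := by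
  have hKinv : P.KInv Q := fun n hn hc x hx => hQ.norm n ((hC n).mpr (hc z hzZ)) x hx
  have hno2 : ∀ y ∈ Q, y ∈ V2 → y ∈ V1 := fun y hy hy2 => by
    by_contra hy1
    exact hJQ (P.le_of_two_axes h8 hKinv hx hx1 hx2 hy hy2 hy1)
  have hQb : Q ≤ both V1 V2 := fun h hh => by
    by_contra hb
    have h1 : h * x * h⁻¹ ∈ V2 := P.conj_V1 (hQJ hh) hb hx1
    have h2 := hno2 _ (mul_mem (mul_mem hh hx) (inv_mem hh)) h1
    have e : h⁻¹ * (h * x * h⁻¹) * h⁻¹⁻¹ = x := by group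
    exact hx2 (e ▸ P.conj_V1 (inv_mem (hQJ hh)) (fun e' => hb (by simpa using (both V1 V2).inv_mem e')) h2)
  have hQV : Q ≤ V1 := fun y hy => by
    have hyJ := P.both_inf_le hzZ hC hQ h8 hJQ ⟨hy, hQb hy⟩
    obtain ⟨a, ha, b, hb, rfl⟩ := P.exists_mul hyJ
    obtain ⟨a', ha', ha'1, hd⟩ := P.axis_full h8 hKinv hx hx1 hx2 ha
    have hm : a'⁻¹ * (a * b) ∈ V2 := by rw [← mul_assoc]; exact mul_mem hd hb
    have := mul_mem ha'1 (hno2 _ (mul_mem (inv_mem ha') hy) hm)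
    rwa [mul_inv_cancel_left] at this
  have hVQ : V1 ≤ Q := fun v hv => hQ.cent v ((hC v).mpr (P.m1.mul_comm_V hv hzZ.1))
    fun w hw => P.m1.mul_comm_V hv (hQV hw)
  obtain rfl : Q = V1 := le_antisymm hQV hVQ
  intro c hc
  have hc1 : c ∈ Subgroup.normalizer (Q : Set G) := mem_normalizer_of_conj (hQ.norm c hc)
  refine mem_normalizer_of_conj fun y hy => ?_
  have hz0 : P.m1.co z 0 ≠ 0 := fun e => hz1 (by
    rw [P.Z_eq_vec hzZ.1 hzZ.2, e, P.m1.vec_eq_one]; ext i; fin_cases i <;> rfl)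
  have hcomm : Commute (c * y * c⁻¹) z :=
    (((hC c).mp hc).mul_left (P.Z_central hzZ.1 hzZ.2 hy).symm).mul_left ((hC c).mp hc).inv_left
  refine P.m1.mem_J_of_fix ⟨_, (Subgroup.mem_normalizer_iff.mp (P.nL1 hc1) y).mp (P.m1.Jle hy)⟩ hz0 ?_
  rw [← P.Z_eq_vec hzZ.1 hzZ.2, hcomm.eq, mul_inv_cancel_right]

theorem le_of_no_axis (hzZ : z ∈ V1 ⊓ V2) (hC : ∀ g, g ∈ C ↔ Commute g z) (hQ : IsCore C Q)
    (h8 : 8 ≤ Nat.card F) (hQJ : Q ≤ Subgroup.normalizer (J : Set G))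
    (h1 : ∀ x ∈ Q, x ∈ V1 → x ∈ V2) (h2 : ∀ x ∈ Q, x ∈ V2 → x ∈ V1) : J ≤ Q := by
  by_contra hJQ
  have hJC : J ≤ C := fun x hx => (hC x).mpr (P.Z_central hzZ.1 hzZ.2 hx).symm
  have hb := P.both_inf_le hzZ hC hQ h8 hJQ
  have hKinv : P.KInv Q := fun n hn hc x hx => hQ.norm n ((hC n).mpr (hc z hzZ)) x hx
  have hPinv : P.KInv (Q ⊓ J) := fun n hn hc x hx =>
    ⟨hKinv n hn hc x hx.1, (Subgroup.mem_normalizer_iff.mp (P.both_le_normalizer_J hn) x).mp hx.2⟩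
  have hcen : ∀ w ∈ Q, w ∈ J → (∀ x ∈ Q, x ∈ J → Commute w x) → w ∈ V1 ∧ w ∈ V2 := fun w hw hwJ hc =>
    P.mem_Z_of_central h8 inf_le_right hPinv (fun x hx => h1 x hx.1) (fun x hx => h2 x hx.1) ⟨hw, hwJ⟩
      fun x hx => hc x hx.1 hx.2
  have hjQ : ∀ j ∈ J, ∀ q ∈ Q, j * q * j⁻¹ * q⁻¹ ∈ Q := fun j hj q hq =>
    mul_mem (hQ.norm j (hJC hj) q hq) (inv_mem hq)
  have hjJ : ∀ j ∈ J, ∀ q ∈ Q, j * q * j⁻¹ * q⁻¹ ∈ J := fun j hj q hq => by
    rw [mul_assoc, mul_assoc, ← mul_assoc q]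
    exact mul_mem hj ((Subgroup.mem_normalizer_iff.mp (hQJ hq) _).mp (inv_mem hj))
  set Zc := Q ⊓ Subgroup.centralizer (Q : Set G) with hZc
  have hZcmem : ∀ w ∈ Zc, ∀ x ∈ Q, Commute w x := fun w hw x hx =>
    (Subgroup.mem_centralizer_iff.mp hw.2 x hx).symm
  have hZcC : ∀ c ∈ C, ∀ x ∈ Zc, c * x * c⁻¹ ∈ Zc := fun c hc x hx =>
    ⟨hQ.norm c hc x hx.1, Subgroup.mem_centralizer_iff.mpr fun q hq => by
      have e := (hZcmem x hx _ (hQ.norm _ (inv_mem hc) q hq))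
      calc q * (c * x * c⁻¹) = c * ((c⁻¹ * q * c⁻¹⁻¹) * x) * c⁻¹ := by group
        _ = c * (x * (c⁻¹ * q * c⁻¹⁻¹)) * c⁻¹ := by rw [e.eq]
        _ = c * x * c⁻¹ * q := by group⟩
  by_cases hQb : Q ≤ both V1 V2
  · have hQJ' : Q ≤ J := fun q hq => hb ⟨hq, hQb hq⟩
    have hZQ : ∀ w, w ∈ V1 → w ∈ V2 → w ∈ Q := fun w hw1 hw2 =>
      hQ.cent w (hJC (P.V1_le_J hw1)) fun q hq => P.Z_central hw1 hw2 (hQJ' hq)
    have hZcZ : ∀ w ∈ Zc, w ∈ V1 ∧ w ∈ V2 := fun w hw =>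
      hcen w hw.1 (hQJ' hw.1) fun x hx _ => hZcmem w hw x hx
    have hZle : ∀ w, w ∈ V1 → w ∈ V2 → w ∈ Zc := fun w hw1 hw2 =>
      ⟨hZQ w hw1 hw2, Subgroup.mem_centralizer_iff.mpr fun q hq => (P.Z_central hw1 hw2 (hQJ' hq)).eq.symm⟩
    refine hJQ fun j hj => hQ.mem_of_stab (Z0 := Zc) (P0 := Q) inf_le_left le_rfl hZcC hQ.norm (hJC hj)
      (fun w hw => ((P.Z_central (hZcZ w hw).1 (hZcZ w hw).2 hj)).symm) (fun q hq => ?_) (hjQ j hj)
    obtain ⟨e1, e2⟩ := P.comm_mem_Z hj (hQJ' hq)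
    exact hZle _ e1 e2
  obtain ⟨h, hh, hhb⟩ := SetLike.not_le_iff_exists.mp hQb
  have hhJ : h ∈ Subgroup.normalizer (J : Set G) := hQJ hh
  have hh2 : h * h ∈ J := hb ⟨mul_mem hh hh, P.mul_mem_both hhJ hhJ hhb hhb⟩
  obtain ⟨k, hk, -, hkd⟩ := P.exists_kernel_ne h8
  have hkC : k ∈ C := (hC k).mpr (P.InK_comm_Z hk hzZ.1 hzZ.2)
  have hkh : h * k * h⁻¹ * k⁻¹ ∈ J := by
    have e1 : h * k * h⁻¹ * k⁻¹ ∈ Q := by
      have := mul_mem hh (hQ.norm k hkC _ (inv_mem hh))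
      convert this using 1
      group
    refine hb ⟨e1, mul_mem (P.mem_both_of_J (mul_mem (mul_mem hhJ (P.both_le_normalizer_J hk.1)) (inv_mem hhJ))
      (mem_normalizer_of_conj fun v hv => ?_)) ((both V1 V2).inv_mem hk.1)⟩
    have hb' : h⁻¹ ∉ both V1 V2 := fun e => hhb (by simpa using (both V1 V2).inv_mem e)
    have h' : h⁻¹ * v * h⁻¹⁻¹ ∈ V2 := P.conj_V1 (inv_mem hhJ) hb' hv
    have := P.swap.conj_V1 hhJ (by rwa [P.both_swap]) ((Subgroup.mem_normalizer_iff.mp hk.1.2 _).mp h')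
    convert this using 1
    group
  have hmv := P.swapper_moves_Z hhJ hhb hh2 hk hkd hkh
  have hfix := P.card_fixed_Z hhJ hhb hh2 hmv
  -- swappers of `Q` act on `Z` as `h` does
  have hsw : ∀ q ∈ Q, q ∉ both V1 V2 → ∀ w, w ∈ V1 → w ∈ V2 → q * w * q⁻¹ = h * w * h⁻¹ := by
    intro q hq hqb w hw1 hw2
    have hqh : h⁻¹ * q ∈ J := hb ⟨Q.mul_mem (Q.inv_mem hh) hq,
      P.mul_mem_both (inv_mem hhJ) (hQJ hq) (fun e => hhb (by simpa using (both V1 V2).inv_mem e)) hqb⟩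
    calc q * w * q⁻¹ = h * ((h⁻¹ * q) * w * (h⁻¹ * q)⁻¹) * h⁻¹ := by group
      _ = h * w * h⁻¹ := by rw [← (P.Z_central hw1 hw2 hqh).eq, mul_inv_cancel_right]
  have hZcZ : ∀ w ∈ Zc, w ∈ V1 ∧ w ∈ V2 := by
    intro w hw
    by_cases hwb : w ∈ both V1 V2
    · exact hcen w hw.1 (hb ⟨hw.1, hwb⟩) fun x hx _ => hZcmem w hw x hx
    exfalso
    obtain ⟨a, ha, ha2⟩ := P.exists_V1_not_V2
    have haJ := P.V1_le_J ha
    have hp : a * w * a⁻¹ * w⁻¹ ∈ Zc := mul_mem (hZcC a (hJC haJ) w hw) (inv_mem hw)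
    have hpJ : a * w * a⁻¹ * w⁻¹ ∈ J := hjJ a haJ w hw.1
    obtain ⟨-, e2⟩ := hcen _ hp.1 hpJ fun x hx _ => hZcmem _ hp x hx
    have hb2 : w * a⁻¹ * w⁻¹ ∈ V2 := P.conj_V1 (hQJ hw.1) hwb (inv_mem ha)
    exact ha2 (by
      have := mul_mem e2 (inv_mem hb2)
      convert this using 1
      group)
  have hZQ : ∀ w, w ∈ V1 → w ∈ V2 → w ∈ Q := by
    intro w hw1 hw2
    have hwJ := P.V1_le_J hw1
    have hmem : ∀ q ∈ Q, w * q * w⁻¹ * q⁻¹ ∈ Zc := by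
      intro q hq
      refine ⟨hjQ w hwJ q hq, Subgroup.mem_centralizer_iff.mpr fun x hx => ?_⟩
      by_cases hqb : q ∈ both V1 V2
      · rw [(P.Z_central hw1 hw2 (hb ⟨hq, hqb⟩)).eq, mul_inv_cancel_right, mul_inv_cancel, mul_one, one_mul]
      obtain ⟨c1, c2⟩ := P.conj_Z hhJ hhb (inv_mem hw1) (inv_mem hw2)
      have e : w * q * w⁻¹ * q⁻¹ = w * (h * w⁻¹ * h⁻¹) := by
        rw [← hsw q hq hqb _ (inv_mem hw1) (inv_mem hw2)]; group
      rw [e]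
      by_cases hxb : x ∈ both V1 V2
      · exact ((P.Z_central (mul_mem hw1 c1) (mul_mem hw2 c2) (hb ⟨hx, hxb⟩))).eq.symm
      refine mul_inv_eq_iff_eq_mul.mp ?_
      rw [hsw x hx hxb _ (mul_mem hw1 c1) (mul_mem hw2 c2), P.m1.inv_eq hw1]
      calc h * (w * (h * w * h⁻¹)) * h⁻¹ = h * w * h⁻¹ * ((h * h) * w * (h * h)⁻¹) := by group
        _ = h * w * h⁻¹ * w := by rw [← (P.Z_central hw1 hw2 hh2).eq, mul_inv_cancel_right]
        _ = w * (h * w * h⁻¹) := P.m1.mul_comm_V (P.conj_Z hhJ hhb hw1 hw2).1 hw1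
    exact hQ.mem_of_stab (Z0 := Zc) (P0 := Q) inf_le_left le_rfl hZcC hQ.norm (hJC hwJ)
      (fun v hv => P.Z_central hw1 hw2 (P.V1_le_J (hZcZ v hv).1)) hmem (hjQ w hwJ)
  -- `Z` is the only elementary subgroup of order `q` of `Q`
  have huniq : ∀ E : Subgroup G, E ≤ Q → (∀ x ∈ E, x * x = 1) → Nat.card E = Nat.card F → E ≤ V1 ⊓ V2 := by
    intro E hE hE2 hEq
    have hEb : ∀ x ∈ E, x ∈ both V1 V2 → x ∈ V1 ⊓ V2 := fun x hx hxb =>
      (P.mem_or_mem (hb ⟨hE hx, hxb⟩) (hE2 x hx)).elim (fun e => ⟨e, h1 x (hE hx) e⟩)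
        fun e => ⟨h2 x (hE hx) e, e⟩
    intro x hx
    by_cases hxb : x ∈ both V1 V2
    · exact hEb x hx hxb
    exfalso
    have hcomm : ∀ a ∈ E, Commute x a := fun a ha => by
      show x * a = a * x
      rw [eq_inv_of_mul_eq_one_left (hE2 _ (mul_mem hx ha)), _root_.mul_inv_rev,
        inv_eq_of_mul_eq_one_left (hE2 a ha), inv_eq_of_mul_eq_one_left (hE2 x hx)]
    have s1 : Nat.card E ≤ 2 * Nat.card (E ⊓ both V1 V2 : Subgroup G) :=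
      card_le_two_mul E _ fun a ha b hb' ha' hb'' => by
        rw [inv_eq_of_mul_eq_one_left (hE2 a ha)]
        exact P.mul_mem_both (hQJ (hE ha)) (hQJ (hE hb')) ha' hb''
    have s2 : (E ⊓ both V1 V2 : Subgroup G) ≤ V1 ⊓ V2 ⊓ Subgroup.centralizer {h} := by
      intro y hy
      have hyZ := hEb y hy.1 hy.2
      refine ⟨hyZ, Subgroup.mem_centralizer_singleton_iff.mpr ?_⟩
      refine (mul_inv_eq_iff_eq_mul.mp ?_).symm
      rw [← hsw x (hE hx) hxb y hyZ.1 hyZ.2, (hcomm y hy.1).eq, mul_inv_cancel_right]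
    have := Subgroup.card_le_of_le s2
    rw [hEq] at s1
    nlinarith
  have hZC : ∀ c ∈ C, ∀ x ∈ V1 ⊓ V2, c * x * c⁻¹ ∈ V1 ⊓ V2 := fun c hc x hx => by
    refine huniq ((V1 ⊓ V2).map (MulAut.conj c).toMonoidHom) ?_ ?_
      ((Subgroup.card_map_of_injective (MulAut.conj c).injective).trans P.card_Z) ⟨x, hx, rfl⟩
    · rintro _ ⟨v, hv, rfl⟩; exact hQ.norm c hc v (hZQ v hv.1 hv.2)
    · rintro _ ⟨v, hv, rfl⟩; rw [← map_mul, P.m1.mul_self hv.1, map_one]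
  set P0 := Q ⊓ Subgroup.centralizer ((V1 ⊓ V2 : Subgroup G) : Set G) with hP0
  have hP0J : P0 ≤ J := by
    intro q hq
    by_contra hqJ
    have hqb : q ∉ both V1 V2 := fun e => hqJ (hb ⟨hq.1, e⟩)
    obtain ⟨w, hw, hwc⟩ := hmv
    refine hwc (mul_inv_eq_iff_eq_mul.mp ?_)
    rw [← hsw q hq.1 hqb w hw.1 hw.2, ← Subgroup.mem_centralizer_iff.mp hq.2 w hw, mul_inv_cancel_right]
  refine hJQ fun j hj => hQ.mem_of_stab (Z0 := V1 ⊓ V2) (P0 := P0) ?_ inf_le_left hZC ?_ (hJC hj)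
    (fun w hw => (P.Z_central hw.1 hw.2 hj).symm) (fun p hp => P.comm_mem_Z hj (hP0J hp)) fun q hq => ?_
  · exact fun w hw => ⟨hZQ w hw.1 hw.2, Subgroup.mem_centralizer_iff.mpr fun v hv => P.m1.mul_comm_V hv.1 hw.1⟩
  · intro c hc q hq
    refine ⟨hQ.norm c hc q hq.1, Subgroup.mem_centralizer_iff.mpr fun v hv => ?_⟩
    have e := Subgroup.mem_centralizer_iff.mp hq.2 _ (hZC _ (inv_mem hc) v hv)
    calc v * (c * q * c⁻¹) = c * ((c⁻¹ * v * c⁻¹⁻¹) * q) * c⁻¹ := by group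
      _ = c * (q * (c⁻¹ * v * c⁻¹⁻¹)) * c⁻¹ := by rw [e]
      _ = c * q * c⁻¹ * v := by group
  · exact ⟨hjQ j hj q hq, Subgroup.mem_centralizer_iff.mpr fun v hv =>
      (P.Z_central hv.1 hv.2 (hjJ j hj q hq)).eq⟩

end Core

/-- `C(z) ≤ N(J)` for every involution `z` of `Z`. -/
theorem centralizer_Z_le (h8 : 8 ≤ Nat.card F) {z : G} (hz : z ∈ V1 ⊓ V2) (hz1 : z ≠ 1) {c : G}
    (hc : Commute c z) : c ∈ Subgroup.normalizer (J : Set G) := by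
  haveI : Fact (Nat.Prime 2) := ⟨Nat.prime_two⟩
  set N := Subgroup.normalizer ((Subgroup.zpowers z : Subgroup G) : Set G)
  set Q := (Cfsg.pCore 2 N).map N.subtype with hQdef
  have hz2 : z * z = 1 := P.m1.mul_self hz.1
  have hN : ∀ g, g ∈ N ↔ Commute g z := by
    intro g
    constructor
    · intro hg
      have hord : orderOf z = 2 := orderOf_eq_prime (by rw [pow_two, hz2]) hz1
      obtain ⟨i, hi⟩ := (Subgroup.mem_normalizer_iff.mp hg z).mp (Subgroup.mem_zpowers z)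
      rw [show (fun x => z ^ x) i = z ^ i from rfl, ← zpow_mod_orderOf, hord] at hi
      rcases Int.emod_two_eq i with h | h
      · rw [show i % ((2 : ℕ) : ℤ) = 0 from h, zpow_zero] at hi
        exact absurd (conj_eq_one_iff.mp hi.symm) hz1
      · rw [show i % ((2 : ℕ) : ℤ) = 1 from h, zpow_one] at hi
        exact mul_inv_eq_iff_eq_mul.mp hi.symm
    · intro hg
      refine mem_normalizer_of_conj fun x hx => ?_
      obtain ⟨i, rfl⟩ := hx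
      show g * z ^ i * g⁻¹ ∈ _
      rw [(hg.zpow_right i).eq, mul_inv_cancel_right]
      exact zpow_mem (Subgroup.mem_zpowers z) i
  have hzp : IsPGroup 2 (Subgroup.zpowers z) := by
    refine IsPGroup.of_card (n := 1) ?_
    rw [Nat.card_zpowers, pow_one, orderOf_eq_prime (by rw [pow_two, hz2]) hz1]
  have hcore : IsCore N Q :=
    { le := Subgroup.map_subtype_le _
      two := Grp.pCore_isPGroup.map _
      norm := by
        rintro g hg _ ⟨x, hx, rfl⟩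
        exact ⟨_, (Grp.pCore_isNormal (p := 2)).conj_mem x hx ⟨g, hg⟩, rfl⟩
      cent := fun g hg h =>
        ⟨⟨g, hg⟩, P.char2.2 _ hzp (Subgroup.zpowers_ne_bot.mpr hz1) (Subgroup.mem_centralizer_iff.mpr fun x hx =>
          Subtype.ext (h _ ⟨x, hx, rfl⟩).eq.symm), rfl⟩
      max := fun W hW hW2 hWn x hx => by
        haveI : (W.subgroupOf N).Normal := ⟨fun a ha b => hWn b b.2 _ ha⟩
        exact ⟨⟨x, hW hx⟩, Grp.le_pCore inferInstance (hW2.of_equiv (Subgroup.subgroupOfEquivOfLe hW).symm) hx,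
          rfl⟩ }
  have hJN : J ≤ N := fun x hx => (hN x).mpr (P.Z_central hz.1 hz.2 hx).symm
  have hsup : IsPGroup 2 (J ⊔ Q : Subgroup G) :=
    P.J_pGroup.to_sup_of_normal_right' hcore.two fun x hx => mem_normalizer_of_conj (hcore.norm x (hJN hx))
  have hQJ : Q ≤ Subgroup.normalizer (J : Set G) := le_sup_right.trans (P.le_normalizer_J hsup le_sup_left)
  suffices N ≤ Subgroup.normalizer (J : Set G) from this ((hN c).mpr hc)
  by_cases hJQ : J ≤ Q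
  · exact fun g hg => P.mem_normalizer_J_of_conj fun x hx => hQJ (hcore.norm g hg x (hJQ hx))
  by_cases hax1 : ∃ x ∈ Q, x ∈ V1 ∧ x ∉ V2
  · obtain ⟨x, hx, hx1, hx2⟩ := hax1
    exact P.le_normalizer_of_axis hz hz1 hN hcore h8 hJQ hQJ hx hx1 hx2
  by_cases hax2 : ∃ x ∈ Q, x ∈ V2 ∧ x ∉ V1
  · obtain ⟨x, hx, hx1, hx2⟩ := hax2
    exact P.swap.le_normalizer_of_axis ⟨hz.2, hz.1⟩ hz1 hN hcore h8 hJQ hQJ hx hx1 hx2
  push Not at hax1 hax2
  exact absurd (P.le_of_no_axis hz hN hcore h8 hQJ hax1 hax2) hJQ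

end Pair

end Cfsg.Agent.Invol.NatPair
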