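import Mathlib

/-!
# Fixed points of an involutive and of a semilinear additive map
-/

set_option autoImplicit false
set_option linter.unusedSectionVars false

namespace Cfsg.Agent.Invol.NatPair

universe u v

variable {M : Type u} [AddCommGroup M]

/-- An involutive map of an elementary abelian group fixes at least a square root of its order. -/
theorem card_le_fixed_sq [Finite M] (f : M →+ M) (h2 : ∀ x : M, x + x = 0) (hf : ∀ x, f (f x) = x) :
    Nat.card M ≤ Nat.card {x : M // f x = x} * Nat.card {x : M // f x = x} := by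
  let g : M →+ M := f + AddMonoidHom.id M
  have hk : ∀ x, x ∈ g.ker ↔ f x = x := fun x => by
    rw [AddMonoidHom.mem_ker]
    show f x + x = 0 ↔ _
    exact ⟨fun h => add_right_cancel (h.trans (h2 x).symm), fun h => by rw [h, h2]⟩
  have hr : ∀ y ∈ g.range, f y = y := by
    rintro _ ⟨x, rfl⟩
    show f (f x + x) = f x + x
    rw [map_add, hf, add_comm]
  rw [← g.ker.card_mul_index, AddSubgroup.index_ker]
  refine Nat.mul_le_mul (Nat.le_of_eq (Nat.card_congr (Equiv.subtypeEquivRight hk))) ?_
  exact Nat.card_le_card_of_injective (fun y : g.range => (⟨y, hr y y.2⟩ : {x : M // f x = x}))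
    fun a b e => Subtype.ext (congrArg Subtype.val e :)

variable {F : Type v} [Field F] [Module F M]

/-- The fixed points of a semilinear map whose automorphism moves `c` are at most a square root. -/
theorem fixed_sq_le_card [Finite M] (f : M →+ M) (τ : F → F) (hs : ∀ (a : F) x, f (a • x) = τ a • f x)
    {c : F} (hc : τ c ≠ c) :
    Nat.card {x : M // f x = x} * Nat.card {x : M // f x = x} ≤ Nat.card M := by
  rw [← Nat.card_prod]
  refine Nat.card_le_card_of_injective (fun p => (p.1 : M) + c • (p.2 : M)) ?_
  rintro ⟨⟨w, hw⟩, ⟨w', hw'⟩⟩ ⟨⟨u, hu⟩, ⟨u', hu'⟩⟩ (h : w + c • w' = u + c • u')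
  have h' : w - u = c • (u' - w') := by rw [smul_sub, sub_eq_sub_iff_add_eq_add, h, add_comm]
  have hd : τ c • (u' - w') = c • (u' - w') := by
    have e := congrArg f h'
    rwa [hs, map_sub, map_sub, hw, hu, hw', hu', h', eq_comm] at e
  have hz : u' - w' = 0 := by
    have := sub_smul (τ c) c (u' - w')
    rw [hd, sub_self] at this
    exact (smul_eq_zero.mp this).resolve_left (sub_ne_zero.mpr hc)
  obtain rfl := sub_eq_zero.mp hz
  rw [sub_self, smul_zero, sub_eq_zero] at h'
  subst h'
  rfl

end Cfsg.Agent.Invol.NatPair
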