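import Cfsg.Agent.Lib.Invol.NatPair.Torus

/-!
# Involutions normalizing the torus and interchanging two root subgroups
-/

set_option autoImplicit false
set_option linter.unusedSectionVars false
set_option linter.style.haveILetI false

namespace Cfsg.Agent.Invol.NatPair

open Matrix Cfsg.Agent.Grp.SL2
open Cfsg.Agent.Invol.Nat2 (mulVec_up)
open Cfsg.Agent.Invol.SL2Nat (wel)

universe u v

variable {G : Type u} [Group G] [Finite G] {F : Type v} [Field F] [Finite F] [CharP F 2]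

/-- The two Weyl involutions of a torus. -/
structure Weyl {L1 L2 V1 V2 J T : Subgroup G} {P : Pair L1 L2 V1 V2 J T F} (D : Torus P) where
  s1 : G
  s2 : G
  m1 : s1 ∈ L1
  m2 : s2 ∈ L2
  sq1 : s1 * s1 = 1
  sq2 : s2 * s2 = 1
  h1 : ∀ h ∈ D.H, s1 * h * s1⁻¹ ∈ D.H
  h2 : ∀ h ∈ D.H, s2 * h * s2⁻¹ ∈ D.H
  a1 : ∀ h ∈ D.H, P.alpha (s1 * h * s1⁻¹) = P.delta h ∧ P.delta (s1 * h * s1⁻¹) = P.alpha h
  a2 : ∀ h ∈ D.H, P.alpha (s2 * h * s2⁻¹) = P.alpha h / P.delta h ∧ P.delta (s2 * h * s2⁻¹) = (P.delta h)⁻¹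
  w1 : ∀ t, s1 * D.x13 t * s1⁻¹ = D.x23 t
  w2 : ∀ t, s2 * D.x13 t * s2⁻¹ = D.x12 t
  ρ1 : ∀ hs : s1 ∈ L1, P.m1.ρ ⟨s1, hs⟩ = up D.s0 * wel * up D.s0

namespace Torus

variable {L1 L2 V1 V2 J T : Subgroup G} {P : Pair L1 L2 V1 V2 J T F} (D : Torus P)
include D

theorem fixed_V1 {h : G} (hh : h ∈ D.H) (hα : P.alpha h ≠ 1) (hδ : P.delta h ≠ 1) {v : G} (hv : v ∈ V1)
    (hc : h * v * h⁻¹ = v) : v = 1 := by
  rw [← P.m1.vec_co hv, D.vec_split] at hc ⊢
  set a := P.m1.co v 0 + P.m1.co v 1 * D.s0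
  set b := P.m1.co v 1
  have e : D.x13 (P.alpha h * a) * D.x23 (P.delta h * b) = D.x13 a * D.x23 b := by
    rw [← D.conj_x13 hh, ← D.conj_x23 hh]
    conv_rhs => rw [← hc]
    group
  have hb : b = 0 := by
    have := congrArg (fun y => P.m1.co y 1) e
    simp only [P.m1.co_mul (D.x13_mem _).1 (D.x23_mem _), Pi.add_apply, D.co_x23] at this
    rw [show P.m1.co (D.x13 (P.alpha h * a)) 1 = 0 by rw [x13, P.m1.co_vec]; rfl,
      show P.m1.co (D.x13 a) 1 = 0 by rw [x13, P.m1.co_vec]; rfl, zero_add, zero_add] at this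
    exact (mul_left_eq_self₀.mp this).resolve_left hδ
  rw [hb, mul_zero] at e
  have ha : a = 0 := (mul_left_eq_self₀.mp (D.x13_inj (mul_right_cancel e))).resolve_left hα
  rw [ha, hb, D.x23_eq, x13, zero_mul, show (![0, 0] : Fin 2 → F) = 0 by ext i; fin_cases i <;> rfl,
    P.m1.vec_zero, mul_one]

theorem x13_zero : D.x13 0 = 1 := by
  rw [x13, show (![0, 0] : Fin 2 → F) = 0 by ext i; fin_cases i <;> rfl, P.m1.vec_zero]

theorem x23_zero : D.x23 0 = 1 := by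
  rw [D.x23_eq, zero_mul, show (![0, 0] : Fin 2 → F) = 0 by ext i; fin_cases i <;> rfl, P.m1.vec_zero]

theorem ext_V1 {x y : G} (hx : x ∈ Subgroup.normalizer (V1 : Set G)) (hy : y ∈ Subgroup.normalizer (V1 : Set G))
    (h13 : ∀ t, x * D.x13 t * x⁻¹ = y * D.x13 t * y⁻¹) (h23 : ∀ t, x * D.x23 t * x⁻¹ = y * D.x23 t * y⁻¹) :
    x⁻¹ * y ∈ V1 := by
  refine P.centralizer_V1 (Subgroup.mem_centralizer_iff.mpr fun v hv => ?_)
  refine (mul_inv_eq_iff_eq_mul.mp ?_).symm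
  rw [← P.m1.vec_co hv, D.vec_split]
  set a := P.m1.co v 0 + P.m1.co v 1 * D.s0
  set b := P.m1.co v 1
  calc x⁻¹ * y * (D.x13 a * D.x23 b) * (x⁻¹ * y)⁻¹
      = x⁻¹ * ((y * D.x13 a * y⁻¹) * (y * D.x23 b * y⁻¹)) * x := by group
    _ = _ := by rw [← h13, ← h23]; group

/-- The involution interchanging the two eigenlines on `V1`. -/
theorem exists_weyl_one (h8 : 8 ≤ Nat.card F) :
    ∃ s : G, ∃ hs : s ∈ L1, s * s = 1 ∧ (∀ h ∈ D.H, s * h * s⁻¹ ∈ D.H) ∧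
      (∀ h ∈ D.H, P.alpha (s * h * s⁻¹) = P.delta h ∧ P.delta (s * h * s⁻¹) = P.alpha h) ∧
      (∀ t, s * D.x13 t * s⁻¹ = D.x23 t) ∧ P.m1.ρ ⟨s, hs⟩ = up D.s0 * wel * up D.s0 := by
  classical
  haveI := Fintype.ofFinite F
  obtain ⟨w, hw⟩ := P.m1.exists_lift (up D.s0 * wel * up D.s0)
  have hwN : (w : G) ∈ Subgroup.normalizer (V1 : Set G) := P.m1.norm w.2
  have hwv : ∀ x, (w : G) * P.m1.vec x * (w : G)⁻¹ =
      P.m1.vec ![(x 0 + D.s0 * x 1) * D.s0 + x 1, x 0 + D.s0 * x 1] := by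
    intro x
    rw [P.m1.conj_vec, hw, coe_mulVec, coe_mulVec, mulVec_up, mulVec_wel, mulVec_up]
    congr 1
    ext i; fin_cases i <;> simp [CharTwo.neg_eq] <;> ring
  have w13 : ∀ t, (w : G) * D.x13 t * (w : G)⁻¹ = D.x23 t := fun t => by
    rw [x13, hwv, D.x23_eq]; congr 1; ext i; fin_cases i <;> simp
  have w23 : ∀ t, (w : G) * D.x23 t * (w : G)⁻¹ = D.x13 t := fun t => by
    rw [D.x23_eq, hwv, x13]; congr 1; ext i; fin_cases i
    · simp only [Fin.zero_eta, Matrix.cons_val_zero, Matrix.cons_val_one]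
      linear_combination (D.s0 * D.s0 * t) * (CharTwo.two_eq_zero (R := F))
    · simp only [Fin.mk_one, Matrix.cons_val_zero, Matrix.cons_val_one]
      linear_combination (D.s0 * t) * (CharTwo.two_eq_zero (R := F))
  have w13' : ∀ t, (w : G)⁻¹ * D.x13 t * (w : G)⁻¹⁻¹ = D.x23 t := fun t => by rw [← w23 t]; group
  have w23' : ∀ t, (w : G)⁻¹ * D.x23 t * (w : G)⁻¹⁻¹ = D.x13 t := fun t => by rw [← w13 t]; group
  have step : ∀ h ∈ D.H, ∃ h' ∈ D.H, P.alpha h' = P.delta h ∧ P.delta h' = P.alpha h ∧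
      h'⁻¹ * ((w : G) * h * (w : G)⁻¹) ∈ V1 := by
    intro h hh
    set n := (w : G) * h * (w : G)⁻¹ with hn
    have n13 : ∀ t, n * D.x13 t * n⁻¹ = D.x13 (P.delta h * t) := fun t => by
      have := D.conj_x23 hh t
      calc n * D.x13 t * n⁻¹ = (w : G) * (h * ((w : G)⁻¹ * D.x13 t * (w : G)⁻¹⁻¹) * h⁻¹) * (w : G)⁻¹ := by
            rw [hn]; group
        _ = _ := by rw [w13', this, w23]
    have n23 : ∀ t, n * D.x23 t * n⁻¹ = D.x23 (P.alpha h * t) := fun t => by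
      have := D.conj_x13 hh t
      calc n * D.x23 t * n⁻¹ = (w : G) * (h * ((w : G)⁻¹ * D.x23 t * (w : G)⁻¹⁻¹) * h⁻¹) * (w : G)⁻¹ := by
            rw [hn]; group
        _ = _ := by rw [w23', this, w13]
    have hnN : n ∈ Subgroup.normalizer (V1 : Set G) := mul_mem (mul_mem hwN (D.mem hh).1) (inv_mem hwN)
    have hline : ∀ t, P.m1.mov n ![t, 0] = ![P.delta h * t, 0] := fun t => P.m1.vec_inj (by
      rw [← P.m1.vec_mov hnN]; exact n13 t)
    have hnb : n ∈ both V1 V2 := by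
      refine P.mem_both_of_J (mem_normalizer_of_conj fun x hx => ?_) hnN
      have hxL : n * x * n⁻¹ ∈ L1 := (Subgroup.mem_normalizer_iff.mp (P.nL1 hnN) x).mp (P.m1.Jle hx)
      refine P.m1.mem_J_of_fix ⟨_, hxL⟩ (z := P.delta h) (P.delta_ne_zero (D.mem hh)) ?_
      show n * x * n⁻¹ * P.m1.vec ![P.delta h, 0] * (n * x * n⁻¹)⁻¹ = _
      have e := n13 1
      rw [mul_one] at e
      rw [show P.m1.vec ![P.delta h, 0] = n * D.x13 1 * n⁻¹ from e.symm]
      calc n * x * n⁻¹ * (n * D.x13 1 * n⁻¹) * (n * x * n⁻¹)⁻¹ = n * (x * D.x13 1 * x⁻¹) * n⁻¹ := by group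
        _ = _ := by rw [← (P.Z_central (D.x13_mem 1).1 (D.x13_mem 1).2 hx).eq, mul_inv_cancel_right]
    have hl : P.Lin n := fun c => P.m1.σ_eq_of hnN (P.nL1 hnN) c c (x := ![1, 0])
      (fun e => one_ne_zero (α := F) (by simpa using congrFun e 0))
      (by rw [show c • (![1, 0] : Fin 2 → F) = ![c, 0] by ext i; fin_cases i <;> simp, hline, hline]
          ext i; fin_cases i <;> simp [mul_comm])
    have hα : P.alpha n = P.delta h := by simp [Pair.alpha, hline]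
    have hδ : P.delta n = P.alpha h := by
      have e := P.conj_V1_co hnb hl (D.x23_mem 1)
      rw [n23, D.co_x23, D.co_x23, mul_one, one_mul] at e
      exact e.symm
    obtain ⟨h', hh', e1, e2⟩ := D.exists_of_coords hnb hl
    refine ⟨h', hh', e1.trans hα, e2.trans hδ, D.ext_V1 (D.mem hh').1 hnN (fun t => ?_) fun t => ?_⟩
    · rw [D.conj_x13 hh', n13, e1, hα]
    · rw [D.conj_x23 hh', n23, e2, hδ]
  obtain ⟨a, ha0, ha1⟩ := P.exists_ne_zero_one
  obtain ⟨h0, hh0, e0, d0⟩ := D.exists_torus1 ha0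
  obtain ⟨h1, hh1, f1, g1, hv⟩ := step h0 hh0
  have hai : a⁻¹ ≠ 1 := fun e => ha1 (inv_eq_one.mp e)
  have hα1 : P.alpha h1 ≠ 1 := by rw [f1, d0]; exact hai
  have hδ1 : P.delta h1 ≠ 1 := by rw [g1, e0]; exact ha1
  set v := h1⁻¹ * ((w : G) * h0 * (w : G)⁻¹) with hvdef
  have hN1 := (D.mem hh1).1
  let f : V1 → V1 := fun y => ⟨(y : G) * (h1 * (y : G) * h1⁻¹),
    mul_mem y.2 ((Subgroup.mem_normalizer_iff.mp hN1 _).mp y.2)⟩
  have hfi : Function.Injective f := by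
    intro y y' e
    have e' : (y : G) * (h1 * (y : G) * h1⁻¹) = (y' : G) * (h1 * (y' : G) * h1⁻¹) := congrArg Subtype.val e
    have hm : (y : G)⁻¹ * y' ∈ V1 := mul_mem (inv_mem y.2) y'.2
    refine Subtype.ext (inv_mul_eq_one.mp (D.fixed_V1 hh1 hα1 hδ1 hm ?_))
    have hy' : h1 * (y' : G) * h1⁻¹ ∈ V1 := (Subgroup.mem_normalizer_iff.mp hN1 _).mp y'.2
    have hy : h1 * (y : G) * h1⁻¹ ∈ V1 := (Subgroup.mem_normalizer_iff.mp hN1 _).mp y.2
    have e2 : h1 * (y : G) * h1⁻¹ = (y : G)⁻¹ * y' * (h1 * (y' : G) * h1⁻¹) := by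
      rw [mul_assoc (y : G)⁻¹, ← e', inv_mul_cancel_left]
    calc h1 * ((y : G)⁻¹ * y') * h1⁻¹ = (h1 * (y : G) * h1⁻¹)⁻¹ * (h1 * (y' : G) * h1⁻¹) := by group
      _ = (h1 * (y : G) * h1⁻¹) * (h1 * (y' : G) * h1⁻¹) := by rw [P.m1.inv_eq hy]
      _ = (y : G)⁻¹ * y' * ((h1 * (y' : G) * h1⁻¹) * (h1 * (y' : G) * h1⁻¹)) := by rw [e2]; group
      _ = (y : G)⁻¹ * y' := by rw [P.m1.mul_self hy', mul_one]
  obtain ⟨⟨u, hu⟩, hfu⟩ := (Finite.injective_iff_surjective.mp hfi)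
    ⟨h1 * v * h1⁻¹, (Subgroup.mem_normalizer_iff.mp hN1 _).mp hv⟩
  have hfu' : u * (h1 * u * h1⁻¹) = h1 * v * h1⁻¹ := congrArg Subtype.val hfu
  set s := u⁻¹ * (w : G) with hsdef
  have hs : s ∈ L1 := mul_mem (inv_mem (P.m1.le hu)) w.2
  have hsN := P.m1.norm hs
  have sconj : ∀ y ∈ V1, s * y * s⁻¹ = (w : G) * y * (w : G)⁻¹ := fun y hy => by
    have hm : (w : G) * y * (w : G)⁻¹ ∈ V1 := P.m1.conj_mem w.2 hy
    calc s * y * s⁻¹ = u⁻¹ * ((w : G) * y * (w : G)⁻¹) * u := by rw [hsdef]; group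
      _ = _ := by rw [mul_assoc, P.m1.mul_comm_V hm hu, inv_mul_cancel_left]
  have hs0 : s * h0 * s⁻¹ = h1 := by
    have e1 : (w : G) * h0 * (w : G)⁻¹ = h1 * v := by rw [hvdef, mul_inv_cancel_left]
    have e2 : h1 * v = u * h1 * u := by
      calc h1 * v = (h1 * v * h1⁻¹) * h1 := by group
        _ = u * h1 * u := by rw [← hfu']; group
    calc s * h0 * s⁻¹ = u⁻¹ * ((w : G) * h0 * (w : G)⁻¹) * u := by rw [hsdef]; group
      _ = h1 * (u * u) := by rw [e1, e2]; group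
      _ = h1 := by rw [P.m1.mul_self hu, mul_one]
  have hHs : ∀ h ∈ D.H, s * h * s⁻¹ ∈ D.H ∧ P.alpha (s * h * s⁻¹) = P.delta h ∧
      P.delta (s * h * s⁻¹) = P.alpha h := by
    intro h hh
    obtain ⟨h', hh', f', g', hv'⟩ := step h hh
    have hwu : h'⁻¹ * (s * h * s⁻¹) ∈ V1 := by
      set m := (w : G) * h * (w : G)⁻¹
      have hmN : m ∈ Subgroup.normalizer (V1 : Set G) := mul_mem (mul_mem hwN (D.mem hh).1) (inv_mem hwN)
      have e : h'⁻¹ * (s * h * s⁻¹) = (h'⁻¹ * u⁻¹ * h'⁻¹⁻¹) * (h'⁻¹ * m) * u := by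
        rw [hsdef]; simp only [m]; group
      rw [e]
      exact mul_mem (mul_mem ((Subgroup.mem_normalizer_iff.mp (inv_mem (D.mem hh').1) _).mp (inv_mem hu)) hv') hu
    suffices s * h * s⁻¹ = h' by rw [this]; exact ⟨hh', f', g'⟩
    set v' := h'⁻¹ * (s * h * s⁻¹) with hv'def
    have hc : Commute h1 (s * h * s⁻¹) := by
      rw [← hs0]
      exact (D.comm h0 hh0 h hh).map (MulAut.conj s).toMonoidHom
    have hv1 : v' = 1 := D.fixed_V1 hh1 hα1 hδ1 hwu (by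
      have e1 := D.comm h1 hh1 h' hh'
      have : Commute h1 v' := e1.inv_right.mul_right hc
      rw [this.eq, mul_inv_cancel_right])
    exact (inv_mul_eq_one.mp hv1).symm
  refine ⟨s, hs, ?_, fun h hh => (hHs h hh).1, fun h hh => (hHs h hh).2,
    fun t => (sconj _ (D.x13_mem t).1).trans (w13 t), ?_⟩
  · have hss : s * s ∈ V1 := by
      have := D.ext_V1 (one_mem _) (mul_mem hsN hsN) (fun t => ?_) fun t => ?_
      · simpa using this
      · rw [show s * s * D.x13 t * (s * s)⁻¹ = s * (s * D.x13 t * s⁻¹) * s⁻¹ by group,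
          sconj _ (D.x13_mem t).1, w13, sconj _ (D.x23_mem t), w23, one_mul, inv_one, mul_one]
      · rw [show s * s * D.x23 t * (s * s)⁻¹ = s * (s * D.x23 t * s⁻¹) * s⁻¹ by group,
          sconj _ (D.x23_mem t), w23, sconj _ (D.x13_mem t).1, w13, one_mul, inv_one, mul_one]
    obtain ⟨hm1, f2, g2⟩ := hHs h1 hh1
    refine D.fixed_V1 hh1 hα1 hδ1 hss ?_
    have e : s * h1 * s⁻¹ = h0 := D.eq_of_coords hm1 hh0 (by rw [f2, g1]) (by rw [g2, f1])
    have hc : Commute (s * s) h1 := by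
      show s * s * h1 = h1 * (s * s)
      calc s * s * h1 = s * (s * h1 * s⁻¹) * s := by group
        _ = (s * h0 * s⁻¹) * (s * s) := by rw [e]; group
        _ = h1 * (s * s) := by rw [hs0]
    rw [← hc.eq, mul_inv_cancel_right]
  · rw [show (⟨s, hs⟩ : L1) = ⟨u, P.m1.le hu⟩⁻¹ * w from rfl, map_mul, map_inv,
      (P.m1.ker ⟨u, P.m1.le hu⟩).mpr hu, inv_one, one_mul, hw]

theorem L2_coords {h : G} (hh : h ∈ D.H) (hL : h ∈ L2) : P.swap.alpha h * P.swap.delta h = 1 := by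
  have hb : h ∈ both V2 V1 := P.both_swap.symm ▸ D.mem hh
  have hd := det_eq (P.m2.ρ ⟨h, hL⟩)
  have e10 : ((P.m2.ρ ⟨h, hL⟩ : Matrix.SpecialLinearGroup (Fin 2) F) : Matrix (Fin 2) (Fin 2) F) 1 0 = 0 := by
    have := P.swap.mov_line hb 1
    rw [show P.swap.m1.mov h = P.m2.mov ((⟨h, hL⟩ : L2) : G) from rfl, P.m2.mov_L] at this
    simpa [Matrix.mulVec, dotProduct, Fin.sum_univ_two] using this
  rw [e10, mul_zero, sub_zero] at hd
  rw [Pair.alpha, Pair.delta, show P.swap.m1.mov h = P.m2.mov ((⟨h, hL⟩ : L2) : G) from rfl, P.m2.mov_L,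
    P.m2.mov_L]
  simpa [Matrix.mulVec, dotProduct, Fin.sum_univ_two] using hd

theorem exists_weyl (h8 : 8 ≤ Nat.card F) : Nonempty (Weyl D) := by
  obtain ⟨s1, hs1, hq1, hH1, ha1, hw1, hρ1⟩ := D.exists_weyl_one h8
  obtain ⟨s, hs, hq, hH, ha, hw, -⟩ := D.swap.exists_weyl_one h8
  have hπ : ∀ t, ∃ r, s * D.x13 t * s⁻¹ = D.x12 r := by
    intro t
    obtain ⟨h1, h2⟩ := D.x13_mem t
    have e : D.x13 t = D.swap.x13 (P.m2.co (D.x13 t) 0) := P.swap.Z_eq_vec h2 h1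
    rw [e, hw]
    set y := P.swap.m1.vec ![0, P.m2.co (D.x13 t) 0 / (P.swap.delta D.k + 1)] with hy
    have hyV : y ∈ V2 := P.swap.m1.vec_mem _
    refine D.exists_x12_of_comm hyV ?_
    rw [P.m2.inv_eq hyV]
    rfl
  choose π hπ using hπ
  have hadd : ∀ a b, π (a + b) = π a + π b := fun a b => D.x12_inj (by
    rw [← hπ, D.x13_add, D.x12_add, ← hπ, ← hπ]; group)
  have hscal : ∀ h ∈ D.H, ∀ t, π (P.alpha h * t) =
      P.alpha (s * h * s⁻¹) / P.delta (s * h * s⁻¹) * π t := fun h hh t => D.x12_inj (by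
    rw [← hπ, ← D.conj_x13 hh, ← D.conj_x12 (hH h hh), ← hπ]; group)
  have hL2 : ∀ h ∈ D.H, h ∈ L2 → s * h * s⁻¹ = h⁻¹ := by
    intro h hh hL
    have hs2 : s ∈ L2 := hs
    have hm : s * h * s⁻¹ ∈ D.H := hH h hh
    obtain ⟨f, g⟩ := ha h hh
    refine D.swap.eq_of_coords hm (D.H.inv_mem hh) ?_ ?_
    · have e := D.L2_coords hh hL
      have e2 := P.swap.alpha_mul (D.swap.mem hh) (D.swap.mem (D.H.inv_mem hh))
      rw [mul_inv_cancel, P.swap.alpha_one, (D.swap.lin h hh).2] at e2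
      rw [f]
      exact mul_left_cancel₀ (P.swap.alpha_ne_zero (D.swap.mem hh)) (by rw [e, mul_comm]; exact e2)
    · have e := D.L2_coords hh hL
      have e2 := P.swap.delta_mul (D.swap.mem hh) (D.swap.mem (D.H.inv_mem hh))
      rw [mul_inv_cancel, P.swap.delta_one, (D.swap.lin h hh).2] at e2
      rw [g]
      exact mul_right_cancel₀ (P.swap.delta_ne_zero (D.swap.mem hh)) (by rw [e]; exact e2)
  have hlin : ∀ c t, π (c * t) = c * π t := by
    intro c t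
    by_cases hc : c = 0
    · subst hc
      have : π 0 = 0 := by simpa using hadd 0 0
      rw [zero_mul, zero_mul, this]
    · obtain ⟨n, hn, hnL, hl, h1, h2⟩ := P.exists_torus2 hc
      obtain ⟨h, hh, hJ⟩ := D.cover n hn hl
      have hhL : h ∈ L2 := by
        have := L2.mul_mem hnL (L2.inv_mem (P.m2.Jle hJ))
        simpa [mul_assoc] using this
      have e1 : P.alpha h = c := by
        rw [← h1, ← mul_inv_cancel_left h n, P.alpha_mul (D.mem hh) (P.J_le_both hJ), (D.lin h hh).2,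
          (P.coords_J hJ).1, one_mul]
      have e2 : P.delta h = c * c := by
        rw [← h2, ← mul_inv_cancel_left h n, P.delta_mul (D.mem hh) (P.J_le_both hJ), (D.lin h hh).2,
          (P.coords_J hJ).2, one_mul]
      have ei1 := P.alpha_mul (D.mem hh) (D.mem (D.H.inv_mem hh))
      have ei2 := P.delta_mul (D.mem hh) (D.mem (D.H.inv_mem hh))
      rw [mul_inv_cancel, P.alpha_one, (D.lin h hh).2, e1] at ei1
      rw [mul_inv_cancel, P.delta_one, (D.lin h hh).2, e2] at ei2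
      have := hscal h hh t
      rw [e1, hL2 h hh hhL] at this
      rw [this, eq_inv_of_mul_eq_one_left ei1.symm, eq_inv_of_mul_eq_one_left ei2.symm]
      field_simp
  have hπ1 : π 1 ≠ 0 := by
    intro e
    have h0 : π 0 = 0 := by simpa using hadd 0 0
    have := (hπ 1).trans ((congrArg D.x12 (e.trans h0.symm)).trans (hπ 0).symm)
    exact one_ne_zero (D.x13_inj (mul_left_cancel (mul_right_cancel this)))
  obtain ⟨n, hn, hnL, hl, e1, e2⟩ := P.exists_torus2 hπ1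
  obtain ⟨h0, hh0, hJ0⟩ := D.cover n hn hl
  have hh0L : h0 ∈ L2 := by
    have := L2.mul_mem hnL (L2.inv_mem (P.m2.Jle hJ0))
    simpa [mul_assoc] using this
  have f1 : P.alpha h0 = π 1 := by
    rw [← e1, ← mul_inv_cancel_left h0 n, P.alpha_mul (D.mem hh0) (P.J_le_both hJ0), (D.lin h0 hh0).2,
      (P.coords_J hJ0).1, one_mul]
  have f2 : P.delta h0 = π 1 * π 1 := by
    rw [← e2, ← mul_inv_cancel_left h0 n, P.delta_mul (D.mem hh0) (P.J_le_both hJ0), (D.lin h0 hh0).2,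
      (P.coords_J hJ0).2, one_mul]
  set s2 := h0 * s with hs2
  have w2 : ∀ t, s2 * D.x13 t * s2⁻¹ = D.x12 t := fun t => by
    rw [show s2 * D.x13 t * s2⁻¹ = h0 * (s * D.x13 t * s⁻¹) * h0⁻¹ by rw [hs2]; group, hπ, D.conj_x12 hh0,
      f1, f2]
    congr 1
    have := hlin t 1
    rw [mul_one] at this
    rw [this]
    field_simp
  have hq2 : s2 * s2 = 1 := by
    calc s2 * s2 = h0 * (s * h0 * s⁻¹) * (s * s) := by rw [hs2]; group
      _ = 1 := by rw [hL2 h0 hh0 hh0L, hq, mul_inv_cancel, one_mul]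
  have hH2 : ∀ h ∈ D.H, s2 * h * s2⁻¹ ∈ D.H := fun h hh => by
    rw [show s2 * h * s2⁻¹ = h0 * (s * h * s⁻¹) * h0⁻¹ by rw [hs2]; group]
    exact mul_mem (mul_mem hh0 (hH h hh)) (inv_mem hh0)
  have key : ∀ h ∈ D.H, P.alpha (s2 * h * s2⁻¹) / P.delta (s2 * h * s2⁻¹) = P.alpha h := by
    intro h hh
    have e : s2 * h * s2⁻¹ = s * h * s⁻¹ := by
      rw [show s2 * h * s2⁻¹ = h0 * (s * h * s⁻¹) * h0⁻¹ by rw [hs2]; group,
        (D.comm h0 hh0 _ (hH h hh)).eq, mul_inv_cancel_right]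
    rw [e]
    have := hscal h hh 1
    rw [hlin] at this
    exact (mul_right_cancel₀ hπ1 this).symm
  refine ⟨{ s1 := s1, s2 := s2, m1 := hs1, m2 := mul_mem hh0L hs, sq1 := hq1, sq2 := hq2, h1 := hH1,
            h2 := hH2, a1 := ha1, a2 := ?_, w1 := hw1, w2 := w2, ρ1 := fun _ => hρ1 }⟩
  intro h hh
  have hm := hH2 h hh
  have e : s2 * (s2 * h * s2⁻¹) * s2⁻¹ = h := by
    calc s2 * (s2 * h * s2⁻¹) * s2⁻¹ = (s2 * s2) * h * (s2 * s2)⁻¹ := by group
      _ = h := by rw [hq2, one_mul, inv_one, mul_one]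
  have k1 := key h hh
  have k2 := key _ hm
  rw [e] at k2
  have hd := P.delta_ne_zero (D.mem hh)
  have hd' := P.delta_ne_zero (D.mem hm)
  have hA : P.alpha (s2 * h * s2⁻¹) = P.alpha h / P.delta h := k2.symm
  refine ⟨hA, ?_⟩
  rw [hA] at k1
  have ha0 := P.alpha_ne_zero (D.mem hh)
  field_simp at k1 ⊢
  exact k1.symm

end Torus

end Cfsg.Agent.Invol.NatPair
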