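import Cfsg.Agent.Lib.Invol.NatPair.CentZ
import Cfsg.Agent.Lib.Invol.NatPair.Weyl
import Cfsg.Agent.Lib.Perm.TwoStab.TransferTwo

/-!
# The centralizer of the kernel of the torus on `Z`

Its involution centralizers are elementary, up to an index two subgroup and a central subgroup of odd order.
-/

set_option autoImplicit false
set_option linter.unusedSectionVars false
set_option linter.style.haveILetI false

namespace Cfsg.Agent.Invol.NatPair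

universe u v

variable {G : Type u} [Group G] [Finite G] {F : Type v} [Field F] [Finite F] [CharP F 2]

namespace Torus

variable {L1 L2 V1 V2 J T : Subgroup G} {P : Pair L1 L2 V1 V2 J T F} (D : Torus P)

/-- The kernel of the torus on `Z`. -/
def Kz : Subgroup G := D.H ⊓ Subgroup.centralizer ((V1 ⊓ V2 : Subgroup G) : Set G)

/-- Its centralizer. -/
def EG : Subgroup G := Subgroup.centralizer (D.Kz : Set G)

include D

theorem mem_EG {c : G} : c ∈ D.EG ↔ ∀ h ∈ D.Kz, Commute c h := by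
  refine Subgroup.mem_centralizer_iff.trans ⟨fun h x hx => (h x hx).symm, fun h x hx => (h x hx).eq.symm⟩

theorem Kz_iff {h : G} : h ∈ D.Kz ↔ h ∈ D.H ∧ P.alpha h = 1 := by
  refine ⟨fun hh => ⟨hh.1, ?_⟩, fun hh => ⟨hh.1, Subgroup.mem_centralizer_iff.mpr fun z hz => ?_⟩⟩
  · have e := Subgroup.mem_centralizer_iff.mp hh.2 _ (⟨P.m1.vec_mem ![1, 0], P.vec_mem_Z 1⟩ :
      P.m1.vec ![1, 0] ∈ V1 ⊓ V2)
    have e2 : h * P.m1.vec ![1, 0] * h⁻¹ = P.m1.vec ![1, 0] := by rw [← e, mul_inv_cancel_right]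
    show P.m1.mov h ![1, 0] 0 = 1
    rw [Mod.mov, e2, P.m1.co_vec]
    rfl
  · exact (P.InK_comm_Z ⟨D.mem hh.1, (D.lin h hh.1).2, hh.2⟩ hz.1 hz.2).eq.symm

theorem k_mem_Kz : D.k ∈ D.Kz := D.Kz_iff.mpr ⟨D.kH, D.alpha_k⟩

theorem Z_le_EG {z : G} (h1 : z ∈ V1) (h2 : z ∈ V2) : z ∈ D.EG :=
  D.mem_EG.mpr fun _ hh => Subgroup.mem_centralizer_iff.mp hh.2 z ⟨h1, h2⟩

theorem H_le_EG {h : G} (hh : h ∈ D.H) : h ∈ D.EG := D.mem_EG.mpr fun _ hx => D.comm h hh _ hx.1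

theorem two_pow_mem_Z {c : G} (hc : c ∈ D.EG) (hb : c ∈ both V1 V2) (hl : P.Lin c) {j : ℕ}
    (hj : c ^ 2 ^ j = 1) : c ∈ V1 ⊓ V2 :=
  D.eq_one_of_k_fixed (P.mem_J_of_lin hb hl hj) (D.mem_EG.mp hc D.k D.k_mem_Kz).symm

theorem EG_lin (h8 : 8 ≤ Nat.card F) {c : G} (hc : c ∈ D.EG) (hb : c ∈ both V1 V2) : P.Lin c := by
  let S : AddSubgroup F :=
    { carrier := {x | P.m1.σ c x = x}
      zero_mem' := P.σ_zero hb
      add_mem' := fun {a b} (ha : P.m1.σ c a = a) (hb' : P.m1.σ c b = b) => by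
        show P.m1.σ c (a + b) = a + b
        rw [P.m1.σ_add hb.1 (P.nL1 hb.1), ha, hb']
      neg_mem' := fun {a} (ha : P.m1.σ c a = a) => by
        show P.m1.σ c (-a) = -a
        rw [CharTwo.neg_eq, ha] }
  have hS : ∀ a : F, a ≠ 0 → ∀ s ∈ S, a ^ 3 * s ∈ S := by
    intro a ha s (hs : P.m1.σ c s = s)
    show P.m1.σ c (a ^ 3 * s) = a ^ 3 * s
    obtain ⟨h, hh, e1, e2⟩ := D.exists_kernel ha
    have hcom := D.mem_EG.mp hc h (D.Kz_iff.mpr ⟨hh, e1⟩)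
    have e := P.delta_mul hb (D.mem hh)
    rw [hcom.eq, P.delta_mul (D.mem hh) hb, (D.lin h hh).2, e2, mul_comm] at e
    rw [P.m1.σ_mul hb.1 (P.nL1 hb.1), hs, ← mul_right_cancel₀ (P.delta_ne_zero hb) e]
  have htop := cube_invariant_eq_top h8 S hS (x := 1) (P.m1.σ_one hb.1 (P.nL1 hb.1)) one_ne_zero
  exact fun x => show x ∈ S by rw [htop]; exact AddSubgroup.mem_top _

theorem alpha_eq_one {c z : G} (hb : c ∈ both V1 V2) (hl : P.Lin c) (hz : z ∈ V1 ⊓ V2) (hz1 : z ≠ 1)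
    (hcz : Commute c z) : P.alpha c = 1 := by
  have e : P.m1.mov c (P.m1.co z) = P.m1.co z := by
    rw [Mod.mov, P.m1.vec_co hz.1, hcz.eq, mul_inv_cancel_right]
  rw [P.mov_eq hb, hl, hl, (P.mem_Z_iff hz.1).mp hz.2] at e
  have e0 := congrFun e 0
  simp at e0
  refine (mul_right_eq_self₀.mp e0).resolve_right fun h0 => hz1 ((P.m1.co_eq_zero hz.1).mp (funext fun i => ?_))
  fin_cases i
  · exact h0
  · exact (P.mem_Z_iff hz.1).mp hz.2

theorem EG_both_Z (h8 : 8 ≤ Nat.card F) {c z : G} (hc : c ∈ D.EG) (hb : c ∈ both V1 V2) (hz : z ∈ V1 ⊓ V2)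
    (hz1 : z ≠ 1) (hcz : Commute c z) : ∃ h ∈ D.Kz, h⁻¹ * c ∈ V1 ⊓ V2 := by
  have hl := D.EG_lin h8 hc hb
  obtain ⟨h, hh, hJ⟩ := D.cover c hb hl
  have hα : P.alpha h = 1 := by
    have e := P.alpha_mul (D.mem hh) (P.J_le_both hJ)
    rw [mul_inv_cancel_left, (P.coords_J hJ).1, (D.lin h hh).2, D.alpha_eq_one hb hl hz hz1 hcz, one_mul] at e
    exact e.symm
  refine ⟨h, D.Kz_iff.mpr ⟨hh, hα⟩, D.eq_one_of_k_fixed hJ ?_⟩
  exact (D.comm D.k D.kH h hh).inv_right.mul_right (D.mem_EG.mp hc D.k D.k_mem_Kz).symm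

theorem both_inter_le {Q : Subgroup G} (h8 : 8 ≤ Nat.card F) (hQ : IsPGroup 2 Q) (hE : Q ≤ D.EG) :
    Q ⊓ both V1 V2 ≤ V1 ⊓ V2 := fun c hc => by
  obtain ⟨j, hj⟩ := hQ ⟨c, hc.1⟩
  exact D.two_pow_mem_Z (hE hc.1) hc.2 (D.EG_lin h8 (hE hc.1) hc.2) (congrArg Subtype.val hj)

theorem delta_k_ne : P.delta D.k ≠ (P.delta D.k)⁻¹ := fun e => D.kd (P.eq_one_of_two_pow (k := 1) (by
  rw [pow_one, pow_two]; nth_rewrite 2 [e]; exact mul_inv_cancel₀ (P.delta_ne_zero (D.mem D.kH))))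

/-- A swapper of the centralizer of the kernel fixes exactly a square root of `Z`. -/
theorem swapper_fix {u : G} (hu : u ∈ D.EG) (huJ : u ∈ Subgroup.normalizer (J : Set G)) (hub : u ∉ both V1 V2)
    (hu2 : u * u ∈ J) :
    Nat.card (V1 ⊓ V2 ⊓ Subgroup.centralizer {u} : Subgroup G) *
      Nat.card (V1 ⊓ V2 ⊓ Subgroup.centralizer {u} : Subgroup G) = Nat.card F := by
  refine P.card_fixed_Z huJ hub hu2 (P.swapper_moves_Z huJ hub hu2
    ⟨D.mem D.kH, (D.lin _ D.kH).2, D.alpha_k⟩ D.delta_k_ne ?_)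
  rw [(D.mem_EG.mp hu D.k D.k_mem_Kz).eq, mul_inv_cancel_right, mul_inv_cancel]
  exact one_mem J

/-- The only elementary subgroup of order `q` of the centralizer inside `N(J)` is `Z`. -/
theorem elem_eq_Z (h8 : 8 ≤ Nat.card F) {E : Subgroup G} (hE : E ≤ D.EG)
    (hJ : E ≤ Subgroup.normalizer (J : Set G)) (h2 : ∀ x ∈ E, x * x = 1) (hcard : Nat.card E = Nat.card F) :
    E = V1 ⊓ V2 := by
  have hp : IsPGroup 2 E := fun x => ⟨1, Subtype.ext (by rw [pow_one, pow_two]; exact h2 x x.2)⟩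
  by_cases hb : E ≤ both V1 V2
  · exact Subgroup.eq_of_le_of_card_ge (fun x hx => D.both_inter_le h8 hp hE ⟨hx, hb hx⟩)
      (by rw [P.card_Z, hcard])
  exfalso
  obtain ⟨u, hu, hub⟩ := SetLike.not_le_iff_exists.mp hb
  have hcomm : ∀ x ∈ E, Commute u x := fun x hx => by
    show u * x = x * u
    rw [eq_inv_of_mul_eq_one_left (h2 _ (mul_mem hu hx)), _root_.mul_inv_rev,
      inv_eq_of_mul_eq_one_left (h2 x hx), inv_eq_of_mul_eq_one_left (h2 u hu)]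
  have s1 : Nat.card E ≤ 2 * Nat.card (E ⊓ both V1 V2 : Subgroup G) :=
    card_le_two_mul E _ fun a ha b hb' ha' hb'' => by
      rw [inv_eq_of_mul_eq_one_left (h2 a ha)]; exact P.mul_mem_both (hJ ha) (hJ hb') ha' hb''
  have s2 : Nat.card (E ⊓ both V1 V2 : Subgroup G) ≤
      Nat.card (V1 ⊓ V2 ⊓ Subgroup.centralizer {u} : Subgroup G) :=
    Subgroup.card_le_of_le fun x hx =>
      ⟨D.both_inter_le h8 hp hE hx, Subgroup.mem_centralizer_singleton_iff.mpr (hcomm x hx.1).eq.symm⟩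
  have e := D.swapper_fix (hE hu) (hJ hu) hub (by rw [h2 u hu]; exact one_mem J)
  rw [hcard] at s1
  nlinarith

theorem norm_Z_le (h8 : 8 ≤ Nat.card F) {n : G} (hn : ∀ z ∈ V1 ⊓ V2, n * z * n⁻¹ ∈ V1 ⊓ V2) :
    ∃ h ∈ D.H, Commute (h⁻¹ * n) (D.x13 1) ∧ n ∈ Subgroup.normalizer (J : Set G) := by
  have h1 := hn _ (show D.x13 1 ∈ V1 ⊓ V2 from D.x13_mem 1)
  set z := n * D.x13 1 * n⁻¹ with hz
  have hne : D.x13 1 ≠ 1 := fun e => one_ne_zero (D.x13_inj (e.trans D.x13_zero.symm))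
  have ha : P.m1.co z 0 ≠ 0 := fun e => by
    have hz0 : z = 1 := by rw [P.Z_eq_vec h1.1 h1.2, e]; exact D.x13_zero
    exact hne (conj_eq_one_iff.mp hz0)
  obtain ⟨h, hh, e1, -⟩ := D.exists_torus1 ha
  have hc : Commute (h⁻¹ * n) (D.x13 1) := by
    refine mul_inv_eq_iff_eq_mul.mp ?_
    have e : h * D.x13 1 * h⁻¹ = z := by
      rw [D.conj_x13 hh, mul_one, e1]; exact (P.Z_eq_vec h1.1 h1.2).symm
    calc h⁻¹ * n * D.x13 1 * (h⁻¹ * n)⁻¹ = h⁻¹ * z * h := by rw [hz]; group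
      _ = D.x13 1 := by rw [← e]; group
  refine ⟨h, hh, hc, ?_⟩
  have := mul_mem (P.both_le_normalizer_J (D.mem hh)) (P.centralizer_Z_le h8 (D.x13_mem 1) hne hc)
  rwa [mul_inv_cancel_left] at this

theorem pGroup_le_NJ (h8 : 8 ≤ Nat.card F) {Q : Subgroup G} (hQ : IsPGroup 2 Q) (hE : Q ≤ D.EG)
    (hZ : V1 ⊓ V2 ≤ Q) : Q ≤ Subgroup.normalizer (J : Set G) := by
  haveI : Fact (Nat.Prime 2) := ⟨Nat.prime_two⟩
  set R := (Subgroup.normalizer (J : Set G)).subgroupOf Q with hR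
  have hmove : ∀ n : Q, n ∈ Subgroup.normalizer (R : Set Q) → n ∈ R := by
    intro n hn
    refine Subgroup.mem_subgroupOf.mpr ?_
    suffices h : ∀ z ∈ V1 ⊓ V2, (n : G) * z * (n : G)⁻¹ ∈ V1 ⊓ V2 by
      obtain ⟨-, -, -, h'⟩ := D.norm_Z_le h8 h; exact h'
    intro z hz
    rw [← D.elem_eq_Z h8 (E := (V1 ⊓ V2).map (MulAut.conj (n : G)).toMonoidHom) ?_ ?_ ?_
      ((Subgroup.card_map_of_injective (MulAut.conj (n : G)).injective).trans P.card_Z)]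
    · exact ⟨z, hz, rfl⟩
    · rintro _ ⟨w, hw, rfl⟩
      exact hE (mul_mem (mul_mem n.2 (hZ hw)) (inv_mem n.2))
    · rintro _ ⟨w, hw, rfl⟩
      have hw' : (⟨w, hZ hw⟩ : Q) ∈ R :=
        Subgroup.mem_subgroupOf.mpr (P.both_le_normalizer_J (P.J_le_both (P.V1_le_J hw.1)))
      exact Subgroup.mem_subgroupOf.mp ((Subgroup.mem_normalizer_iff.mp hn _).mp hw')
    · rintro _ ⟨w, hw, rfl⟩; rw [← map_mul, P.m1.mul_self hw.1, map_one]
  have : Group.IsNilpotent Q := hQ.isNilpotent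
  have htop : R = ⊤ := by
    by_contra hne
    obtain ⟨x, hx, hxR⟩ := SetLike.exists_of_lt
      (Group.normalizerCondition_of_isNilpotent R (lt_top_iff_ne_top.mpr hne))
    exact hxR (hmove x hx)
  exact fun s hs => Subgroup.mem_subgroupOf.mp (htop ▸ Subgroup.mem_top (⟨s, hs⟩ : Q))

/-- A conjugate of `Z` on which the torus acts with nontrivial scalars lies in every index two subgroup. -/
theorem mem_of_index_two {N : Subgroup G} {g : G} (hg : ∀ h ∈ D.H, g⁻¹ * h * g ∈ D.H)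
    (hne : ∀ a : F, a ≠ 0 → ∃ h ∈ D.H, P.alpha (g⁻¹ * h * g) = a)
    (hN : ∀ y ∈ D.H, ∀ t, g * D.x13 t * g⁻¹ * (y * (g * D.x13 t * g⁻¹) * y⁻¹) ∈ N) (s : F) :
    g * D.x13 s * g⁻¹ ∈ N := by
  obtain ⟨a, ha0, ha1⟩ := P.exists_ne_zero_one
  obtain ⟨h, hh, e⟩ := hne a ha0
  have h1 : 1 + a ≠ 0 := fun e => ha1 (CharTwo.add_eq_zero.mp e).symm
  have := hN h hh (s / (1 + a))
  rw [show g * D.x13 (s / (1 + a)) * g⁻¹ * (h * (g * D.x13 (s / (1 + a)) * g⁻¹) * h⁻¹) =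
    g * (D.x13 (s / (1 + a)) * ((g⁻¹ * h * g) * D.x13 (s / (1 + a)) * (g⁻¹ * h * g)⁻¹)) * g⁻¹ by group,
    D.conj_x13 (hg h hh), e, ← D.x13_add] at this
  convert this using 4
  field_simp

/-- The subgroup `E₁`: it contains the root groups and its centralizers of points of `Z` fix both modules. -/
theorem exists_E1 (h8 : 8 ≤ Nat.card F) :
    ∃ E1 : Subgroup G, E1 ≤ D.EG ∧ D.H ≤ E1 ∧
      (∀ g : G, (∀ h ∈ D.H, g⁻¹ * h * g ∈ D.H) → (∀ a : F, a ≠ 0 → ∃ h ∈ D.H, P.alpha (g⁻¹ * h * g) = a) →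
        (∀ t, g * D.x13 t * g⁻¹ ∈ D.EG) → ∀ t, g * D.x13 t * g⁻¹ ∈ E1) ∧
      ∀ c ∈ E1, ∀ z ∈ V1 ⊓ V2, z ≠ 1 → Commute c z → c ∈ both V1 V2 := by
  classical
  by_cases hsw : ∀ c ∈ D.EG, ∀ z ∈ V1 ⊓ V2, z ≠ 1 → Commute c z → c ∈ both V1 V2
  · exact ⟨D.EG, le_rfl, fun h hh => D.H_le_EG hh, fun g _ _ hg t => hg t, hsw⟩
  push Not at hsw
  obtain ⟨c, hc, z, hz, hz1, hcz, hcb⟩ := hsw
  haveI : Fact (Nat.Prime 2) := ⟨Nat.prime_two⟩
  have hcJ := P.centralizer_Z_le h8 hz hz1 hcz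
  obtain ⟨j, m, hm, hord⟩ := Nat.exists_eq_two_pow_mul_odd (orderOf_pos c).ne'
  set h := c ^ m with hhdef
  have hhE : h ∈ D.EG := pow_mem hc m
  have hhJ : h ∈ Subgroup.normalizer (J : Set G) := pow_mem hcJ m
  have hhz : Commute h z := hcz.pow_left m
  have hhb : h ∉ both V1 V2 := fun e => hcb (by
    obtain ⟨i, rfl⟩ := hm
    have h2 : c * c ∈ both V1 V2 := P.mul_mem_both hcJ hcJ hcb hcb
    rw [hhdef, pow_succ, pow_mul, pow_two] at e
    have := mul_mem (inv_mem (pow_mem h2 i)) e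
    rwa [inv_mul_cancel_left] at this)
  have hh2pow : h ^ 2 ^ j = 1 := by rw [hhdef, ← pow_mul, mul_comm, ← hord, pow_orderOf_eq_one]
  have hbb : h * h ∈ both V1 V2 := P.mul_mem_both hhJ hhJ hhb hhb
  have hhh : h * h ∈ V1 ⊓ V2 := by
    refine D.two_pow_mem_Z (mul_mem hhE hhE) hbb (D.EG_lin h8 (mul_mem hhE hhE) hbb) (j := j) ?_
    rw [(Commute.refl h).mul_pow, hh2pow, one_mul]
  have hfix := D.swapper_fix hhE hhJ hhb (P.V1_le_J hhh.1)
  set C := V1 ⊓ V2 ⊓ Subgroup.centralizer {h} with hC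
  let Φ : (V1 ⊓ V2 : Subgroup G) →* (V1 ⊓ V2 : Subgroup G) :=
    { toFun := fun w => ⟨w.1 * (h * w.1 * h⁻¹), mul_mem w.2
        ⟨(P.conj_Z hhJ hhb w.2.1 w.2.2).1, (P.conj_Z hhJ hhb w.2.1 w.2.2).2⟩⟩
      map_one' := Subtype.ext (by simp)
      map_mul' := fun a b => Subtype.ext (by
        show a.1 * b.1 * (h * (a.1 * b.1) * h⁻¹) = a.1 * (h * a.1 * h⁻¹) * (b.1 * (h * b.1 * h⁻¹))
        have e := P.m1.mul_comm_V b.2.1 (P.conj_Z hhJ hhb a.2.1 a.2.2).1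
        calc a.1 * b.1 * (h * (a.1 * b.1) * h⁻¹) = a.1 * (b.1 * (h * a.1 * h⁻¹)) * (h * b.1 * h⁻¹) := by group
          _ = _ := by rw [e]; group) }
  have hker : Φ.ker.map (V1 ⊓ V2 : Subgroup G).subtype = C := by
    refine le_antisymm ?_ fun w hw => ⟨⟨w, hw.1⟩, Subtype.ext ?_, rfl⟩
    · rintro _ ⟨w, hw, rfl⟩
      have e : w.1 * (h * w.1 * h⁻¹) = 1 := congrArg Subtype.val hw
      have e' : h * w.1 * h⁻¹ = w.1 := by
        rw [eq_inv_of_mul_eq_one_right e, P.m1.inv_eq w.2.1]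
      exact ⟨w.2, Subgroup.mem_centralizer_singleton_iff.mpr (mul_inv_eq_iff_eq_mul.mp e').symm⟩
    · show w * (h * w * h⁻¹) = 1
      rw [← Subgroup.mem_centralizer_singleton_iff.mp hw.2, mul_inv_cancel_right, P.m1.mul_self hw.1.1]
  have hrange : Φ.range.map (V1 ⊓ V2 : Subgroup G).subtype = C := by
    refine Subgroup.eq_of_le_of_card_ge ?_ ?_
    · rintro _ ⟨_, ⟨w, rfl⟩, rfl⟩
      refine ⟨(Φ w).2, Subgroup.mem_centralizer_singleton_iff.mpr ?_⟩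
      refine (mul_inv_eq_iff_eq_mul.mp ?_).symm
      show h * (w.1 * (h * w.1 * h⁻¹)) * h⁻¹ = w.1 * (h * w.1 * h⁻¹)
      calc h * (w.1 * (h * w.1 * h⁻¹)) * h⁻¹ = (h * w.1 * h⁻¹) * ((h * h) * w.1 * (h * h)⁻¹) := by group
        _ = w.1 * (h * w.1 * h⁻¹) := by
            rw [P.m1.mul_comm_V hhh.1 w.2.1, mul_inv_cancel_right,
              P.m1.mul_comm_V (P.conj_Z hhJ hhb w.2.1 w.2.2).1 w.2.1]
    · have e := Φ.ker.index_mul_card
      have hs : Function.Injective (V1 ⊓ V2 : Subgroup G).subtype := Subgroup.subtype_injective _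
      have e1 : Nat.card (Φ.range.map (V1 ⊓ V2 : Subgroup G).subtype) = Nat.card Φ.range :=
        Subgroup.card_map_of_injective hs
      have e2 : Nat.card (Φ.ker.map (V1 ⊓ V2 : Subgroup G).subtype) = Nat.card Φ.ker :=
        Subgroup.card_map_of_injective hs
      rw [Subgroup.index_ker, P.card_Z, ← e1, ← e2, hker, ← hfix] at e
      exact (Nat.eq_of_mul_eq_mul_right Nat.card_pos e).ge
  obtain ⟨_, ⟨w, rfl⟩, hw⟩ : h * h ∈ Φ.range.map (V1 ⊓ V2 : Subgroup G).subtype := by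
    rw [hrange]
    exact ⟨hhh, Subgroup.mem_centralizer_singleton_iff.mpr (by group)⟩
  have hw' : w.1 * (h * w.1 * h⁻¹) = h * h := hw
  set u := h * w.1 with hudef
  have huE : u ∈ D.EG := mul_mem hhE (D.Z_le_EG w.2.1 w.2.2)
  have hwb : w.1 ∈ both V1 V2 := P.J_le_both (P.V1_le_J w.2.1)
  have huJ : u ∈ Subgroup.normalizer (J : Set G) := mul_mem hhJ (P.both_le_normalizer_J hwb)
  have hub : u ∉ both V1 V2 := fun e => hhb (by simpa [hudef] using mul_mem e (inv_mem hwb))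
  have huz : Commute u z := hhz.mul_left (P.m1.mul_comm_V w.2.1 hz.1)
  have hu2 : u * u = 1 := by
    have hwi := P.m1.inv_eq w.2.1
    calc u * u = (h * w.1 * h⁻¹) * (h * h) * w.1 := by rw [hudef]; group
      _ = (h * w.1 * h⁻¹) * (w.1 * (h * w.1 * h⁻¹)) * w.1 := by rw [hw']
      _ = (w.1 * (h * w.1 * h⁻¹)) * (h * w.1 * h⁻¹) * w.1 := by
          rw [P.m1.mul_comm_V (P.conj_Z hhJ hhb w.2.1 w.2.2).1
            (mul_mem w.2.1 (P.conj_Z hhJ hhb w.2.1 w.2.2).1)]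
      _ = 1 := by
          rw [mul_assoc w.1, P.m1.mul_self (P.conj_Z hhJ hhb w.2.1 w.2.2).1, mul_one, P.m1.mul_self w.2.1]
  -- a Sylow subgroup of the centralizer
  set S0 := (V1 ⊓ V2 : Subgroup G) ⊔ Subgroup.zpowers u with hS0
  have huZ : Subgroup.zpowers u ≤ Subgroup.normalizer ((V1 ⊓ V2 : Subgroup G) : Set G) := by
    rw [Subgroup.zpowers_le]
    exact mem_normalizer_of_conj fun x hx =>
      ⟨(P.conj_Z huJ hub hx.1 hx.2).1, (P.conj_Z huJ hub hx.1 hx.2).2⟩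
  have hu1 : u ≠ 1 := fun e => hub (e ▸ one_mem _)
  have hS0p : IsPGroup 2 S0 :=
    (P.V1_pGroup.to_le inf_le_left).to_sup_of_normal_left'
      (IsPGroup.of_card (n := 1)
        (by rw [Nat.card_zpowers, pow_one, orderOf_eq_prime (by rw [pow_two, hu2]) hu1])) huZ
  have hS0E : S0 ≤ D.EG := sup_le (fun x hx => D.Z_le_EG hx.1 hx.2) (by rwa [Subgroup.zpowers_le])
  obtain ⟨S, hS⟩ := (hS0p.of_equiv (Subgroup.subgroupOfEquivOfLe hS0E).symm).exists_le_sylow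
  set S' := (S : Subgroup D.EG).map D.EG.subtype with hS'
  have hS'p : IsPGroup 2 S' := S.isPGroup'.map _
  have hS0S : S0 ≤ S' := fun x hx => ⟨⟨x, hS0E hx⟩, hS hx, rfl⟩
  have hS'E : S' ≤ D.EG := Subgroup.map_subtype_le _
  have hS'J := D.pGroup_le_NJ h8 hS'p hS'E (le_sup_left.trans hS0S)
  have hSmem : ∀ x : D.EG, x ∈ (S : Subgroup D.EG) → (x : G) ∈ S' := fun x hx => ⟨x, hx, rfl⟩
  set Db := (both V1 V2).subgroupOf D.EG with hDb
  have hrel : Db.relIndex (S : Subgroup D.EG) = 2 := by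
    rw [Subgroup.relIndex, Subgroup.index_eq_two_iff]
    refine ⟨⟨⟨u, huE⟩, hS (show (⟨u, huE⟩ : D.EG) ∈ S0.subgroupOf D.EG from
      le_sup_right (a := (V1 ⊓ V2 : Subgroup G)) (Subgroup.mem_zpowers u))⟩, fun b => ?_⟩
    have hbJ := hS'J (hSmem b.1 b.2)
    by_cases hb : ((b : D.EG) : G) ∈ both V1 V2
    · exact Or.inr ⟨hb, fun e => hub (by
        have := (both V1 V2).mul_mem ((both V1 V2).inv_mem hb) e
        simpa using this)⟩
    · exact Or.inl ⟨P.mul_mem_both hbJ huJ hb hub, hb⟩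
  have hnot : ∀ g ∈ D.EG, g⁻¹ * u * g ∉ V1 ⊓ V2 := by
    intro g hg hin
    set W := V1 ⊓ V2 ⊓ Subgroup.centralizer {u} with hW
    have hWq := D.swapper_fix huE huJ hub (by rw [hu2]; exact one_mem J)
    set Zg := (V1 ⊓ V2).map (MulAut.conj g).toMonoidHom with hZg
    have huZg : u ∈ Zg := ⟨_, hin, by show g * (g⁻¹ * u * g) * g⁻¹ = u; group⟩
    have hinter : ∀ x ∈ W, x ∈ Zg → x = 1 := by
      intro x hx hxg
      by_contra hx1
      refine hub ?_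
      have hE : Zg ≤ D.EG := by
        rintro _ ⟨y, hy, rfl⟩; exact mul_mem (mul_mem hg (D.Z_le_EG hy.1 hy.2)) (inv_mem hg)
      have hJ' : Zg ≤ Subgroup.normalizer (J : Set G) := by
        intro y hy
        refine P.centralizer_Z_le h8 hx.1 hx1 ?_
        obtain ⟨a, ha, rfl⟩ := hy
        obtain ⟨b, hb, rfl⟩ := hxg
        exact ((show Commute a b from P.m1.mul_comm_V ha.1 hb.1).map (MulAut.conj g).toMonoidHom)
      have e := D.elem_eq_Z h8 hE hJ'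
        (by rintro _ ⟨y, hy, rfl⟩; rw [← map_mul, P.m1.mul_self hy.1, map_one])
        ((Subgroup.card_map_of_injective (MulAut.conj g).injective).trans P.card_Z)
      exact P.J_le_both (P.V1_le_J (e ▸ huZg).1)
    set W' := W.map (MulAut.conj g⁻¹).toMonoidHom with hW'
    have hz0 : g⁻¹ * u * g ≠ 1 := fun e => hu1 (by
      rw [show u = g * (g⁻¹ * u * g) * g⁻¹ by group, e, mul_one, mul_inv_cancel])
    have hW'E : W' ≤ D.EG := by
      rintro _ ⟨x, hx, rfl⟩; exact mul_mem (mul_mem (inv_mem hg) (D.Z_le_EG hx.1.1 hx.1.2)) (inv_mem (inv_mem hg))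
    have hW'J : W' ≤ Subgroup.normalizer (J : Set G) := by
      rintro _ ⟨x, hx, rfl⟩
      refine P.centralizer_Z_le h8 hin hz0 ?_
      have : Commute x u := Subgroup.mem_centralizer_singleton_iff.mp hx.2
      have := this.map (MulAut.conj g⁻¹).toMonoidHom
      simpa [mul_assoc] using this
    have hW'2 : ∀ x ∈ W', x * x = 1 := by
      rintro _ ⟨x, hx, rfl⟩; rw [← map_mul, P.m1.mul_self hx.1.1, map_one]
    have hW'p : IsPGroup 2 W' := fun x => ⟨1, Subtype.ext (by rw [pow_one, pow_two]; exact hW'2 x x.2)⟩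
    have hbot : W' ⊓ both V1 V2 = ⊥ := by
      rw [Subgroup.eq_bot_iff_forall]
      intro y hy
      have hyZ := D.both_inter_le h8 hW'p hW'E hy
      obtain ⟨x, hx, rfl⟩ := hy.1
      have := hinter x hx ⟨_, hyZ, by show g * (g⁻¹ * x * g⁻¹⁻¹) * g⁻¹ = x; group⟩
      rw [this, map_one]
    have hle : Nat.card W' ≤ 2 := by
      have := card_le_two_mul W' _ fun a ha b hb' ha' hb'' => by
        rw [inv_eq_of_mul_eq_one_left (hW'2 a ha)]; exact P.mul_mem_both (hW'J ha) (hW'J hb') ha' hb''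
      rw [hbot, Subgroup.card_bot] at this
      omega
    rw [hW', Subgroup.card_map_of_injective (MulAut.conj g⁻¹).injective] at hle
    nlinarith
  obtain ⟨N, hNn, hNi, huN⟩ := Perm.TwoStab.exists_index_two_notMem S Db hrel ⟨u, huE⟩
    (hS (show (⟨u, huE⟩ : D.EG) ∈ S0.subgroupOf D.EG from
      le_sup_right (a := (V1 ⊓ V2 : Subgroup G)) (Subgroup.mem_zpowers u)))
    (fun g hg hgD => hnot g g.2 (D.both_inter_le h8 hS'p hS'E ⟨hSmem _ hg, hgD⟩))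
    (fun g i hi _ => by
      have : (⟨u, huE⟩ : D.EG) ^ 2 ^ i = 1 := by
        obtain ⟨i', rfl⟩ : ∃ i', i = i' + 1 := ⟨i - 1, by omega⟩
        rw [pow_succ', pow_mul, pow_two, show (⟨u, huE⟩ : D.EG) * ⟨u, huE⟩ = 1 from Subtype.ext hu2, one_pow]
      rw [this, mul_one, inv_mul_cancel]
      exact one_mem _)
  have hH : ∀ x ∈ D.H, x ∈ N.map D.EG.subtype := by
    intro x hx
    obtain ⟨i, hi⟩ : ∃ i, orderOf x = 2 * i + 1 := by
      rcases Nat.even_or_odd (orderOf x) with he | ho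
      · exfalso
        obtain ⟨i, hi⟩ := he
        have hord2 : x ^ i ≠ 1 := fun e => by
          have := Nat.le_of_dvd (by have := orderOf_pos x; omega) (orderOf_dvd_of_pow_eq_one e)
          have := orderOf_pos x; omega
        refine hord2 (D.disj _ (pow_mem hx i) (P.mem_J_of_lin (D.mem (pow_mem hx i)) (D.lin _ (pow_mem hx i)).2
          (k := 1) ?_))
        rw [pow_one, ← pow_mul, mul_two, ← hi, pow_orderOf_eq_one]
      · exact ho
    have e : x = x ^ (i + 1) * x ^ (i + 1) := by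
      rw [← pow_add, show i + 1 + (i + 1) = (2 * i + 1) + 1 by ring, pow_succ, ← hi, pow_orderOf_eq_one, one_mul]
    refine ⟨⟨x, D.H_le_EG hx⟩, ?_, rfl⟩
    rw [show (⟨x, D.H_le_EG hx⟩ : D.EG) =
      ⟨x ^ (i + 1), D.H_le_EG (pow_mem hx _)⟩ * ⟨x ^ (i + 1), D.H_le_EG (pow_mem hx _)⟩ from Subtype.ext e]
    exact Subgroup.mul_self_mem_of_index_two hNi _
  have hconj : ∀ g : G, (∀ h ∈ D.H, g⁻¹ * h * g ∈ D.H) →
      (∀ a : F, a ≠ 0 → ∃ h ∈ D.H, P.alpha (g⁻¹ * h * g) = a) →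
      (∀ t, g * D.x13 t * g⁻¹ ∈ D.EG) → ∀ t, g * D.x13 t * g⁻¹ ∈ N.map D.EG.subtype := by
    intro g hg1 hg2 hg3
    refine D.mem_of_index_two hg1 hg2 fun y hy t => ?_
    refine ⟨⟨_, hg3 t⟩ * (⟨y, D.H_le_EG hy⟩ * ⟨_, hg3 t⟩ * (⟨y, D.H_le_EG hy⟩)⁻¹), ?_, rfl⟩
    rw [SetLike.mem_coe, Subgroup.mul_mem_iff_of_index_two hNi]
    refine ⟨fun h => hNn.conj_mem _ h _, fun h => ?_⟩
    have := hNn.conj_mem _ h (⟨y, D.H_le_EG hy⟩ : D.EG)⁻¹
    rwa [inv_inv, ← mul_assoc, ← mul_assoc, inv_mul_cancel, one_mul, inv_mul_cancel_right] at this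
  refine ⟨N.map D.EG.subtype, Subgroup.map_subtype_le _, hH, hconj, fun c hc z' hz' hz'1 hcz' => ?_⟩
  obtain ⟨⟨c, hcE⟩, hcN, rfl⟩ := hc
  by_contra hcb'
  have hcJ' := P.centralizer_Z_le h8 hz' hz'1 hcz'
  have hd : u⁻¹ * c ∈ both V1 V2 :=
    P.mul_mem_both (inv_mem huJ) hcJ' (fun e => hub (by simpa using (both V1 V2).inv_mem e)) hcb'
  have hdE : u⁻¹ * c ∈ D.EG := mul_mem (inv_mem huE) hcE
  obtain ⟨x, hx, hxJ⟩ := D.cover _ hd (D.EG_lin h8 hdE hd)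
  have hxZ := D.eq_one_of_k_fixed hxJ
    ((D.comm D.k D.kH x hx).inv_right.mul_right (D.mem_EG.mp hdE D.k D.k_mem_Kz).symm)
  have hone : ∀ h ∈ D.H, (1 : G)⁻¹ * h * 1 ∈ D.H := fun h hh => by simpa using hh
  have hZN := hconj 1 hone (fun a ha => by
      obtain ⟨h, hh, e, -⟩ := D.exists_torus1 ha
      exact ⟨h, hh, by simpa using e⟩)
    (fun t => by simpa using D.Z_le_EG (D.x13_mem t).1 (D.x13_mem t).2)
  obtain ⟨a, haN, ha⟩ := hH x hx
  obtain ⟨b, hbN, hb⟩ := hZN (P.m1.co (x⁻¹ * (u⁻¹ * c)) 0)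
  have hb' : (b : G) = x⁻¹ * (u⁻¹ * c) := by
    rw [show (b : G) = 1 * D.x13 (P.m1.co (x⁻¹ * (u⁻¹ * c)) 0) * 1⁻¹ from hb, one_mul, inv_one, mul_one]
    exact (P.Z_eq_vec hxZ.1 hxZ.2).symm
  refine huN ?_
  have := N.mul_mem hcN (N.inv_mem (N.mul_mem haN hbN))
  convert this using 1
  apply Subtype.ext
  show u = c * ((a : G) * b)⁻¹
  rw [show (a : G) = x from ha, hb']
  group

end Torus

end Cfsg.Agent.Invol.NatPair
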