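import Cfsg.Agent.Lib.Invol.NatPair.Steinberg

/-!
# `L₁` and `L₂` generate an image of `SL(3, q)`
-/

set_option autoImplicit false
set_option linter.unusedSectionVars false
set_option linter.style.haveILetI false

namespace Cfsg.Agent.Invol.NatPair

open Matrix Cfsg.Agent.Grp.SL2

universe u v

variable {G : Type u} [Group G] [Finite G] {F : Type v} [Field F] [Finite F] [CharP F 2]

omit [Finite G] in
theorem lift_equiv {α M : Type*} [Group M] {rels : Set (FreeGroup α)} (e : PresentedGroup rels ≃* M) (F0 : α → G)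
    (h : ∀ g ∈ rels, FreeGroup.lift F0 g = 1) :
    ∃ f : M →* G, (∀ a, f (e (PresentedGroup.of a)) = F0 a) ∧ f.range ≤ Subgroup.closure (Set.range F0) := by
  refine ⟨(PresentedGroup.toGroup h).comp e.symm.toMonoidHom, fun a => ?_, ?_⟩
  · show PresentedGroup.toGroup h (e.symm (e _)) = _
    rw [MulEquiv.symm_apply_apply, PresentedGroup.toGroup.of]
  · rintro _ ⟨x, rfl⟩
    refine PresentedGroup.generated_by _
      ((Subgroup.closure (Set.range F0)).comap (PresentedGroup.toGroup h)) (fun y => ?_) (e.symm x)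
    show PresentedGroup.toGroup h (PresentedGroup.of y) ∈ Subgroup.closure (Set.range F0)
    rw [PresentedGroup.toGroup.of]
    exact Subgroup.subset_closure ⟨y, rfl⟩

namespace Weyl

variable {L1 L2 V1 V2 J T : Subgroup G} {P : Pair L1 L2 V1 V2 J T F} {D : Torus P} (W : Weyl D)

/-- The root elements, indexed like elementary matrices. -/
noncomputable def X (i j : Fin 3) (t : F) : G :=
  ![![1, D.x12 t, D.x13 t], ![W.x21 t, 1, D.x23 t], ![W.x31 t, W.x32 t, 1]] i j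

/-- The relations attached to an ordered triple of indices. -/
def Rel (a b c : Fin 3) : Prop :=
  (∀ t u, Commute (W.X a b t) (W.X a c u)) ∧ (∀ t u, Commute (W.X a c t) (W.X b c u)) ∧
    ∀ t u, W.X a b t * W.X b c u = W.X a c (t * u) * W.X b c u * W.X a b t

include W

theorem conj1_X (i j : Fin 3) (t : F) :
    W.s1 * W.X i j t * W.s1⁻¹ = W.X (Equiv.swap 0 1 i) (Equiv.swap 0 1 j) t := by
  have e23 : W.s1 * D.x23 t * W.s1⁻¹ = D.x13 t := by rw [← W.w1, W.cc1]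
  fin_cases i <;> fin_cases j <;> simp [X, Equiv.swap_apply_def, W.w1, e23]
  · rfl
  · exact W.cc1 _
  · exact W.cc1 _
  · rfl

theorem conj2_X (h8 : 8 ≤ Nat.card F) (i j : Fin 3) (t : F) :
    W.s2 * W.X i j t * W.s2⁻¹ = W.X (Equiv.swap 1 2 i) (Equiv.swap 1 2 j) t := by
  have e12 : W.s2 * D.x12 t * W.s2⁻¹ = D.x13 t := by rw [← W.w2, W.cc2]
  have e31 : W.s2 * W.x31 t * W.s2⁻¹ = W.x21 t := by rw [← W.s2_x21 h8, W.cc2]
  fin_cases i <;> fin_cases j <;> simp [X, Equiv.swap_apply_def, W.w2, e12, e31, W.s2_x21 h8]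
  · rfl
  · exact W.cc2 _

theorem rel_transport {s : G} {π : Equiv.Perm (Fin 3)}
    (hs : ∀ i j t, s * W.X i j t * s⁻¹ = W.X (π i) (π j) t) {a b c : Fin 3} (h : W.Rel a b c) :
    W.Rel (π a) (π b) (π c) := by
  have hf : ∀ i j t, (MulAut.conj s).toMonoidHom (W.X i j t) = W.X (π i) (π j) t := hs
  refine ⟨fun t u => ?_, fun t u => ?_, fun t u => ?_⟩
  · have := (h.1 t u).map (MulAut.conj s).toMonoidHom
    rwa [hf, hf] at this
  · have := (h.2.1 t u).map (MulAut.conj s).toMonoidHom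
    rwa [hf, hf] at this
  · have := congrArg (MulAut.conj s).toMonoidHom (h.2.2 t u)
    rwa [map_mul, map_mul, map_mul, hf, hf, hf] at this

theorem rel_all (h8 : 8 ≤ Nat.card F) {a b c : Fin 3} (hab : a ≠ b) (hbc : b ≠ c) (hac : a ≠ c) :
    W.Rel a b c := by
  have h012 : W.Rel 0 1 2 :=
    ⟨fun t u => P.m2.mul_comm_V (D.x12_mem t) (D.x13_mem u).2,
      fun t u => P.m1.mul_comm_V (D.x13_mem t).1 (D.x23_mem u), fun t u => W.rel_base t u⟩
  have h102 : W.Rel 1 0 2 := by simpa [Equiv.swap_apply_def] using W.rel_transport W.conj1_X h012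
  have h021 : W.Rel 0 2 1 := by simpa [Equiv.swap_apply_def] using W.rel_transport (W.conj2_X h8) h012
  have h120 : W.Rel 1 2 0 := by simpa [Equiv.swap_apply_def] using W.rel_transport W.conj1_X h021
  have h201 : W.Rel 2 0 1 := by simpa [Equiv.swap_apply_def] using W.rel_transport (W.conj2_X h8) h102
  have h210 : W.Rel 2 1 0 := by simpa [Equiv.swap_apply_def] using W.rel_transport W.conj1_X h201
  fin_cases a <;> fin_cases b <;> fin_cases c <;> first | assumption | simp_all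

theorem X_add {i j : Fin 3} (hij : i ≠ j) (t u : F) : W.X i j t * W.X i j u = W.X i j (t + u) := by
  fin_cases i <;> fin_cases j <;> simp_all [X, D.x13_add, D.x23_add, D.x12_add, W.x32_add, W.x31_add, W.x21_add]

/-- The homomorphism from `SL(3, q)`. -/
theorem exists_hom (h8 : 8 ≤ Nat.card F) :
    ∃ f : Matrix.SpecialLinearGroup (Fin 3) F →* G,
      (∀ i j (h : i ≠ j) t, f (Matrix.SpecialLinearGroup.transvection h t) = W.X i j t) ∧
      f.range ≤ Subgroup.closure {g | ∃ i j, i ≠ j ∧ ∃ t, g = W.X i j t} := by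
  obtain ⟨e, he⟩ := S2401.result (K := F) 3 le_rfl
  let F0 : {ij : Fin 3 × Fin 3 // ij.1 ≠ ij.2} × F → G := fun x => W.X x.1.1.1 x.1.1.2 x.2
  obtain ⟨f, hf, hle⟩ := lift_equiv e F0 (by
    rintro g ((⟨a, t, u, rfl⟩ | ⟨a, b, t, u, h1, h2, rfl⟩) | ⟨a, b, h, t, u, h2, rfl⟩)
    · simp only [map_mul, map_inv, FreeGroup.lift_apply_of, mul_inv_eq_one]
      exact W.X_add a.2 t u
    · obtain ⟨⟨i, j⟩, hij⟩ := a
      obtain ⟨⟨k, l⟩, hkl⟩ := b
      simp only [map_mul, map_inv, FreeGroup.lift_apply_of]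
      rw [mul_inv_eq_one, mul_inv_eq_iff_eq_mul]
      show Commute (W.X i j t) (W.X k l u)
      dsimp only at hij hkl h1 h2
      by_cases hik : i = k
      · subst hik
        by_cases hjl : j = l
        · subst hjl
          show W.X i j t * W.X i j u = W.X i j u * W.X i j t
          rw [W.X_add hij, W.X_add hij, add_comm]
        · exact (W.rel_all h8 hij hjl h1).1 t u
      · by_cases hjl : j = l
        · subst hjl
          exact (W.rel_all h8 hik hkl hij).2.1 t u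
        · exfalso
          have := i.isLt
          have := j.isLt
          have := k.isLt
          have := l.isLt
          simp only [ne_eq, Fin.ext_iff] at hij hkl h1 h2 hik hjl
          omega
    · obtain ⟨⟨i, j⟩, hij⟩ := a
      obtain ⟨⟨k, l⟩, hkl⟩ := b
      obtain rfl : j = k := h2
      simp only [map_mul, map_inv, FreeGroup.lift_apply_of]
      rw [mul_inv_eq_one, mul_inv_eq_iff_eq_mul, mul_inv_eq_iff_eq_mul]
      exact (W.rel_all h8 hij hkl h).2.2 t u)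
  refine ⟨f, fun i j h t => ?_, hle.trans (Subgroup.closure_mono ?_)⟩
  · have e1 : e (PresentedGroup.of (⟨(i, j), h⟩, t)) = Matrix.SpecialLinearGroup.transvection h t :=
      Subtype.ext ((he ⟨(i, j), h⟩ t).trans (by
        simp [Matrix.SpecialLinearGroup.transvection_coe, Matrix.transvection]))
    rw [← e1, hf]
  · rintro _ ⟨y, rfl⟩
    exact ⟨_, _, y.1.2, y.2, rfl⟩

theorem s2_not_fix (h8 : 8 ≤ Nat.card F) (h : W.x32 1 ∈ L2) :
    (P.m2.ρ ⟨W.x32 1, h⟩ : Matrix (Fin 2) (Fin 2) F) 1 0 ≠ 0 := by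
  intro h0
  set c := P.m2.co (D.x13 1)
  have hc0 : c 1 = 0 := (P.swap.mem_Z_iff (D.x13_mem 1).2).mp (D.x13_mem 1).1
  have e := P.m2.co_conj ⟨W.x32 1, h⟩ (D.x13_mem 1).2
  have hz : W.x32 1 * D.x13 1 * (W.x32 1)⁻¹ ∈ V1 :=
    (P.swap.mem_Z_iff (P.m2.conj_mem h (D.x13_mem 1).2)).mpr (by
      rw [show P.swap.m1 = P.m2 from rfl, e]
      simp [Matrix.mulVec, dotProduct, Fin.sum_univ_two, h0, hc0, c])
  have hr := (W.rel_all h8 (a := 0) (b := 2) (c := 1) (by decide) (by decide) (by decide)).2.2 1 1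
  have hcm := (W.rel_all h8 (a := 0) (b := 2) (c := 1) (by decide) (by decide) (by decide)).2.1 1 1
  change D.x13 1 * W.x32 1 = D.x12 (1 * 1) * W.x32 1 * D.x13 1 at hr
  change Commute (D.x12 1) (W.x32 1) at hcm
  rw [mul_one] at hr
  have e2 : W.x32 1 * D.x13 1 * (W.x32 1)⁻¹ = (D.x12 1)⁻¹ * D.x13 1 := by
    rw [mul_inv_eq_iff_eq_mul, mul_assoc ((D.x12 1)⁻¹), hr]
    group
  rw [e2] at hz
  have h12 : D.x12 1 ∈ V1 := inv_mem_iff.mp (by simpa using mul_mem hz (inv_mem (D.x13_mem 1).1))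
  exact one_ne_zero ((P.mem_V1_iff_up _ (D.ρ_x12 1)).mp h12)

/-- The image is `L₁ ⊔ L₂`. -/
theorem exists_hom_onto (h8 : 8 ≤ Nat.card F) :
    ∃ f : Matrix.SpecialLinearGroup (Fin 3) F →* G,
      (∀ i j (h : i ≠ j) t, f (Matrix.SpecialLinearGroup.transvection h t) = W.X i j t) ∧
      f.range = L1 ⊔ L2 := by
  obtain ⟨f, hf, hle⟩ := W.exists_hom h8
  have hX : ∀ i j (h : i ≠ j) t, W.X i j t ∈ f.range := fun i j h t => ⟨_, hf i j h t⟩
  have x13m : ∀ t, D.x13 t ∈ f.range := hX 0 2 (by decide)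
  have x23m : ∀ t, D.x23 t ∈ f.range := hX 1 2 (by decide)
  have x12m : ∀ t, D.x12 t ∈ f.range := hX 0 1 (by decide)
  have x21m : ∀ t, W.x21 t ∈ f.range := hX 1 0 (by decide)
  have x32m : ∀ t, W.x32 t ∈ f.range := hX 2 1 (by decide)
  have hV1 : V1 ≤ f.range := fun v hv => by
    rw [← P.m1.vec_co hv, D.vec_split]
    exact mul_mem (x13m _) (x23m _)
  have hV2 : V2 ≤ f.range := fun b hb => by
    obtain ⟨s, hs⟩ := P.exists_up (P.V2_le_J hb)
    have h1 := P.m1.mem_of_ρ_eq (l := ⟨_, P.V2_le_L1 (D.x12_mem s)⟩) (m := ⟨b, P.V2_le_L1 hb⟩)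
      ((D.ρ_x12 s).trans hs.symm)
    have := mul_mem (x12m s) (hV1 h1)
    rwa [mul_inv_cancel_left] at this
  have hJ : J ≤ f.range := P.Jeq.le.trans (sup_le hV1 hV2)
  have hL1 : L1 ≤ f.range := by
    intro g hg
    set K := f.range.subgroupOf L1
    have hu : ∀ t, up t ∈ K.map P.m1.ρ := fun t =>
      ⟨⟨_, P.V2_le_L1 (D.x12_mem t)⟩, x12m t, D.ρ_x12 t⟩
    have hs : W.s1 ∈ f.range := W.s1_eq h8 ▸ mul_mem (mul_mem (x12m 1) (x21m 1)) (x12m 1)
    have htop := eq_top_of_upper (K.map P.m1.ρ) hu ⟨⟨W.s1, W.m1⟩, hs, rfl⟩ (by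
      rw [W.ρ1]
      show ((up D.s0).1 * (SL2Nat.wel (F := F)).1 * (up D.s0).1 : Matrix (Fin 2) (Fin 2) F) 1 0 ≠ 0
      simp [up, SL2Nat.wel, Matrix.mul_apply, Fin.sum_univ_two, Matrix.vecMul, dotProduct])
    obtain ⟨m, hm, hme⟩ : P.m1.ρ ⟨g, hg⟩ ∈ K.map P.m1.ρ := htop ▸ Subgroup.mem_top _
    have := mul_mem (show (m : G) ∈ f.range from hm) (hV1 (P.m1.mem_of_ρ_eq (m := ⟨g, hg⟩) hme))
    rwa [mul_inv_cancel_left] at this
  have hL2 : L2 ≤ f.range := by
    intro g hg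
    set K := f.range.subgroupOf L2
    have hu : ∀ t, up t ∈ K.map P.m2.ρ := fun t => by
      obtain ⟨b, hb, hρ⟩ := P.swap.exists_b t
      exact ⟨⟨b, P.swap.V2_le_L1 hb⟩, hV1 hb, hρ⟩
    have h32 : W.x32 1 ∈ L2 := mul_mem (mul_mem W.m2 (P.m2.Jle (P.V1_le_J (D.x23_mem 1)))) (inv_mem W.m2)
    have htop := eq_top_of_upper (K.map P.m2.ρ) hu ⟨⟨_, h32⟩, x32m 1, rfl⟩ (W.s2_not_fix h8 h32)
    obtain ⟨m, hm, hme⟩ : P.m2.ρ ⟨g, hg⟩ ∈ K.map P.m2.ρ := htop ▸ Subgroup.mem_top _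
    have := mul_mem (show (m : G) ∈ f.range from hm) (hV2 (P.m2.mem_of_ρ_eq (m := ⟨g, hg⟩) hme))
    rwa [mul_inv_cancel_left] at this
  refine ⟨f, hf, le_antisymm (hle.trans ((Subgroup.closure_le _).mpr ?_)) (sup_le hL1 hL2)⟩
  rintro _ ⟨i, j, hij, t, rfl⟩
  have m1 : ∀ {x}, x ∈ L1 → x ∈ L1 ⊔ L2 := fun {x} hx => Subgroup.mem_sup_left hx
  have m2 : ∀ {x}, x ∈ L2 → x ∈ L1 ⊔ L2 := fun {x} hx => Subgroup.mem_sup_right hx
  have a12 := m1 (P.V2_le_L1 (D.x12_mem t))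
  have a13 := m1 (P.m1.le (D.x13_mem t).1)
  have a23 := m1 (P.m1.le (D.x23_mem t))
  have a21 : W.x21 t ∈ L1 ⊔ L2 := mul_mem (mul_mem (m1 W.m1) a12) (inv_mem (m1 W.m1))
  have a32 : W.x32 t ∈ L1 ⊔ L2 := mul_mem (mul_mem (m2 W.m2) a23) (inv_mem (m2 W.m2))
  have a31 : W.x31 t ∈ L1 ⊔ L2 := mul_mem (mul_mem (m1 W.m1) a32) (inv_mem (m1 W.m1))
  fin_cases i <;> fin_cases j <;> first | exact absurd rfl hij | assumption

end Weyl

end Cfsg.Agent.Invol.NatPair
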