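import Cfsg.Agent.Lib.Invol.NatPair.Fixed

/-!
# A finite field has at most one automorphism of order two
-/

set_option autoImplicit false
set_option linter.unusedSectionVars false

namespace Cfsg.Agent.Invol.NatPair

universe v

variable {F : Type v} [Field F] [Finite F] [CharP F 2]

theorem two_nsmul_zero (x : F) : x + x = 0 := CharTwo.add_self_eq_zero x

theorem card_fixed_sq (τ : F →+* F) (h : ∀ x, τ (τ x) = x) {c : F} (hc : τ c ≠ c) :
    Nat.card {x : F // τ x = x} * Nat.card {x : F // τ x = x} = Nat.card F :=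
  le_antisymm (fixed_sq_le_card τ.toAddMonoidHom τ (fun a x => map_mul τ a x) hc)
    (card_le_fixed_sq τ.toAddMonoidHom two_nsmul_zero h)

theorem eq_of_involutive (τ τ' : F →+* F) (h : ∀ x, τ (τ x) = x) (h' : ∀ x, τ' (τ' x) = x) {c c' : F}
    (hc : τ c ≠ c) (hc' : τ' c' ≠ c') (x : F) : τ x = τ' x := by
  classical
  haveI := Fintype.ofFinite F
  have hr : Nat.card {x : F // τ x = x} = Nat.card {x : F // τ' x = x} :=
    Nat.mul_self_inj.mp ((card_fixed_sq τ h hc).trans (card_fixed_sq τ' h' hc').symm)
  have hpow : ∀ (g : F →+* F) (y : F), g y = y → y ^ Nat.card {x : F // g x = x} = y := fun g y hy => by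
    let K : Subfield F := g.eqLocusField (RingHom.id F)
    haveI := Fintype.ofFinite K
    have h1 := FiniteField.pow_card (⟨y, hy⟩ : K)
    have h2 : Fintype.card K = Nat.card {x : F // g x = x} := by rw [← Nat.card_eq_fintype_card]; rfl
    rw [h2] at h1
    exact congrArg Subtype.val h1
  set n := Nat.card {x : F // τ x = x} with hn
  have h1n : 1 < n := by
    haveI : Nontrivial {x : F // τ x = x} :=
      ⟨⟨⟨0, map_zero τ⟩, ⟨1, map_one τ⟩, fun e => zero_ne_one (congrArg Subtype.val e)⟩⟩
    exact Finite.one_lt_card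
  have hfix : ∀ y, τ' y = y → τ y = y := by
    intro y hy
    by_contra hy'
    let p : Polynomial F := Polynomial.X ^ n - Polynomial.X
    have hp : p ≠ 0 := FiniteField.X_pow_card_sub_X_ne_zero F h1n
    let S : Finset F := insert y (Finset.univ.filter fun z => τ z = z)
    have hS : S ⊆ p.roots.toFinset := fun z hz => by
      rw [Multiset.mem_toFinset, Polynomial.mem_roots hp]
      rcases Finset.mem_insert.mp hz with rfl | hz
      · simp [p, hr ▸ hpow τ' z hy]
      · simp [p, show z ^ n = z from hpow τ z (Finset.mem_filter.mp hz).2]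
    have hcard := (Finset.card_le_card hS).trans ((Multiset.toFinset_card_le _).trans (Polynomial.card_roots' p))
    rw [Finset.card_insert_of_notMem (by simp [hy']), FiniteField.X_pow_card_sub_X_natDegree_eq F h1n,
      ← Fintype.card_subtype, ← Nat.card_eq_fintype_card, ← hn] at hcard
    omega
  have hfix' : ∀ y, τ y = y → τ' y = y := fun y hy => by
    have hsub : {z : F | τ' z = z} ⊆ {z : F | τ z = z} := hfix
    have := Set.eq_of_subset_of_ncard_le hsub (by
      rw [← Nat.card_coe_set_eq, ← Nat.card_coe_set_eq]; exact hr.le) (Set.toFinite _)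
    exact (this.symm ▸ hy : y ∈ {z : F | τ' z = z})
  by_cases hx : τ x = x
  · rw [hx, hfix' x hx]
  have e1 := hfix' (x + τ x) (by rw [map_add, h, add_comm])
  have e2 := hfix' (x * τ x) (by rw [map_mul, h, mul_comm])
  rw [map_add] at e1
  rw [map_mul] at e2
  have hne : τ' x ≠ x := fun e => hx (hfix x e)
  have hb : τ' (τ x) = x + τ x - τ' x := by rw [← e1]; ring
  rw [hb] at e2
  have : (τ' x - x) * (τ' x - τ x) = 0 := by linear_combination -e2
  exact (sub_eq_zero.mp ((mul_eq_zero.mp this).resolve_left (sub_ne_zero.mpr hne))).symm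

end Cfsg.Agent.Invol.NatPair
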