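import Cfsg.Agent.Lib.Invol.NatPair.Linear

/-!
# The kernel of the action of the torus on `Z`; elements interchanging the modules
-/

set_option autoImplicit false
set_option linter.unusedSectionVars false
set_option linter.style.haveILetI false

namespace Cfsg.Agent.Invol.NatPair

open Matrix Cfsg.Agent.Grp.SL2
open Cfsg.Agent.Invol.Nat2 (dg mulVec_up)
open Cfsg.Agent.Invol.SL2Nat (wel)

universe u v

variable {G : Type u} [Group G] [Finite G] {F : Type v} [Field F] [Finite F] [CharP F 2]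

namespace Pair

variable {L1 L2 V1 V2 J T : Subgroup G} (P : Pair L1 L2 V1 V2 J T F)

/-- A linear element of the common normalizer acting trivially on `Z`. -/
def InK (P : Pair L1 L2 V1 V2 J T F) (n : G) : Prop := n ∈ both V1 V2 ∧ P.Lin n ∧ P.alpha n = 1

include P

theorem exists_kernel {c : F} (hc : c ≠ 0) : ∃ n, P.InK n ∧ P.delta n = c ^ 3 := by
  obtain ⟨n2, hn2, -, hl2, ha2, hd2⟩ := P.exists_torus2 hc
  obtain ⟨n1, hn1, -, hl1, ha1, hd1⟩ := P.exists_torus1 (inv_ne_zero hc)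
  refine ⟨(n1 : G) * n2, ⟨mul_mem hn1 hn2, P.lin_mul hn1 hn2 hl1 hl2, ?_⟩, ?_⟩
  · rw [P.alpha_mul hn1 hn2, hl1, ha1, ha2, mul_inv_cancel₀ hc]
  · rw [P.delta_mul hn1 hn2, hl1, hd1, hd2, inv_inv]; ring

theorem exists_kernel_ne (h8 : 8 ≤ Nat.card F) :
    ∃ n, P.InK n ∧ P.delta n ≠ 1 ∧ P.delta n ≠ (P.delta n)⁻¹ := by
  classical
  haveI := Fintype.ofFinite F
  obtain ⟨c, hc0, hc⟩ : ∃ c : F, c ≠ 0 ∧ c ^ 3 ≠ 1 := by
    by_contra h
    push Not at h
    have hsub : (Finset.univ.erase (0 : F)) ⊆ (Polynomial.nthRoots 3 (1 : F)).toFinset := fun c hc => by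
      rw [Multiset.mem_toFinset, Polynomial.mem_nthRoots (by norm_num)]
      exact h c (Finset.mem_erase.mp hc).1
    have h1 := (Finset.card_le_card hsub).trans ((Multiset.toFinset_card_le _).trans (Polynomial.card_nthRoots 3 1))
    rw [Finset.card_erase_of_mem (Finset.mem_univ _), Finset.card_univ, ← Nat.card_eq_fintype_card] at h1
    omega
  obtain ⟨n, hn, hd⟩ := P.exists_kernel hc0
  refine ⟨n, hn, hd ▸ hc, fun e => hc ?_⟩
  rw [hd] at e
  have e1 : (c ^ 3) ^ 2 ^ 1 = 1 := by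
    rw [pow_one, pow_two]
    conv_lhs => arg 2; rw [e]
    exact mul_inv_cancel₀ (pow_ne_zero 3 hc0)
  exact P.eq_one_of_two_pow e1

/-- An element of the kernel commutes with `Z`. -/
theorem InK_comm_Z {n : G} (hn : P.InK n) {z : G} (h1 : z ∈ V1) (h2 : z ∈ V2) : Commute n z := by
  refine mul_inv_eq_iff_eq_mul.mp ?_
  conv_lhs => rw [← P.m1.vec_co h1, P.m1.vec_mov hn.1.1, P.mov_eq hn.1, hn.2.1, hn.2.1, hn.2.2,
    (P.mem_Z_iff h1).mp h2]
  conv_rhs => rw [P.Z_eq_vec h1 h2]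
  congr 1
  ext i; fin_cases i <;> simp

theorem conj_V1_co {n : G} (hn : n ∈ both V1 V2) (hl : P.Lin n) {a : G} (ha : a ∈ V1) :
    P.m1.co (n * a * n⁻¹) 1 = P.m1.co a 1 * P.delta n := by
  have : P.m1.co (n * a * n⁻¹) = P.m1.mov n (P.m1.co a) := by rw [Mod.mov, P.m1.vec_co ha]
  rw [this, P.mov_eq hn, hl, hl]
  simp

/-- `L1` is generated by the conjugates of `J` under `N(V1)`. -/
theorem mem_L1_iff {g : G} :
    g ∈ L1 ↔ g ∈ Subgroup.closure {x : G | ∃ n ∈ Subgroup.normalizer (V1 : Set G), ∃ y ∈ J, x = n * y * n⁻¹} := by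
  constructor
  · intro hg
    set K := (Subgroup.closure {x : G | ∃ n ∈ Subgroup.normalizer (V1 : Set G), ∃ y ∈ J, x = n * y * n⁻¹}).subgroupOf L1
      with hK
    have hJ : ∀ l : L1, (l : G) ∈ J → l ∈ K := fun l hl =>
      Subgroup.subset_closure ⟨1, one_mem _, _, hl, by simp⟩
    have hc : ∀ l : L1, ∀ j : L1, (j : G) ∈ J → l * j * l⁻¹ ∈ K := fun l j hj =>
      Subgroup.subset_closure ⟨l, P.m1.norm l.2, _, hj, rfl⟩
    obtain ⟨w, hw⟩ := P.m1.exists_lift wel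
    have hu : ∀ t, up t ∈ K.map P.m1.ρ := fun t => by
      obtain ⟨l, hl⟩ := P.m1.exists_lift (up t)
      exact ⟨l, hJ l ((P.m1.mem_J l).mpr ⟨t, hl⟩), hl⟩
    have hwel : (wel : Matrix.SpecialLinearGroup (Fin 2) F) = up 1 * (wel * up 1 * wel⁻¹) * up 1 := by
      have e : (wel * up 1 * wel⁻¹ : Matrix.SpecialLinearGroup (Fin 2) F) = low 1 := by
        rw [SL2Nat.low_eq (1 : F), CharTwo.neg_eq]
      rw [e]
      refine Subtype.ext ?_
      show (wel : Matrix.SpecialLinearGroup (Fin 2) F).1 = (up (1 : F)).1 * (low (1 : F)).1 * (up (1 : F)).1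
      ext i j
      fin_cases i <;> fin_cases j <;>
        simp [up, low, wel, Matrix.mul_apply, Fin.sum_univ_two, CharTwo.add_self_eq_zero, CharTwo.neg_eq]
    have htop : K.map P.m1.ρ = ⊤ := SL2Nat.generated _ hu (by
      obtain ⟨j, hj⟩ := P.m1.exists_lift (up 1)
      rw [hwel]
      exact mul_mem (mul_mem (hu 1) ⟨w * j * w⁻¹, hc w j ((P.m1.mem_J j).mpr ⟨1, hj⟩),
        by rw [map_mul, map_mul, map_inv, hw, hj]⟩) (hu 1))
    obtain ⟨m, hm, hme⟩ : P.m1.ρ ⟨g, hg⟩ ∈ K.map P.m1.ρ := htop ▸ Subgroup.mem_top _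
    have hv : (m : G)⁻¹ * g ∈ V1 := P.m1.mem_of_ρ_eq (m := ⟨g, hg⟩) hme
    have := K.mul_mem hm (hJ ⟨_, P.m1.le hv⟩ (P.V1_le_J hv))
    simpa [hK, Subgroup.mem_subgroupOf] using this
  · refine fun hg => (Subgroup.closure_le L1).mpr ?_ hg
    rintro _ ⟨n, hn, y, hy, rfl⟩
    exact (Subgroup.mem_normalizer_iff.mp (P.nL1 hn) y).mp (P.m1.Jle hy)

/-- An element interchanging the modules interchanges the parabolics. -/
theorem conj_L1 {h : G} (hh : h ∈ Subgroup.normalizer (J : Set G)) (hb : h ∉ both V1 V2) {g : G} (hg : g ∈ L1) :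
    h * g * h⁻¹ ∈ L2 := by
  have hle : Subgroup.closure {x : G | ∃ n ∈ Subgroup.normalizer (V1 : Set G), ∃ y ∈ J, x = n * y * n⁻¹} ≤
      L2.comap (MulAut.conj h).toMonoidHom := by
    rw [Subgroup.closure_le]
    rintro _ ⟨n, hn, y, hy, rfl⟩
    show h * (n * y * n⁻¹) * h⁻¹ ∈ L2
    have hn2 : h * n * h⁻¹ ∈ Subgroup.normalizer (V2 : Set G) := by
      refine mem_normalizer_of_conj fun v hv => ?_
      have hb' : h⁻¹ ∉ both V2 V1 := fun e => hb (by
        rw [P.both_swap] at e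
        simpa using (both V1 V2).inv_mem e)
      have hv1 : h⁻¹ * v * h⁻¹⁻¹ ∈ V1 := P.swap.conj_V1 (inv_mem hh) hb' hv
      have := P.conj_V1 hh hb ((Subgroup.mem_normalizer_iff.mp hn _).mp hv1)
      convert this using 1
      group
    have hy2 : h * y * h⁻¹ ∈ L2 := P.m2.Jle ((Subgroup.mem_normalizer_iff.mp hh y).mp hy)
    have := (Subgroup.mem_normalizer_iff.mp (P.nL2 hn2) _).mp hy2
    convert this using 1
    group
  exact hle ((P.mem_L1_iff).mp hg)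

/-- The action of an interchanging element on `Z`. -/
noncomputable def zmap (P : Pair L1 L2 V1 V2 J T F) (h : G) (t : F) : F :=
  P.m1.co (h * P.m1.vec ![t, 0] * h⁻¹) 0

theorem conj_Z {h : G} (hh : h ∈ Subgroup.normalizer (J : Set G)) (hb : h ∉ both V1 V2) {z : G} (h1 : z ∈ V1)
    (h2 : z ∈ V2) : h * z * h⁻¹ ∈ V1 ∧ h * z * h⁻¹ ∈ V2 :=
  ⟨P.swap.conj_V1 hh (by rwa [P.both_swap]) h2, P.conj_V1 hh hb h1⟩

theorem conj_vec_Z {h : G} (hh : h ∈ Subgroup.normalizer (J : Set G)) (hb : h ∉ both V1 V2) (t : F) :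
    h * P.m1.vec ![t, 0] * h⁻¹ = P.m1.vec ![P.zmap h t, 0] := by
  obtain ⟨h1, h2⟩ := P.conj_Z hh hb (P.m1.vec_mem ![t, 0]) (P.vec_mem_Z t)
  exact P.Z_eq_vec h1 h2

/-- An element interchanging the modules is semilinear on `Z`. -/
theorem exists_semilinear {h : G} (hh : h ∈ Subgroup.normalizer (J : Set G)) (hb : h ∉ both V1 V2) :
    ∃ τ : F → F, ∀ a t, P.zmap h (a * t) = τ a * P.zmap h t := by
  classical
  have hone : ∀ a : F, a ≠ 0 → ∃ b : F, ∀ t, P.zmap h (a * t) = b * P.zmap h t := by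
    intro a ha
    obtain ⟨n, hn, hρ, hl, hα, -⟩ := P.exists_torus1 ha
    set m : G := h * (n : G) * h⁻¹ with hm
    have hmL : m ∈ L2 := P.conj_L1 hh hb n.2
    have hmJ : m ∈ Subgroup.normalizer (J : Set G) :=
      mul_mem (mul_mem hh (P.both_le_normalizer_J hn)) (inv_mem hh)
    have hmb : m ∈ both V1 V2 := P.both_swap ▸ P.swap.mem_both_of_J hmJ (P.m2.norm hmL)
    have hml : P.Lin m := by
      obtain ⟨s, hs⟩ : ∃ s : F, s ≠ 0 ∧ ∃ hs : s ≠ 0, ∃ x : L2, (x : G) ∈ J ∧ P.m2.ρ ⟨m, hmL⟩ = P.m2.ρ x * dg s hs := by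
        have hup : ∀ j : L2, (j : G) ∈ J → ∃ t, P.m2.ρ (⟨m, hmL⟩ * j * ⟨m, hmL⟩⁻¹) = up t := fun j hj =>
          (P.m2.mem_J _).mp ((Subgroup.mem_normalizer_iff.mp hmJ j).mp hj)
        obtain ⟨j, hj⟩ := P.m2.exists_lift (up 1)
        obtain ⟨t, ht⟩ := hup j ((P.m2.mem_J j).mpr ⟨1, hj⟩)
        rw [map_mul, map_mul, map_inv, hj, mul_inv_eq_iff_eq_mul] at ht
        set A := P.m2.ρ ⟨m, hmL⟩
        have h10 := Nat2.upper_of_conj_up one_ne_zero ht
        have hd := det_eq A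
        rw [h10] at hd
        simp at hd
        have h00 : (A : Matrix (Fin 2) (Fin 2) F) 0 0 ≠ 0 := left_ne_zero_of_mul_eq_one hd
        refine ⟨(A : Matrix (Fin 2) (Fin 2) F) 0 0, h00, h00, ?_⟩
        obtain ⟨x, hx⟩ :=
          P.m2.exists_lift (up ((A : Matrix (Fin 2) (Fin 2) F) 0 1 * (A : Matrix (Fin 2) (Fin 2) F) 0 0))
        refine ⟨x, (P.m2.mem_J x).mpr ⟨_, hx⟩, ?_⟩
        rw [hx]
        refine Subtype.ext ?_
        show A.1 = (up _ : Matrix.SpecialLinearGroup (Fin 2) F).1 * (dg _ h00).1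
        have h11 : (A : Matrix (Fin 2) (Fin 2) F) 1 1 = ((A : Matrix (Fin 2) (Fin 2) F) 0 0)⁻¹ :=
          eq_inv_of_mul_eq_one_right hd
        ext i k
        fin_cases i <;> fin_cases k <;> simp [up, dg, Matrix.mul_apply, Fin.sum_univ_two, h10, h11, h00]
      obtain ⟨hs0, hs', x, hxJ, hx⟩ := hs
      have hxm : (x : G)⁻¹ * m ∈ both V1 V2 := mul_mem ((both V1 V2).inv_mem (P.J_le_both hxJ)) hmb
      have h2 := P.lin_torus2 (n := x⁻¹ * ⟨m, hmL⟩) hs' (by rw [map_mul, map_inv, hx, inv_mul_cancel_left]) hxm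
      have := P.lin_mul (P.J_le_both hxJ) hxm (P.lin_J hxJ) h2
      simpa using this
    refine ⟨P.alpha m, fun t => ?_⟩
    have e : h * P.m1.vec ![a * t, 0] * h⁻¹ = m * (h * P.m1.vec ![t, 0] * h⁻¹) * m⁻¹ := by
      have : (n : G) * P.m1.vec ![t, 0] * (n : G)⁻¹ = P.m1.vec ![a * t, 0] := by
        rw [P.m1.conj_vec, hρ, Nat2.mulVec_dg]; congr 1; ext i; fin_cases i <;> simp
      rw [← this, hm]; group
    rw [P.conj_vec_Z hh hb, P.conj_vec_Z hh hb, P.m1.vec_mov hmb.1, P.mov_eq hmb, hml, hml] at e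
    simpa [mul_comm] using congrFun (P.m1.vec_inj e) 0
  have hz0 : P.zmap h 0 = 0 := by
    rw [zmap, show (![0, 0] : Fin 2 → F) = 0 by ext i; fin_cases i <;> rfl, P.m1.vec_zero, mul_one,
      mul_inv_cancel, P.m1.co_one]
    rfl
  refine ⟨fun a => if ha : a = 0 then 0 else Classical.choose (hone a ha), fun a t => ?_⟩
  by_cases ha : a = 0
  · simp [ha, hz0]
  · simp only [dif_neg ha]; exact Classical.choose_spec (hone a ha) t

/-- An interchanging element commuting with the kernel modulo `J` moves a point of `Z`. -/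
theorem swapper_moves_Z {h k : G} (hh : h ∈ Subgroup.normalizer (J : Set G)) (hb : h ∉ both V1 V2)
    (h2 : h * h ∈ J) (hk : P.InK k) (hd : P.delta k ≠ (P.delta k)⁻¹) (hkh : h * k * h⁻¹ * k⁻¹ ∈ J) :
    ∃ z ∈ V1 ⊓ V2, ¬ Commute h z := by
  by_contra hall
  push Not at hall
  obtain ⟨a, ha, ha2⟩ := P.exists_V1_not_V2
  set b := h * a * h⁻¹ with hbdef
  have hbJ : b ∈ J := (Subgroup.mem_normalizer_iff.mp hh a).mp (P.V1_le_J ha)
  have hb2 : b ∈ V2 := P.conj_V1 hh hb ha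
  have hb1 : b ∉ V1 := fun hb1 => ha2 (by
    have h' : h⁻¹ * b * h⁻¹⁻¹ = a := by rw [hbdef]; group
    have hb' : h⁻¹ ∉ both V1 V2 := fun e => hb (by simpa using (both V1 V2).inv_mem e)
    exact h' ▸ P.conj_V1 (inv_mem hh) hb' hb1)
  obtain ⟨t, ht⟩ := P.exists_up hbJ
  have ht0 : t ≠ 0 := fun e => hb1 ((P.mem_V1_iff_up _ ht).mpr e)
  have hs0 : P.m1.co a 1 ≠ 0 := fun e => ha2 ((P.mem_Z_iff ha).mpr e)
  set a' := k * a * k⁻¹ with ha'def
  have ha' : a' ∈ V1 := (Subgroup.mem_normalizer_iff.mp hk.1.1 a).mp ha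
  have hco' : P.m1.co a' 1 = P.m1.co a 1 * P.delta k := P.conj_V1_co hk.1 hk.2.1 ha
  set j := h * k * h⁻¹ * k⁻¹ with hjdef
  set b' := h * a' * h⁻¹ with hb'def
  have hjk : j * k ∈ both V1 V2 := mul_mem (P.J_le_both hkh) hk.1
  have hb'e : b' = (j * k) * b * (j * k)⁻¹ := by rw [hb'def, ha'def, hbdef, hjdef]; group
  have hb'L : (j * k) * b * (j * k)⁻¹ ∈ L1 :=
    P.m1.Jle ((Subgroup.mem_normalizer_iff.mp (P.both_le_normalizer_J hjk) b).mp hbJ)
  have ht' := P.conj_up_param hjk hbJ ht hb'L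
  rw [P.lin_mul (P.J_le_both hkh) hk.1 (P.lin_J hkh) hk.2.1, P.alpha_mul (P.J_le_both hkh) hk.1,
    P.delta_mul (P.J_le_both hkh) hk.1, P.lin_J hkh, P.lin_J hkh, (P.coords_J hkh).1, (P.coords_J hkh).2,
    hk.2.2, mul_one, mul_one, mul_one] at ht'
  have haa : ∃ j' ∈ J, h * h = j' := ⟨_, h2, rfl⟩
  set a2 := (h * h) * a * (h * h)⁻¹ with ha2def
  have ha2m : a2 ∈ V1 := (Subgroup.mem_normalizer_iff.mp (P.J_le_both h2).1 a).mp ha
  have hco2 : P.m1.co a2 1 = P.m1.co a 1 := by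
    rw [ha2def, P.conj_V1_co (P.J_le_both h2) (P.lin_J h2) ha, (P.coords_J h2).2, mul_one]
  have c1 := P.conj_up _ ht ha'
  have c2 := P.conj_up hb'L ht' ha2m
  rw [← hb'e] at c2
  have e : h * (b * a' * b⁻¹ * a'⁻¹) * h⁻¹ = a2 * b' * a2⁻¹ * b'⁻¹ := by
    rw [hb'def, ha2def, hbdef]; group
  have hzmem : b * a' * b⁻¹ * a'⁻¹ ∈ V1 ⊓ V2 := by
    rw [c1]; exact ⟨P.m1.vec_mem _, P.vec_mem_Z _⟩
  have e2 : a2 * b' * a2⁻¹ * b'⁻¹ = (b' * a2 * b'⁻¹ * a2⁻¹)⁻¹ := by group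
  rw [(hall _ hzmem).eq, mul_inv_cancel_right, e2, c2, c1, P.m1.inv_eq (P.m1.vec_mem _)] at e
  have := congrFun (P.m1.vec_inj e) 0
  simp [hco', hco2] at this
  refine hd ?_
  have hd0 := P.delta_ne_zero hk.1
  field_simp at this ⊢
  exact this

/-- The fixed points on `Z` of an interchanging element of order two modulo `J`. -/
theorem card_fixed_Z {h : G} (hh : h ∈ Subgroup.normalizer (J : Set G)) (hb : h ∉ both V1 V2) (h2 : h * h ∈ J)
    (hmv : ∃ z ∈ V1 ⊓ V2, ¬ Commute h z) :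
    Nat.card (V1 ⊓ V2 ⊓ Subgroup.centralizer {h} : Subgroup G) *
      Nat.card (V1 ⊓ V2 ⊓ Subgroup.centralizer {h} : Subgroup G) = Nat.card F := by
  obtain ⟨τ, hτ⟩ := P.exists_semilinear hh hb
  have hadd : ∀ x y, P.zmap h (x + y) = P.zmap h x + P.zmap h y := fun x y => by
    have := congrFun (P.m1.vec_inj (show P.m1.vec ![P.zmap h (x + y), 0] =
        P.m1.vec (![P.zmap h x, 0] + ![P.zmap h y, 0]) by
      rw [P.m1.vec_add, ← P.conj_vec_Z hh hb, ← P.conj_vec_Z hh hb, ← P.conj_vec_Z hh hb,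
        show (![x + y, 0] : Fin 2 → F) = ![x, 0] + ![y, 0] by ext i; fin_cases i <;> simp, P.m1.vec_add]
      group)) 0
    simpa using this
  let f : F →+ F :=
    { toFun := P.zmap h
      map_zero' := by simpa using hadd 0 0
      map_add' := hadd }
  have hinv : ∀ x, f (f x) = x := fun x => by
    have e : h * (h * P.m1.vec ![x, 0] * h⁻¹) * h⁻¹ = P.m1.vec ![x, 0] := by
      rw [show h * (h * P.m1.vec ![x, 0] * h⁻¹) * h⁻¹ = (h * h) * P.m1.vec ![x, 0] * (h * h)⁻¹ by group,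
        ← (P.Z_central (P.m1.vec_mem _) (P.vec_mem_Z x) h2).eq, mul_inv_cancel_right]
    rw [P.conj_vec_Z hh hb, P.conj_vec_Z hh hb] at e
    show P.zmap h (P.zmap h x) = x
    simpa using congrFun (P.m1.vec_inj e) 0
  have hequiv : Nat.card {x : F // f x = x} = Nat.card (V1 ⊓ V2 ⊓ Subgroup.centralizer {h} : Subgroup G) := by
    refine Nat.card_congr (Equiv.ofBijective (fun x : {x : F // f x = x} =>
      (⟨P.m1.vec ![x.1, 0], ⟨P.m1.vec_mem _, P.vec_mem_Z _⟩, Subgroup.mem_centralizer_singleton_iff.mpr ?_⟩ :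
        (V1 ⊓ V2 ⊓ Subgroup.centralizer {h} : Subgroup G))) ⟨?_, ?_⟩)
    · have := P.conj_vec_Z hh hb x.1
      rw [show P.zmap h x.1 = x.1 from x.2, mul_inv_eq_iff_eq_mul] at this
      exact this.symm
    · intro x y e
      have e' : P.m1.vec ![x.1, 0] = P.m1.vec ![y.1, 0] :=
        congrArg (fun z : (V1 ⊓ V2 ⊓ Subgroup.centralizer {h} : Subgroup G) => (z : G)) e
      exact Subtype.ext (by simpa using congrFun (P.m1.vec_inj e') 0)
    · rintro ⟨z, ⟨h1, hz2⟩, hc⟩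
      refine ⟨⟨P.m1.co z 0, ?_⟩, Subtype.ext (P.Z_eq_vec h1 hz2).symm⟩
      show P.m1.co (h * P.m1.vec _ * h⁻¹) 0 = _
      rw [← P.Z_eq_vec h1 hz2, ← Subgroup.mem_centralizer_singleton_iff.mp hc, mul_inv_cancel_right]
  obtain ⟨z, hz, hzc⟩ := hmv
  obtain ⟨c, hc⟩ : ∃ c, τ c ≠ c := by
    by_contra hall
    push Not at hall
    obtain ⟨x0, hx0, hx0f⟩ : ∃ x0, x0 ≠ 0 ∧ f x0 = x0 := by
      by_contra hn
      push Not at hn
      have h1 := card_le_fixed_sq f two_nsmul_zero hinv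
      have : Nat.card {x : F // f x = x} ≤ 1 := Finite.card_le_one_iff_subsingleton.mpr
        ⟨fun a b => Subtype.ext (by
          rw [show a.1 = 0 from by_contra fun h => hn _ h a.2, show b.1 = 0 from by_contra fun h => hn _ h b.2])⟩
      have := P.four_le_q
      nlinarith
    refine hzc (mul_inv_eq_iff_eq_mul.mp ?_)
    rw [P.Z_eq_vec hz.1 hz.2, P.conj_vec_Z hh hb]
    have := hτ (P.m1.co z 0 / x0) x0
    rw [div_mul_cancel₀ _ hx0, hall, show P.zmap h x0 = x0 from hx0f, div_mul_cancel₀ _ hx0] at this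
    rw [this]
  have := fixed_sq_le_card f τ (fun a x => hτ a x) hc
  rw [← hequiv]
  exact le_antisymm this (card_le_fixed_sq f two_nsmul_zero hinv)

end Pair

end Cfsg.Agent.Invol.NatPair
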