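import Cfsg.Agent.Lib.Invol.NatPair.Semi

/-!
# The two tori act linearly on the line `Z`

In the coordinates of `V1` a torus element of `L2` is linear; if it scales `Z` by `α`, it scales `V1/Z` by `α²`.
An element interchanging the modules is semilinear on `Z`.
-/

set_option autoImplicit false
set_option linter.unusedSectionVars false
set_option linter.style.haveILetI false

namespace Cfsg.Agent.Invol.NatPair

open Matrix Cfsg.Agent.Grp.SL2
open Cfsg.Agent.Invol.Nat2 (dg dg_up mulVec_up mulVec_dg)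
open Cfsg.Agent.Invol.SL2Nat (wel)

universe u v

variable {G : Type u} [Group G] [Finite G] {F : Type v} [Field F] [Finite F] [CharP F 2]

local notation "SS" => Matrix.SpecialLinearGroup (Fin 2) F

theorem mul_pred_lt_pow {r m : ℕ} (hr : 2 ≤ r) (hm : 2 ≤ m) : m * (r - 1) + 1 < r ^ m := by
  induction m, hm using Nat.le_induction with
  | base =>
    obtain ⟨s, rfl⟩ : ∃ s, r = s + 1 := ⟨r - 1, by omega⟩
    rw [Nat.add_sub_cancel, pow_two]
    nlinarith
  | succ n hn ih =>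
    rw [pow_succ, add_mul, one_mul]
    have h1 : 2 * r ^ n ≤ r ^ n * r := by rw [mul_comm (r ^ n)]; exact Nat.mul_le_mul_right _ hr
    have h2 : r ≤ r ^ n := Nat.le_self_pow (by omega) r
    omega

/-- Multiplication by all cubes generates a field of at least eight elements. -/
theorem cube_invariant_eq_top (h8 : 8 ≤ Nat.card F) (S : AddSubgroup F)
    (hS : ∀ c : F, c ≠ 0 → ∀ s ∈ S, c ^ 3 * s ∈ S) {x : F} (hx : x ∈ S) (hx0 : x ≠ 0) : S = ⊤ := by
  classical
  haveI := Fintype.ofFinite F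
  let R : Subring F :=
    { carrier := {y | ∀ s ∈ S, y * s ∈ S}
      mul_mem' := fun {a b} ha hb s hs => by rw [mul_assoc]; exact ha _ (hb s hs)
      one_mem' := fun s hs => by rwa [one_mul]
      add_mem' := fun {a b} ha hb s hs => by rw [add_mul]; exact S.add_mem (ha s hs) (hb s hs)
      zero_mem' := fun s _ => by rw [zero_mul]; exact S.zero_mem
      neg_mem' := fun {a} ha s hs => by rw [neg_mul]; exact S.neg_mem (ha s hs) }
  suffices hR : R = ⊤ by
    refine eq_top_iff.mpr fun y _ => ?_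
    have : y / x ∈ R := hR ▸ Subring.mem_top _
    simpa [div_mul_cancel₀ _ hx0] using this x hx
  by_contra hR
  obtain ⟨c, hc⟩ : ∃ c : F, c ∉ R := by
    by_contra h
    push Not at h
    exact hR (eq_top_iff.mpr fun y _ => h y)
  have hinv : ∀ b ∈ R, b⁻¹ ∈ R := fun b hb => by
    by_cases hb0 : b = 0
    · rw [hb0, _root_.inv_zero]; exact R.zero_mem
    have e : b⁻¹ = b ^ (Fintype.card F - 2) := by
      have h1 := FiniteField.pow_card_sub_one_eq_one b hb0
      rw [show Fintype.card F - 1 = (Fintype.card F - 2) + 1 by rw [← Nat.card_eq_fintype_card]; omega,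
        pow_succ] at h1
      exact (eq_inv_of_mul_eq_one_left h1).symm
    exact e ▸ pow_mem hb _
  have hsq : Nat.card R * Nat.card R ≤ Nat.card F := by
    rw [← Nat.card_prod]
    refine Nat.card_le_card_of_injective (fun p : R × R => (p.1 : F) + c * p.2) ?_
    rintro ⟨⟨a, ha⟩, ⟨b, hb⟩⟩ ⟨⟨a', ha'⟩, ⟨b', hb'⟩⟩ (e : a + c * b = a' + c * b')
    by_cases hbb : b = b'
    · subst hbb
      obtain rfl := add_right_cancel e
      rfl
    · refine absurd ?_ hc
      have hne : b - b' ≠ 0 := sub_ne_zero.mpr hbb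
      rw [show c = (a' - a) * (b - b')⁻¹ by field_simp; linear_combination e]
      exact R.mul_mem (R.sub_mem ha' ha) (hinv _ (R.sub_mem hb hb'))
  let N : Finset F := Finset.univ.erase 0
  have himg : N.image (fun y : F => y ^ 3) ⊆ (Finset.univ.filter (· ∈ R)).erase 0 := by
    intro y hy
    obtain ⟨u, hu, rfl⟩ := Finset.mem_image.mp hy
    have hu0 := (Finset.mem_erase.mp hu).1
    exact Finset.mem_erase.mpr ⟨pow_ne_zero _ hu0, Finset.mem_filter.mpr ⟨Finset.mem_univ _, hS u hu0⟩⟩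
  have hfib : ∀ a ∈ N.image (fun y : F => y ^ 3), (N.filter fun y => y ^ 3 = a).card ≤ 3 := fun a _ => by
    refine le_trans (Finset.card_le_card ?_) ((Multiset.toFinset_card_le _).trans (Polynomial.card_nthRoots 3 a))
    intro y hy
    rw [Multiset.mem_toFinset, Polynomial.mem_nthRoots (by norm_num)]
    exact (Finset.mem_filter.mp hy).2
  have h1 := Finset.card_le_mul_card_image N 3 hfib
  have h2 := Finset.card_le_card himg
  rw [Finset.card_erase_of_mem (Finset.mem_filter.mpr ⟨Finset.mem_univ _, R.zero_mem⟩),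
    ← Fintype.card_subtype, ← Nat.card_eq_fintype_card, show Nat.card {y // y ∈ R} = Nat.card R from rfl] at h2
  rw [Finset.card_erase_of_mem (Finset.mem_univ _), Finset.card_univ, ← Nat.card_eq_fintype_card] at h1
  have h4 : Nat.card F + 2 ≤ 3 * Nat.card R := by
    have := R.toAddSubgroup.one_lt_card_iff_ne_bot
    omega
  nlinarith

/-- Three identifications of the scalars of `F` that are compatible are equal. -/
theorem ident_eq (a b : F → F) (c : F → F) (hb1 : b 1 = 1) (ha1 : a 1 = 1)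
    (ha : ∀ x y, a (x + y) = a x + a y) (hb : ∀ x y, b (x + y) = b x + b y) (hc : ∀ x y, c (x + y) = c x + c y)
    (h : ∀ x, a x * b x = c (x * x)) (x : F) : b x = a x := by
  have e : c ((x + 1) * (x + 1)) = c (x * x) + c (1 * 1) := by
    rw [← hc]
    congr 1
    linear_combination CharTwo.add_self_eq_zero x
  rw [← h, ← h, ← h, ha, hb, ha1, hb1] at e
  exact (CharTwo.add_eq_zero.mp (by linear_combination e : a x + b x = 0)).symm

namespace Pair

variable {L1 L2 V1 V2 J T : Subgroup G} (P : Pair L1 L2 V1 V2 J T F)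
include P

theorem exists_torus1 {a : F} (ha : a ≠ 0) :
    ∃ n : L1, (n : G) ∈ both V1 V2 ∧ P.m1.ρ n = dg a ha ∧ P.Lin n ∧ P.alpha n = a ∧ P.delta n = a⁻¹ := by
  obtain ⟨n, hn⟩ := P.m1.exists_lift (dg a ha)
  refine ⟨n, P.mem_both_of_J (P.conj_mem_J ha hn) (P.m1.norm n.2), hn, P.m1.σ_L n, ?_, ?_⟩
  · simp [alpha, P.m1.mov_L, hn, dg]
  · simp [delta, P.m1.mov_L, hn, dg]

theorem σ_pow {n : G} (hn : n ∈ both V1 V2) (k : ℕ) (x : F) :
    P.m1.σ (n ^ k) x = (P.m1.σ n)^[k] x := by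
  induction k with
  | zero => simp [P.m1.σ_unit]
  | succ k ih =>
    rw [pow_succ', P.m1.σ_comp hn.1 (P.nL1 hn.1) (pow_mem hn k).1 (P.nL1 (pow_mem hn k).1), ih,
      Function.iterate_succ_apply']

/-- An element inducing a generator of the scalars of `Z` in the second coordinates is linear. -/
theorem lin_of_generator {c : Fˣ} (hc : ∀ x : Fˣ, x ∈ Subgroup.zpowers c) {n : L2}
    (hρ : P.m2.ρ n = dg (c : F) c.ne_zero) (hn : (n : G) ∈ both V1 V2) : P.Lin n := by
  classical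
  by_contra hlin
  let τ : F ≃+* F := RingEquiv.ofBijective (P.σHom hn) (Finite.injective_iff_bijective.mp (P.σ_inj hn))
  have hτ : ∀ (k : ℕ) x, (τ ^ k : F ≃+* F) x = P.m1.σ ((n : G) ^ k) x := fun k x => by
    rw [P.σ_pow hn k x]
    induction k with
    | zero => rfl
    | succ k ih => rw [pow_succ', Function.iterate_succ_apply', RingAut.mul_apply, ih]; rfl
  let A : Subgroup (F ≃+* F) := Subgroup.zpowers τ
  haveI := Fintype.ofFinite F
  haveI : Finite (F ≃+* F) := Finite.of_injective _ DFunLike.coe_injective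
  haveI := Fintype.ofFinite A
  have hm2 : 2 ≤ Nat.card A := by
    haveI : Nontrivial A := by
      rw [Subgroup.nontrivial_iff_ne_bot, Ne, Subgroup.zpowers_eq_bot]
      intro e
      exact hlin fun x => (RingEquiv.congr_fun e x :)
    exact Finite.one_lt_card
  set K := FixedPoints.subfield A F with hK
  have hcard : Nat.card F = Nat.card K ^ Nat.card A := by
    rw [Module.natCard_eq_pow_finrank (K := K) (V := F), FixedPoints.finrank_eq_card A F,
      Nat.card_eq_fintype_card (α := A)]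
  set m := Nat.card A with hm
  have hτm : ∀ x, P.m1.σ ((n : G) ^ m) x = x := fun x => by
    have : τ ^ m = 1 := by rw [hm, Nat.card_zpowers, pow_orderOf_eq_one]
    rw [← hτ m x, this]; rfl
  have hnm : (n : G) ^ m ∈ both V1 V2 := pow_mem hn m
  have hfix : P.alpha ((n : G) ^ m) ∈ K := by
    have e := P.alpha_mul hn hnm
    rw [← pow_succ', pow_succ, P.alpha_mul hnm hn, hτm] at e
    have e' : τ (P.alpha ((n : G) ^ m)) = P.alpha ((n : G) ^ m) :=
      (mul_right_cancel₀ (P.alpha_ne_zero hn) ((mul_comm _ _).trans e)).symm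
    rintro ⟨g, hg⟩
    obtain ⟨i, rfl⟩ : ∃ i : ℕ, τ ^ i = g := by
      obtain ⟨i, hi⟩ := (mem_powers_iff_mem_zpowers).mpr hg
      exact ⟨i, hi⟩
    show (τ ^ i : F ≃+* F) _ = _
    clear hg
    induction i with
    | zero => rfl
    | succ i ih => rw [pow_succ, RingAut.mul_apply, e', ih]
  set r := Nat.card K with hr
  have hpow : P.alpha ((n : G) ^ m) ^ (r - 1) = 1 := by
    haveI := Fintype.ofFinite K
    have := FiniteField.pow_card_sub_one_eq_one (⟨_, hfix⟩ : K)
      fun e => P.alpha_ne_zero hnm (congrArg Subtype.val e)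
    rw [← Nat.card_eq_fintype_card] at this
    exact congrArg Subtype.val this
  have hlinm : P.Lin ((n : G) ^ m) := hτm
  obtain ⟨hl2, hα, -⟩ := P.lin_pow hnm hlinm (r - 1)
  rw [hpow, ← pow_mul] at hα
  rw [← pow_mul] at hl2
  set k := m * (r - 1) with hk
  have hnk : (n : G) ^ k ∈ both V1 V2 := pow_mem hn k
  have hZ : P.m2.mov ((n : G) ^ k) ![1, 0] = ![1, 0] := by
    have hv : P.m2.vec ![1, 0] ∈ V1 := P.swap.vec_mem_Z 1
    have h1 : P.m1.mov ((n : G) ^ k) (P.m1.co (P.m2.vec ![1, 0])) = P.m1.co (P.m2.vec ![1, 0]) := by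
      rw [P.mov_eq hnk, hl2, hl2, hα, (P.mem_Z_iff hv).mp (P.m2.vec_mem _)]
      ext i; fin_cases i <;> simp [(P.mem_Z_iff hv).mp (P.m2.vec_mem _)]
    have h2 := congrArg P.m1.vec h1
    rw [← P.m1.vec_mov hnk.1, P.m1.vec_co hv] at h2
    rw [Mod.mov, h2, P.m2.co_vec]
  have hdg : ∀ j : ℕ, P.m2.mov ((n : G) ^ j) ![1, 0] = ![(c : F) ^ j, 0] := by
    intro j
    induction j with
    | zero => simp [P.m2.mov_one]
    | succ j ih =>
      rw [pow_succ', P.m2.mov_mul hn.2 (pow_mem hn j).2, ih, P.m2.mov_L, hρ, mulVec_dg]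
      simp [pow_succ']
  rw [hdg] at hZ
  have hck : c ^ k = 1 := Units.ext (by simpa using congrFun hZ 0)
  have hord : orderOf c = Nat.card F - 1 := by
    rw [orderOf_eq_card_of_forall_mem_zpowers hc, Nat.card_units]
  have hdvd := orderOf_dvd_of_pow_eq_one hck
  rw [hord] at hdvd
  have hr2 : 2 ≤ r := by
    haveI : Nontrivial K := inferInstance
    exact Finite.one_lt_card
  have := mul_pred_lt_pow hr2 hm2
  rw [← hcard] at this
  have hk0 : 0 < k := Nat.mul_pos (by omega) (by omega)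
  have := Nat.le_of_dvd hk0 hdvd
  omega

/-- Linearity of the whole torus of `L2`. -/
theorem lin_torus2 {n : L2} {c : F} (hc0 : c ≠ 0) (hρ : P.m2.ρ n = dg c hc0) (hn : (n : G) ∈ both V1 V2) :
    P.Lin n := by
  haveI := Fintype.ofFinite F
  obtain ⟨g, hg⟩ := IsCyclic.exists_generator (α := Fˣ)
  obtain ⟨j, hj⟩ := (mem_powers_iff_mem_zpowers).mpr (hg (Units.mk0 c hc0))
  obtain ⟨n0, hn0, hρ0, -⟩ := P.swap.exists_torus1 (a := (g : F)) g.ne_zero
  have hn0' : (n0 : G) ∈ both V1 V2 := P.both_swap ▸ hn0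
  have hl := P.lin_of_generator hg hρ0 hn0'
  have hρj : P.m2.ρ (n0 ^ j) = dg c hc0 := by
    have : ∀ i : ℕ, P.m2.ρ (n0 ^ i) = dg ((g : F) ^ i) (pow_ne_zero _ g.ne_zero) := by
      intro i
      induction i with
      | zero => rw [pow_zero, map_one]; exact Subtype.ext (by ext a b; fin_cases a <;> fin_cases b <;> simp [dg])
      | succ i ih =>
        rw [pow_succ, map_mul, ih, show P.m2.ρ n0 = dg (g : F) g.ne_zero from hρ0, SL2Nat.dg_mul]
        congr 1
        rw [pow_succ]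
    rw [this]
    congr 1
    have := congrArg Units.val hj
    simpa using this
  have hv : ((n0 ^ j : L2) : G)⁻¹ * n ∈ V2 := P.m2.mem_of_ρ_eq (hρj.trans hρ.symm)
  have hJ : ((n0 ^ j : L2) : G)⁻¹ * n ∈ J := P.V2_le_J hv
  have h1 := P.lin_mul (pow_mem hn0' j) (P.J_le_both hJ) (P.lin_pow hn0' hl j).1 (P.lin_J hJ)
  simpa using h1

/-- The torus of `L2` in the first coordinates. -/
theorem exists_torus2 {a' : F} (ha' : a' ≠ 0) :
    ∃ n : G, n ∈ both V1 V2 ∧ n ∈ L2 ∧ P.Lin n ∧ P.alpha n = a' ∧ P.delta n = a' * a' := by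
  classical
  choose t ht using fun c : Fˣ => P.swap.exists_torus1 (a := (c : F)) c.ne_zero
  have hb : ∀ c : Fˣ, (t c : G) ∈ both V1 V2 := fun c => P.both_swap ▸ (ht c).1
  have hl : ∀ c : Fˣ, P.Lin (t c : G) := fun c => P.lin_torus2 c.ne_zero (ht c).2.1 (hb c)
  -- the line `Z`
  let μ : F → F := fun s => P.m1.co (P.m2.vec ![s, 0]) 0
  have hμmem : ∀ s, P.m2.vec ![s, 0] ∈ V1 := fun s => P.swap.vec_mem_Z s
  have hμadd : ∀ x y, μ (x + y) = μ x + μ y := fun x y => by
    show P.m1.co _ 0 = P.m1.co _ 0 + P.m1.co _ 0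
    rw [← Pi.add_apply, ← P.m1.co_mul (hμmem x) (hμmem y), ← P.m2.vec_add]
    congr 3; ext i; fin_cases i <;> simp
  have hμinj : ∀ x, μ x = 0 → x = 0 := fun x hx => by
    have h := P.m1.co_eq_zero (hμmem x) |>.mp (funext fun i => by
      fin_cases i
      · exact hx
      · exact (P.mem_Z_iff (hμmem x)).mp (P.m2.vec_mem _))
    simpa using congrFun (P.m2.vec_eq_one.mp h) 0
  have hμmul : ∀ (c : Fˣ) s, μ ((c : F) * s) = P.alpha (t c : G) * μ s := fun c s => by
    have e : (t c : G) * P.m2.vec ![s, 0] * (t c : G)⁻¹ = P.m2.vec ![(c : F) * s, 0] := by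
      rw [P.m2.conj_vec, show P.m2.ρ (t c) = dg (c : F) c.ne_zero from (ht c).2.1, mulVec_dg]
      congr 1; ext i; fin_cases i <;> simp
    show P.m1.co _ 0 = _
    rw [← e, show P.m1.co ((t c : G) * P.m2.vec ![s, 0] * (t c : G)⁻¹) =
      P.m1.mov (t c : G) (P.m1.co (P.m2.vec ![s, 0])) by rw [Mod.mov, P.m1.vec_co (hμmem s)], P.mov_eq (hb c),
      hl c, hl c, (P.mem_Z_iff (hμmem s)).mp (P.m2.vec_mem _)]
    show P.m1.co _ 0 * _ + _ = _ * P.m1.co _ 0
    ring
  -- `V2/Z`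
  have hwJ : ∀ s, P.m2.vec ![0, s] ∈ J := fun s => P.V2_le_J (P.m2.vec_mem _)
  let ν : F → F := fun s =>
    ((P.m1.ρ ⟨P.m2.vec ![0, s], P.m1.Jle (hwJ s)⟩ : SS) : Matrix (Fin 2) (Fin 2) F) 0 1
  have hνρ : ∀ s, P.m1.ρ ⟨P.m2.vec ![0, s], P.m1.Jle (hwJ s)⟩ = up (ν s) := fun s => by
    obtain ⟨x, hx⟩ := P.exists_up (hwJ s)
    rw [hx]
    congr 1
    show x = ((P.m1.ρ _ : SS) : Matrix (Fin 2) (Fin 2) F) 0 1
    rw [hx]; simp [up]
  have hνadd : ∀ x y, ν (x + y) = ν x + ν y := fun x y => up_inj (by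
    rw [← up_mul, ← hνρ, ← hνρ, ← hνρ, ← map_mul]
    congr 1
    refine Subtype.ext ?_
    show P.m2.vec _ = P.m2.vec _ * P.m2.vec _
    rw [← P.m2.vec_add]
    congr 1; ext i; fin_cases i <;> simp)
  have hνmul : ∀ (c : Fˣ) s, ν ((c : F)⁻¹ * s) = P.alpha (t c : G) / P.delta (t c : G) * ν s := fun c s => by
    have e : (t c : G) * P.m2.vec ![0, s] * (t c : G)⁻¹ = P.m2.vec ![0, (c : F)⁻¹ * s] := by
      rw [P.m2.conj_vec, show P.m2.ρ (t c) = dg (c : F) c.ne_zero from (ht c).2.1, mulVec_dg]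
      congr 1; ext i; fin_cases i <;> simp
    refine up_inj ?_
    rw [← hνρ]
    have := P.conj_up_param (hb c) (hwJ s) (hνρ s) (e ▸ P.m1.Jle (hwJ _))
    rw [hl c] at this
    rw [mul_comm (_ / _), ← mul_div_assoc, ← this]
    congr 1
    exact Subtype.ext e.symm
  have hνne : ν 1 ≠ 0 := fun h => by
    have h1 : P.m2.vec ![0, 1] ∈ V1 := (P.mem_V1_iff_up _ (hνρ 1)).mpr h
    have h2 := (P.swap.mem_Z_iff (P.m2.vec_mem _)).mp h1
    rw [show P.swap.m1 = P.m2 from rfl, P.m2.co_vec] at h2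
    simp at h2
  -- `V1/Z`
  choose a ha hρa using P.swap.exists_b
  let κ : F → F := fun s => P.m1.co (a s) 1
  have hwell : ∀ {x y : G}, x ∈ V1 → y ∈ V1 → ∀ (hx : x ∈ L2) (hy : y ∈ L2),
      P.m2.ρ ⟨x, hx⟩ = P.m2.ρ ⟨y, hy⟩ → P.m1.co x 1 = P.m1.co y 1 := by
    intro x y hx hy hx2 hy2 e
    have hm : x⁻¹ * y ∈ V2 := P.m2.mem_of_ρ_eq e
    have := (P.mem_Z_iff (mul_mem (inv_mem hx) hy)).mp hm
    rw [P.m1.co_mul (inv_mem hx) hy, P.m1.co_inv hx, Pi.add_apply] at this
    exact CharTwo.add_eq_zero.mp this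
  have hκadd : ∀ x y, κ (x + y) = κ x + κ y := fun x y => by
    show P.m1.co _ 1 = P.m1.co _ 1 + P.m1.co _ 1
    rw [← Pi.add_apply, ← P.m1.co_mul (ha x) (ha y)]
    refine hwell (ha _) (mul_mem (ha x) (ha y)) (P.swap.V2_le_L1 (ha _))
      (mul_mem (P.swap.V2_le_L1 (ha x)) (P.swap.V2_le_L1 (ha y))) ?_
    rw [show (⟨a x * a y, mul_mem (P.swap.V2_le_L1 (ha x)) (P.swap.V2_le_L1 (ha y))⟩ : L2) =
      ⟨a x, P.swap.V2_le_L1 (ha x)⟩ * ⟨a y, P.swap.V2_le_L1 (ha y)⟩ from rfl, map_mul,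
      show P.m2.ρ ⟨a x, P.swap.V2_le_L1 (ha x)⟩ = up x from hρa x,
      show P.m2.ρ ⟨a y, P.swap.V2_le_L1 (ha y)⟩ = up y from hρa y, up_mul]
    exact hρa _
  have hκmul : ∀ (c : Fˣ) s, κ ((c : F) * c * s) = P.delta (t c : G) * κ s := fun c s => by
    have h1 : (t c : G) * a s * (t c : G)⁻¹ ∈ V1 := (Subgroup.mem_normalizer_iff.mp (hb c).1 _).mp (ha s)
    have e1 : P.m1.co ((t c : G) * a s * (t c : G)⁻¹) = P.m1.mov (t c : G) (P.m1.co (a s)) := by
      rw [Mod.mov, P.m1.vec_co (ha s)]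
    have e2 : κ ((c : F) * c * s) = P.m1.co ((t c : G) * a s * (t c : G)⁻¹) 1 := by
      refine hwell (ha _) h1 (P.swap.V2_le_L1 (ha _))
        (mul_mem (mul_mem (t c).2 (P.swap.V2_le_L1 (ha s))) (inv_mem (t c).2)) ?_
      rw [show (⟨(t c : G) * a s * (t c : G)⁻¹, mul_mem (mul_mem (t c).2 (P.swap.V2_le_L1 (ha s)))
          (inv_mem (t c).2)⟩ : L2) = t c * ⟨a s, P.swap.V2_le_L1 (ha s)⟩ * (t c)⁻¹ from rfl,
        map_mul, map_mul, map_inv, show P.m2.ρ (t c) = dg (c : F) c.ne_zero from (ht c).2.1,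
        show P.m2.ρ ⟨a s, P.swap.V2_le_L1 (ha s)⟩ = up s from hρa s, dg_up, mul_inv_cancel_right]
      exact hρa _
    rw [e2, e1, P.mov_eq (hb c), hl c, hl c]
    show P.m1.co _ 1 * _ = _ * P.m1.co _ 1
    ring
  have hκne : κ 1 ≠ 0 := fun h => by
    have h2 : a 1 ∈ V2 := (P.mem_Z_iff (ha 1)).mpr h
    exact one_ne_zero ((P.swap.mem_V1_iff_up _ (hρa 1)).mp h2)
  have hμne : μ 1 ≠ 0 := fun h => one_ne_zero (hμinj 1 h)
  have hzero : ∀ f : F → F, (∀ x y, f (x + y) = f x + f y) → f 0 = 0 := fun f hf => by simpa using hf 0 0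
  have key : ∀ x, ν x / ν 1 = μ x / μ 1 := by
    refine ident_eq (fun x => μ x / μ 1) (fun x => ν x / ν 1) (fun x => κ x / κ 1) (div_self hνne) (div_self hμne)
      (fun x y => by simp only [hμadd, add_div]) (fun x y => by simp only [hνadd, add_div])
      (fun x y => by simp only [hκadd, add_div]) (fun x => ?_)
    by_cases hx : x = 0
    · simp [hx, hzero μ hμadd, hzero κ hκadd]
    · set c := Units.mk0 x hx
      have e1 := hμmul c 1
      have e2 := hνmul c x
      have e3 := hκmul c 1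
      simp only [c, Units.val_mk0, inv_mul_cancel₀ hx, mul_one] at e1 e2 e3
      set A := P.alpha (t c : G)
      set D := P.delta (t c : G) with hD
      have hD0 : D ≠ 0 := P.delta_ne_zero (hb c)
      have hA0 : A ≠ 0 := P.alpha_ne_zero (hb c)
      have f1 : μ x / μ 1 = A := by rw [e1, mul_div_assoc, div_self hμne, mul_one]
      have f2 : ν x / ν 1 = D / A := by
        rw [eq_div_iff hA0, e2]
        have : ν x ≠ 0 := fun h => hνne (by rw [e2, h, mul_zero])
        field_simp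
      have f3 : κ (x * x) / κ 1 = D := by rw [e3, mul_div_assoc, div_self hκne, mul_one]
      rw [f1, f2, f3]
      field_simp
  have hμinj' : Function.Injective μ := fun x y h => by
    refine CharTwo.add_eq_zero.mp (hμinj _ ?_)
    rw [hμadd, h, CharTwo.add_self_eq_zero]
  obtain ⟨s, hs⟩ := (Finite.injective_iff_surjective.mp hμinj') (a' * μ 1)
  have hs0 : s ≠ 0 := fun h => by
    rw [h, hzero μ hμadd] at hs
    exact mul_ne_zero ha' hμne hs.symm
  set c := Units.mk0 s hs0 with hc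
  have e1 : μ s = P.alpha (t c : G) * μ 1 := by simpa [hc] using hμmul c 1
  have hα : P.alpha (t c : G) = a' := mul_right_cancel₀ hμne (e1.symm.trans hs)
  refine ⟨t c, hb c, (t c).2, hl c, hα, ?_⟩
  have e2 : ν s⁻¹ = P.alpha (t c : G) / P.delta (t c : G) * ν 1 := by simpa [hc] using hνmul c 1
  have e3 : μ 1 = P.alpha (t c : G) * μ s⁻¹ := by simpa [hc, hs0] using hμmul c s⁻¹
  have e4 := key s⁻¹
  rw [e2, e3, hα] at e4
  have hμs : μ s⁻¹ ≠ 0 := fun h => inv_ne_zero hs0 (hμinj _ h)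
  have hd0 : P.delta (t c : G) ≠ 0 := P.delta_ne_zero (hb c)
  rw [mul_div_assoc, div_self hνne, mul_one, mul_comm a', div_mul_eq_div_div, div_self hμs, one_div,
    div_eq_iff hd0, eq_comm, inv_mul_eq_iff_eq_mul₀ ha'] at e4
  exact e4

end Pair

end Cfsg.Agent.Invol.NatPair
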