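import Mathlib

/-!
# Two rank one parabolics on natural modules: no outer involution is conjugate to a root involution

If an outer involution `u` of `M` were a conjugate of `z`, the root involutions centralising `u` would act
as outer involutions on the conjugate of `M` at `u`; there are too many of them.
-/

set_option autoImplicit false
set_option linter.unusedSectionVars false

namespace Cfsg.Agent.Invol.NatPair

universe u

variable {G : Type u} [Group G]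

/-- The data: `G0` is normal in `M`, `M0` has index at most two in `M`. -/
structure OuterData (M M0 G0 : Subgroup G) (z : G) : Prop where
  zG0 : z ∈ G0
  zne : z ≠ 1
  le0 : G0 ≤ M0
  leM : M0 ≤ M
  norm : ∀ m ∈ M, ∀ x ∈ G0, m * x * m⁻¹ ∈ G0
  norm0 : ∀ m ∈ M, ∀ x ∈ M0, m * x * m⁻¹ ∈ M0
  cls : ∀ x ∈ G0, x * x = 1 → x ≠ 1 → ∃ m ∈ M, m * z * m⁻¹ = x
  cent : ∀ x : G, Commute x z → x ∈ M
  idx : ∀ a ∈ M, ∀ b ∈ M, a ∉ M0 → b ∉ M0 → a * b ∈ M0
  cyc : ∀ a ∈ M0, ∀ b ∈ M0, a * a = 1 → b * b = 1 → Commute a b → a ∉ G0 → b ∉ G0 → a * b ∈ G0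
  big : ∀ v ∈ M0, v ∉ G0 → v * v = 1 → ∃ W : Subgroup G, W ≤ G0 ∧ 8 ≤ Nat.card W ∧
    ∀ w ∈ W, w * w = 1 ∧ Commute v w
  big' : ∀ v ∈ M, v ∉ M0 → v * v = 1 → ∃ W : Subgroup G, W ≤ G0 ∧ 4 ≤ Nat.card W ∧
    ∀ w ∈ W, w * w = 1 ∧ Commute v w

theorem eq_one_of_conj_eq_one {g x : G} (h : g * x * g⁻¹ = 1) : x = 1 := conj_eq_one_iff.mp h

/-- A subgroup where the product of two elements outside `A` lies in `A` has at most two cosets of `A`. -/
theorem card_le_two_mul [Finite G] (W A : Subgroup G) (h : ∀ a ∈ W, ∀ b ∈ W, a ∉ A → b ∉ A → a⁻¹ * b ∈ A) :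
    Nat.card W ≤ 2 * Nat.card (W ⊓ A : Subgroup G) := by
  classical
  by_cases hall : ∀ a ∈ W, a ∈ A
  · have : W ⊓ A = W := inf_eq_left.2 hall
    rw [this]; omega
  push Not at hall
  obtain ⟨a, ha, haA⟩ := hall
  let f : Bool × ↥(W ⊓ A : Subgroup G) → W := fun p =>
    ⟨(if p.1 then a else 1) * p.2, mul_mem (by split <;> [exact ha; exact one_mem _]) p.2.2.1⟩
  have hf : Function.Surjective f := fun ⟨w, hw⟩ => by
    by_cases hwA : w ∈ A
    · exact ⟨(false, ⟨w, hw, hwA⟩), Subtype.ext (one_mul w)⟩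
    · have h' : a⁻¹ * w ∈ W ⊓ A := ⟨W.mul_mem (W.inv_mem ha) hw, h a ha w hw haA hwA⟩
      exact ⟨(true, ⟨a⁻¹ * w, h'⟩), Subtype.ext (mul_inv_cancel_left a w)⟩
  have := Nat.card_le_card_of_surjective f hf
  rwa [Nat.card_prod, Nat.card_eq_fintype_card (α := Bool), Fintype.card_bool] at this

namespace OuterData

variable {M M0 G0 : Subgroup G} {z : G} (D : OuterData M M0 G0 z)
include D

/-- The facts at a conjugate of `z` outside `G0`. -/
theorem back {g u : G} (hu : g * z * g⁻¹ = u) (_huM : u ∈ M) (hug : u ∉ G0) {w : G} (hw : w ∈ G0)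
    (hw2 : w * w = 1) (hw1 : w ≠ 1) (hc : Commute u w) :
    g⁻¹ * w * g ∈ M ∧ g⁻¹ * w * g ∉ G0 := by
  have hgM : g⁻¹ * w * g ∈ M := by
    refine D.cent _ ?_
    have h := hc.symm
    show g⁻¹ * w * g * z = z * (g⁻¹ * w * g)
    calc g⁻¹ * w * g * z = g⁻¹ * (w * (g * z * g⁻¹)) * g := by group
      _ = g⁻¹ * ((g * z * g⁻¹) * w) * g := by rw [hu, h.eq]
      _ = z * (g⁻¹ * w * g) := by group
  refine ⟨hgM, fun hin => ?_⟩
  obtain ⟨m, hm, hmw⟩ := D.cls w hw hw2 hw1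
  obtain ⟨m', hm', hmw'⟩ := D.cls _ hin
    (by rw [show g⁻¹ * w * g * (g⁻¹ * w * g) = g⁻¹ * (w * w) * g by group, hw2]; group)
    (fun e => hw1 (eq_one_of_conj_eq_one (g := g⁻¹) (by rwa [inv_inv])))
  have hc' : Commute (m⁻¹ * g * m') z := by
    show m⁻¹ * g * m' * z = z * (m⁻¹ * g * m')
    calc m⁻¹ * g * m' * z = m⁻¹ * g * (m' * z * m'⁻¹) * m' := by group
      _ = m⁻¹ * w * g * m' := by rw [hmw']; group
      _ = z * (m⁻¹ * g * m') := by rw [← hmw]; group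
  have hgm : g ∈ M := by
    have := mul_mem (mul_mem hm (D.cent _ hc')) (inv_mem hm')
    simpa [mul_assoc] using this
  exact hug (hu ▸ D.norm g hgm z D.zG0)

variable [Finite G]

theorem not_fixer {g u : G} (hu : g * z * g⁻¹ = u) (hz : z * z = 1) (huM : u ∈ M0) (hug : u ∉ G0) : False := by
  have hu2 : u * u = 1 := by rw [← hu, show g * z * g⁻¹ * (g * z * g⁻¹) = g * (z * z) * g⁻¹ by group, hz]; group
  obtain ⟨W, hWG, hW8, hW⟩ := D.big u huM hug hu2
  set A := M0.map (MulAut.conj g).toMonoidHom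
  have hA : ∀ x : G, x ∈ A ↔ g⁻¹ * x * g ∈ M0 := fun x => by
    rw [Subgroup.mem_map]
    exact ⟨fun ⟨y, hy, e⟩ => by rw [← e]; simpa [mul_assoc] using hy, fun h => ⟨_, h, by simp [mul_assoc]⟩⟩
  have key : ∀ w ∈ W, w ≠ 1 → g⁻¹ * w * g ∈ M ∧ g⁻¹ * w * g ∉ G0 := fun w hw hw1 =>
    D.back hu (D.leM huM) hug (hWG hw) (hW w hw).1 hw1 (hW w hw).2
  have h1 := card_le_two_mul W A fun a ha b hb haA hbA => by
    rw [hA] at haA hbA ⊢
    have hne : ∀ w, g⁻¹ * w * g ∉ M0 → w ≠ 1 := fun w h e => h (by rw [e]; simp)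
    have h := D.idx _ (key a ha (hne a haA)).1 _ (key b hb (hne b hbA)).1 haA hbA
    rwa [inv_eq_of_mul_eq_one_right (hW a ha).1, show g⁻¹ * (a * b) * g = g⁻¹ * a * g * (g⁻¹ * b * g) by group]
  obtain h2 : Nat.card (W ⊓ A : Subgroup G) ≤ 2 := by
    have h := card_le_two_mul (W ⊓ A) ⊥ fun a ha b hb ha1 hb1 => by
      rw [Subgroup.mem_bot] at ha1 hb1 ⊢
      by_contra hab
      have sq : ∀ w ∈ W, g⁻¹ * w * g * (g⁻¹ * w * g) = 1 := fun w hw => by
        rw [show g⁻¹ * w * g * (g⁻¹ * w * g) = g⁻¹ * (w * w) * g by group, (hW w hw).1]; group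
      have hai : a⁻¹ = a := inv_eq_of_mul_eq_one_right (hW a ha.1).1
      have hcomm : Commute a b := by
        have hab2 := (hW (a * b) (mul_mem ha.1 hb.1)).1
        show a * b = b * a
        calc a * b = (a * b)⁻¹ := eq_inv_of_mul_eq_one_left hab2
          _ = b * a := by rw [mul_inv_rev, hai, inv_eq_of_mul_eq_one_right (hW b hb.1).1]
      have h := D.cyc _ ((hA a).1 ha.2) _ ((hA b).1 hb.2) (sq a ha.1) (sq b hb.1)
        (by simpa using hcomm.map (MulAut.conj g⁻¹).toMonoidHom) (key a ha.1 ha1).2 (key b hb.1 hb1).2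
      rw [hai] at hab
      exact (key (a * b) (mul_mem ha.1 hb.1) hab).2
        (by rwa [show g⁻¹ * (a * b) * g = g⁻¹ * a * g * (g⁻¹ * b * g) by group])
    rwa [inf_bot_eq, Subgroup.card_bot] at h
  omega

theorem not_swapper {g u : G} (hu : g * z * g⁻¹ = u) (hz : z * z = 1) (huM : u ∈ M) (hu0 : u ∉ M0) : False := by
  have hu2 : u * u = 1 := by rw [← hu, show g * z * g⁻¹ * (g * z * g⁻¹) = g * (z * z) * g⁻¹ by group, hz]; group
  have hug : u ∉ G0 := fun h => hu0 (D.le0 h)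
  obtain ⟨W, hWG, hW4, hW⟩ := D.big' u huM hu0 hu2
  set A := M0.map (MulAut.conj g).toMonoidHom
  have hA : ∀ x : G, x ∈ A ↔ g⁻¹ * x * g ∈ M0 := fun x => by
    rw [Subgroup.mem_map]
    exact ⟨fun ⟨y, hy, e⟩ => by rw [← e]; simpa [mul_assoc] using hy, fun h => ⟨_, h, by simp [mul_assoc]⟩⟩
  have key : ∀ w ∈ W, w ≠ 1 → g⁻¹ * w * g ∈ M ∧ g⁻¹ * w * g ∉ G0 := fun w hw hw1 =>
    D.back hu huM hug (hWG hw) (hW w hw).1 hw1 (hW w hw).2
  have h1 := card_le_two_mul W A fun a ha b hb haA hbA => by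
    rw [hA] at haA hbA ⊢
    have hne : ∀ w, g⁻¹ * w * g ∉ M0 → w ≠ 1 := fun w h e => h (by rw [e]; simp)
    have h := D.idx _ (key a ha (hne a haA)).1 _ (key b hb (hne b hbA)).1 haA hbA
    rwa [inv_eq_of_mul_eq_one_right (hW a ha).1, show g⁻¹ * (a * b) * g = g⁻¹ * a * g * (g⁻¹ * b * g) by group]
  obtain ⟨w, hw, hw1⟩ : ∃ w ∈ W ⊓ A, w ≠ 1 := by
    by_contra hcon
    push Not at hcon
    rw [(Subgroup.eq_bot_iff_forall _).2 hcon, Subgroup.card_bot] at h1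
    omega
  obtain ⟨m, -, hmw⟩ := D.cls w (hWG hw.1) (hW w hw.1).1 hw1
  exact D.not_fixer (g := g⁻¹ * m) (u := g⁻¹ * w * g) (by rw [← hmw]; group) hz ((hA w).1 hw.2) (key w hw.1 hw1).2

/-- The conjugates of `z` in `M` lie in `G0`, so `z` fixes a single coset of `M`. -/
theorem isolated (hz : z * z = 1) {g : G} (hg : g * z * g⁻¹ ∈ M) : g ∈ M ∧ g * z * g⁻¹ ∈ G0 := by
  have hin : g * z * g⁻¹ ∈ G0 := by
    by_contra hout
    by_cases h : g * z * g⁻¹ ∈ M0
    · exact D.not_fixer rfl hz h hout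
    · exact D.not_swapper rfl hz hg h
  refine ⟨?_, hin⟩
  obtain ⟨m, hm, hme⟩ := D.cls _ hin
    (by rw [show g * z * g⁻¹ * (g * z * g⁻¹) = g * (z * z) * g⁻¹ by group, hz]; group)
    (fun e => D.zne (eq_one_of_conj_eq_one e))
  have hc : Commute (m⁻¹ * g) z := by
    show m⁻¹ * g * z = z * (m⁻¹ * g)
    calc m⁻¹ * g * z = m⁻¹ * (g * z * g⁻¹) * g := by group
      _ = z * (m⁻¹ * g) := by rw [← hme]; group
  simpa using mul_mem hm (D.cent _ hc)

/-- Products of two commuting conjugates of `z` are centralised inside `M`. -/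
theorem cent_prod (hz : z * z = 1) {g : G} (hc : Commute z (g * z * g⁻¹)) (hne : g * z * g⁻¹ ≠ z) {x : G}
    (hx : Commute x (z * (g * z * g⁻¹))) : x ∈ M := by
  obtain ⟨-, hin⟩ := D.isolated hz (D.cent _ hc.symm)
  set z' := g * z * g⁻¹ with hz'
  have hz'2 : z' * z' = 1 := by rw [hz', show g * z * g⁻¹ * (g * z * g⁻¹) = g * (z * z) * g⁻¹ by group, hz]; group
  obtain ⟨m, hm, hme⟩ := D.cls (z * z') (mul_mem D.zG0 hin) (by
    calc z * z' * (z * z') = z * (z' * z) * z' := by group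
      _ = (z * z) * (z' * z') := by rw [← hc.eq]; group
      _ = 1 := by rw [hz, hz'2, one_mul])
    (fun e => hne (mul_left_cancel (e.trans hz.symm)))
  have hc' : Commute (m⁻¹ * x * m) z := by
    show m⁻¹ * x * m * z = z * (m⁻¹ * x * m)
    calc m⁻¹ * x * m * z = m⁻¹ * (x * (m * z * m⁻¹)) * m := by group
      _ = m⁻¹ * ((m * z * m⁻¹) * x) * m := by rw [hme, hx.eq]
      _ = z * (m⁻¹ * x * m) := by group
  have := mul_mem (mul_mem hm (D.cent _ hc')) (inv_mem hm)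
  simpa [mul_assoc] using this

end OuterData

end Cfsg.Agent.Invol.NatPair
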