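import Cfsg.Agent.Lib.Invol.NatPair.Simple
import Cfsg.Agent.Lib.Invol.NatPair.Outer

/-!
# The normalizer of `L₁ ⊔ L₂`
-/

set_option autoImplicit false
set_option linter.unusedSectionVars false
set_option linter.style.haveILetI false

namespace Cfsg.Agent.Invol.NatPair

universe u v

variable {G : Type u} [Group G] [Finite G] {F : Type v} [Field F] [Finite F] [CharP F 2]

omit [Field F] [Finite F] [CharP F 2] in
/-- An involution normalizing an elementary abelian subgroup centralizes at least a square root of it. -/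
theorem card_le_centralized_sq {V : Subgroup G} (hc : ∀ a ∈ V, ∀ b ∈ V, a * b = b * a)
    (h2 : ∀ a ∈ V, a * a = 1) {n : G} (hn : ∀ a ∈ V, n * a * n⁻¹ ∈ V) (hn2 : n * n = 1) :
    Nat.card V ≤ Nat.card (V ⊓ Subgroup.centralizer {n} : Subgroup G) *
      Nat.card (V ⊓ Subgroup.centralizer {n} : Subgroup G) := by
  let Φ : V →* V :=
    { toFun := fun w => ⟨w.1 * (n * w.1 * n⁻¹), mul_mem w.2 (hn _ w.2)⟩
      map_one' := Subtype.ext (by simp)
      map_mul' := fun a b => Subtype.ext (by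
        show a.1 * b.1 * (n * (a.1 * b.1) * n⁻¹) = a.1 * (n * a.1 * n⁻¹) * (b.1 * (n * b.1 * n⁻¹))
        have e := hc _ b.2 _ (hn _ a.2)
        calc a.1 * b.1 * (n * (a.1 * b.1) * n⁻¹) = a.1 * (b.1 * (n * a.1 * n⁻¹)) * (n * b.1 * n⁻¹) := by group
          _ = _ := by rw [e]; group) }
  have key : ∀ w : G, n * w * n⁻¹ = w → w ∈ Subgroup.centralizer ({n} : Set G) := fun w hw =>
    Subgroup.mem_centralizer_singleton_iff.mpr (mul_inv_eq_iff_eq_mul.mp hw).symm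
  have hk : Φ.ker.map V.subtype ≤ V ⊓ Subgroup.centralizer {n} := by
    rintro _ ⟨w, hw, rfl⟩
    have e : w.1 * (n * w.1 * n⁻¹) = 1 := congrArg Subtype.val hw
    refine ⟨w.2, key _ ?_⟩
    show n * w.1 * n⁻¹ = w.1
    rw [eq_inv_of_mul_eq_one_right e, inv_eq_of_mul_eq_one_left (h2 _ w.2)]
  have hr : Φ.range.map V.subtype ≤ V ⊓ Subgroup.centralizer {n} := by
    rintro _ ⟨_, ⟨w, rfl⟩, rfl⟩
    refine ⟨(Φ w).2, key _ ?_⟩
    show n * (w.1 * (n * w.1 * n⁻¹)) * n⁻¹ = w.1 * (n * w.1 * n⁻¹)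
    calc n * (w.1 * (n * w.1 * n⁻¹)) * n⁻¹ = (n * w.1 * n⁻¹) * ((n * n) * w.1 * (n * n)⁻¹) := by group
      _ = (n * w.1 * n⁻¹) * w.1 := by rw [hn2, one_mul, inv_one, mul_one]
      _ = _ := hc _ (hn _ w.2) _ w.2
  rw [← Φ.ker.card_mul_index, Subgroup.index_ker]
  have hs : Function.Injective V.subtype := V.subtype_injective
  exact Nat.mul_le_mul
    ((Subgroup.card_map_of_injective hs).ge.trans (Subgroup.card_le_of_le hk))
    ((Subgroup.card_map_of_injective hs).ge.trans (Subgroup.card_le_of_le hr))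

/-- Two nontrivial elements of a natural module are conjugate. -/
theorem Mod.exists_conj {L V J : Subgroup G} (C : Mod L V J F) {x y : G} (hx : x ∈ V) (hx1 : x ≠ 1) (hy : y ∈ V)
    (hy1 : y ≠ 1) : ∃ l ∈ L, l * x * l⁻¹ = y := by
  have h0 : ∀ w ∈ V, w ≠ 1 → ∃ l ∈ L, l * C.vec ![1, 0] * l⁻¹ = w := fun w hw hw1 => by
    obtain ⟨A, hA⟩ := exists_mulVec_eq (F := F) (x := C.co w) fun h => hw1 ((C.co_eq_zero hw).mp h)
    obtain ⟨l, rfl⟩ := C.exists_lift A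
    exact ⟨l, l.2, by rw [C.conj_vec, hA, C.vec_co hw]⟩
  obtain ⟨a, ha, rfl⟩ := h0 x hx hx1
  obtain ⟨b, hb, rfl⟩ := h0 y hy hy1
  exact ⟨b * a⁻¹, mul_mem hb (inv_mem ha), by group⟩

namespace Pair

variable {L1 L2 V1 V2 J T : Subgroup G} (P : Pair L1 L2 V1 V2 J T F)
include P

theorem both_le_NG0 : both V1 V2 ≤ Subgroup.normalizer ((L1 ⊔ L2 : Subgroup G) : Set G) := fun n hn => by
  refine mem_normalizer_of_conj fun x hx => ?_
  have h : L1 ⊔ L2 ≤ (L1 ⊔ L2).comap (MulAut.conj n).toMonoidHom :=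
    sup_le (fun y hy => Subgroup.mem_sup_left ((Subgroup.mem_normalizer_iff.mp (P.nL1 hn.1) y).mp hy))
      fun y hy => Subgroup.mem_sup_right ((Subgroup.mem_normalizer_iff.mp (P.nL2 hn.2) y).mp hy)
  exact h hx

theorem NJ_le_NG0 : Subgroup.normalizer (J : Set G) ≤ Subgroup.normalizer ((L1 ⊔ L2 : Subgroup G) : Set G) := by
  intro n hn
  by_cases hb : n ∈ both V1 V2
  · exact P.both_le_NG0 hb
  refine mem_normalizer_of_conj fun x hx => ?_
  have h : L1 ⊔ L2 ≤ (L1 ⊔ L2).comap (MulAut.conj n).toMonoidHom :=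
    sup_le (fun y hy => Subgroup.mem_sup_right (P.conj_L1 hn hb hy))
      fun y hy => Subgroup.mem_sup_left (P.swap.conj_L1 hn (by rwa [P.both_swap]) hy)
  exact h hx

theorem J_le_G0 : J ≤ L1 ⊔ L2 := P.m1.Jle.trans le_sup_left

/-- A 2-element of `L₁ ⊔ L₂` normalizing `J` lies in `J`. -/
theorem mem_J_of_two (h8 : 8 ≤ Nat.card F) {x : G} (hx : x ∈ L1 ⊔ L2) (hxJ : x ∈ Subgroup.normalizer (J : Set G))
    {k : ℕ} (hk : x ^ 2 ^ k = 1) : x ∈ J := by
  obtain ⟨j, -, hj⟩ := (Nat.dvd_prime_pow Nat.prime_two).mp (orderOf_dvd_of_pow_eq_one hk)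
  have hp : IsPGroup 2 (J ⊔ Subgroup.zpowers x : Subgroup G) :=
    P.J_pGroup.to_sup_of_normal_left' (IsPGroup.of_card (n := j) (by rw [Nat.card_zpowers, hj]))
      (by rwa [Subgroup.zpowers_le])
  exact P.sylow_eq h8 hp le_sup_left (sup_le P.J_le_G0 (by rwa [Subgroup.zpowers_le])) ▸
    le_sup_right (a := J) (Subgroup.mem_zpowers x)

theorem G0_inter_NJ (h8 : 8 ≤ Nat.card F) {x : G} (hx : x ∈ L1 ⊔ L2) (hxJ : x ∈ Subgroup.normalizer (J : Set G)) :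
    x ∈ both V1 V2 := by
  by_contra hb
  obtain ⟨j, m, hm, hord⟩ := Nat.exists_eq_two_pow_mul_odd (orderOf_pos x).ne'
  have h2 := P.mem_J_of_two h8 (pow_mem hx m) (pow_mem hxJ m) (k := j)
    (by rw [← pow_mul, mul_comm, ← hord, pow_orderOf_eq_one])
  obtain ⟨i, rfl⟩ := hm
  have h3 : x * x ∈ both V1 V2 := P.mul_mem_both hxJ hxJ hb hb
  have h4 := P.J_le_both h2
  rw [pow_succ, pow_mul, pow_two] at h4
  have := mul_mem (inv_mem (pow_mem h3 i)) h4
  rw [inv_mul_cancel_left] at this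
  exact hb this

/-- The Frattini argument. -/
theorem frattini (h8 : 8 ≤ Nat.card F) {m : G} (hm : m ∈ Subgroup.normalizer ((L1 ⊔ L2 : Subgroup G) : Set G)) :
    ∃ g ∈ L1 ⊔ L2, g⁻¹ * m ∈ Subgroup.normalizer (J : Set G) := by
  classical
  haveI : Fact (Nat.Prime 2) := ⟨Nat.prime_two⟩
  set G0 := L1 ⊔ L2
  set J' := J.map (MulAut.conj m).toMonoidHom
  have hJ'G : J' ≤ G0 := by
    rintro _ ⟨y, hy, rfl⟩
    exact (Subgroup.mem_normalizer_iff.mp hm y).mp (P.J_le_G0 hy)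
  obtain ⟨S, hS⟩ := (P.J_pGroup.of_equiv (Subgroup.subgroupOfEquivOfLe P.J_le_G0).symm).exists_le_sylow
  obtain ⟨S', hS'⟩ := ((P.J_pGroup.map (MulAut.conj m).toMonoidHom).of_equiv
    (Subgroup.subgroupOfEquivOfLe hJ'G).symm).exists_le_sylow
  obtain ⟨g, hg⟩ := MulAction.exists_smul_eq G0 S S'
  have hSJ : (S : Subgroup G0).map G0.subtype = J :=
    P.sylow_eq h8 (S.isPGroup'.map _) (fun y hy => ⟨⟨y, P.J_le_G0 hy⟩, hS hy, rfl⟩) (Subgroup.map_subtype_le _)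
  refine ⟨g, g.2, mem_normalizer_of_conj fun y hy => ?_⟩
  have hy' : (⟨m * y * m⁻¹, hJ'G ⟨y, hy, rfl⟩⟩ : G0) ∈ (S' : Subgroup G0) := hS' ⟨y, hy, rfl⟩
  rw [← hg] at hy'
  obtain ⟨w, hw, e⟩ := hy'
  have e' : (g : G) * (w : G) * (g : G)⁻¹ = m * y * m⁻¹ := congrArg Subtype.val e
  have hwJ : (w : G) ∈ J := hSJ ▸ ⟨w, hw, rfl⟩
  convert hwJ using 1
  calc (g : G)⁻¹ * m * y * ((g : G)⁻¹ * m)⁻¹ = (g : G)⁻¹ * (m * y * m⁻¹) * g := by group
    _ = w := by rw [← e']; group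

/-- A 2-subgroup of the normalizer is conjugate under `L₁ ⊔ L₂` into `N(J)`. -/
theorem exists_conj_NJ (h8 : 8 ≤ Nat.card F) {A : Subgroup G} (hA : IsPGroup 2 A)
    (hle : A ≤ Subgroup.normalizer ((L1 ⊔ L2 : Subgroup G) : Set G)) :
    ∃ g ∈ L1 ⊔ L2, ∀ a ∈ A, g⁻¹ * a * g ∈ Subgroup.normalizer (J : Set G) := by
  classical
  haveI : Fact (Nat.Prime 2) := ⟨Nat.prime_two⟩
  set M := Subgroup.normalizer ((L1 ⊔ L2 : Subgroup G) : Set G)
  have hJM : J ≤ M := (P.J_le_both.trans P.both_le_normalizer_J).trans P.NJ_le_NG0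
  obtain ⟨S, hS⟩ := (hA.of_equiv (Subgroup.subgroupOfEquivOfLe hle).symm).exists_le_sylow
  obtain ⟨S0, hS0⟩ := (P.J_pGroup.of_equiv (Subgroup.subgroupOfEquivOfLe hJM).symm).exists_le_sylow
  obtain ⟨m, hm⟩ := MulAction.exists_smul_eq M S0 S
  obtain ⟨g, hg, hn⟩ := P.frattini h8 m.2
  refine ⟨g, hg, fun a ha => ?_⟩
  have ha' : (⟨a, hle ha⟩ : M) ∈ (S : Subgroup M) := hS ha
  rw [← hm] at ha'
  obtain ⟨w, hw, e⟩ := ha'
  have e' : (m : G) * (w : G) * (m : G)⁻¹ = a := congrArg Subtype.val e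
  have hwJ : (w : G) ∈ Subgroup.normalizer (J : Set G) :=
    P.le_normalizer_J (S0.isPGroup'.map M.subtype) (fun y hy => ⟨⟨y, hJM hy⟩, hS0 hy, rfl⟩) ⟨w, hw, rfl⟩
  rw [show g⁻¹ * a * g = g⁻¹ * (m : G) * (w : G) * (g⁻¹ * (m : G))⁻¹ by rw [← e']; group]
  exact mul_mem (mul_mem hn hwJ) (inv_mem hn)

theorem mem_M0 {x : G} (hx : x ∈ (L1 ⊔ L2) ⊔ both V1 V2) : ∃ g ∈ L1 ⊔ L2, ∃ b ∈ both V1 V2, g * b = x := by
  rw [← SetLike.mem_coe, Subgroup.coe_mul_of_right_le_normalizer_left _ _ P.both_le_NG0] at hx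
  exact hx

theorem M0_inter_NJ (h8 : 8 ≤ Nat.card F) {x : G} (hx : x ∈ (L1 ⊔ L2) ⊔ both V1 V2)
    (hxJ : x ∈ Subgroup.normalizer (J : Set G)) : x ∈ both V1 V2 := by
  obtain ⟨g, hg, b, hb, rfl⟩ := P.mem_M0 hx
  have : g ∈ Subgroup.normalizer (J : Set G) := by
    have := mul_mem hxJ (inv_mem (P.both_le_normalizer_J hb))
    rwa [mul_inv_cancel_right] at this
  exact mul_mem (P.G0_inter_NJ h8 hg this) hb

/-- The involutions of `L₁ ⊔ L₂` form one class. -/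
theorem cls (h8 : 8 ≤ Nat.card F) {z x : G} (hz : z ∈ V1 ⊓ V2) (hz1 : z ≠ 1) (hx : x ∈ L1 ⊔ L2) (hx2 : x * x = 1)
    (hx1 : x ≠ 1) : ∃ m ∈ L1 ⊔ L2, m * z * m⁻¹ = x := by
  obtain ⟨g, hg, hgA⟩ := P.exists_conj_NJ h8 (A := Subgroup.zpowers x)
    (IsPGroup.of_card (n := 1) (by rw [Nat.card_zpowers, pow_one, orderOf_eq_prime (by rw [pow_two, hx2]) hx1]))
    (by rw [Subgroup.zpowers_le]; exact Subgroup.le_normalizer hx)
  set y := g⁻¹ * x * g with hy
  have hy2 : y * y = 1 := by rw [hy, show g⁻¹ * x * g * (g⁻¹ * x * g) = g⁻¹ * (x * x) * g by group, hx2]; group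
  have hyJ := P.mem_J_of_two h8 (mul_mem (mul_mem (inv_mem hg) hx) hg) (hgA x (Subgroup.mem_zpowers x)) (k := 1)
    (by rw [pow_one, pow_two, hy2])
  have hy1 : y ≠ 1 := fun e => hx1 (by rw [show x = g * y * g⁻¹ by rw [hy]; group, e, mul_one, mul_inv_cancel])
  obtain ⟨l, hl, hle⟩ : ∃ l ∈ L1 ⊔ L2, l * z * l⁻¹ = y := by
    rcases P.mem_or_mem hyJ hy2 with h | h
    · obtain ⟨l, hl, e⟩ := P.m1.exists_conj hz.1 hz1 h hy1
      exact ⟨l, Subgroup.mem_sup_left hl, e⟩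
    · obtain ⟨l, hl, e⟩ := P.m2.exists_conj hz.2 hz1 h hy1
      exact ⟨l, Subgroup.mem_sup_right hl, e⟩
  refine ⟨g * l, mul_mem hg hl, ?_⟩
  calc g * l * z * (g * l)⁻¹ = g * (l * z * l⁻¹) * g⁻¹ := by group
    _ = x := by rw [hle, hy]; group

/-- The hypotheses of the outer involution lemma. -/
theorem outerData (h8 : 8 ≤ Nat.card F) {z : G} (hz : z ∈ V1 ⊓ V2) (hz1 : z ≠ 1) :
    OuterData (Subgroup.normalizer ((L1 ⊔ L2 : Subgroup G) : Set G)) ((L1 ⊔ L2) ⊔ both V1 V2) (L1 ⊔ L2) z := by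
  set G0 := L1 ⊔ L2
  set M := Subgroup.normalizer (G0 : Set G)
  have hG0M : G0 ≤ M := Subgroup.le_normalizer
  have hbothM : both V1 V2 ≤ M := P.both_le_NG0
  have norm0 : ∀ m ∈ M, ∀ x ∈ G0 ⊔ both V1 V2, m * x * m⁻¹ ∈ G0 ⊔ both V1 V2 := by
    intro m hm x hx
    have h : G0 ⊔ both V1 V2 ≤ (G0 ⊔ both V1 V2).comap (MulAut.conj m).toMonoidHom := by
      refine sup_le (fun y hy => Subgroup.mem_sup_left ((Subgroup.mem_normalizer_iff.mp hm y).mp hy)) fun b hb => ?_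
      obtain ⟨g, hg, hn⟩ := P.frattini h8 hm
      set n := g⁻¹ * m with hndef
      have hnb : n * b * n⁻¹ ∈ both V1 V2 := by
        by_cases hb' : n ∈ both V1 V2
        · exact mul_mem (mul_mem hb' hb) (inv_mem hb')
        · by_contra hne
          have hbn : n * b * n⁻¹ ∈ Subgroup.normalizer (J : Set G) :=
            mul_mem (mul_mem hn (P.both_le_normalizer_J hb)) (inv_mem hn)
          have h := P.mul_mem_both hbn hn hne hb'
          rw [inv_mul_cancel_right] at h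
          exact hb' (by simpa using mul_mem h (inv_mem hb))
      show m * b * m⁻¹ ∈ G0 ⊔ both V1 V2
      rw [show m * b * m⁻¹ = g * (n * b * n⁻¹) * g⁻¹ by rw [hndef]; group]
      exact mul_mem (mul_mem (Subgroup.mem_sup_left hg) (Subgroup.mem_sup_right hnb))
        (inv_mem (Subgroup.mem_sup_left hg))
    exact h hx
  have out : ∀ {m : G}, m ∈ M → m ∉ G0 ⊔ both V1 V2 →
      ∃ g ∈ G0, g⁻¹ * m ∈ Subgroup.normalizer (J : Set G) ∧ g⁻¹ * m ∉ both V1 V2 := by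
    intro m hm hm0
    obtain ⟨g, hg, hn⟩ := P.frattini h8 hm
    refine ⟨g, hg, hn, fun hb => hm0 ?_⟩
    have := (G0 ⊔ both V1 V2).mul_mem (Subgroup.mem_sup_left hg) (Subgroup.mem_sup_right hb)
    rwa [mul_inv_cancel_left] at this
  have two : ∀ {a : G}, a * a = 1 → IsPGroup 2 (Subgroup.zpowers a) := fun {a} ha => by
    obtain ⟨j, -, hj⟩ := (Nat.dvd_prime_pow Nat.prime_two).mp
      (orderOf_dvd_of_pow_eq_one (show a ^ 2 ^ 1 = 1 by rw [pow_one, pow_two, ha]))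
    exact IsPGroup.of_card (n := j) (by rw [Nat.card_zpowers, hj])
  have csq : ∀ {a g : G}, a * a = 1 → g⁻¹ * a * g * (g⁻¹ * a * g) = 1 := fun {a g} ha => by
    rw [show g⁻¹ * a * g * (g⁻¹ * a * g) = g⁻¹ * (a * a) * g by group, ha]; group
  have mkW : ∀ {v g : G}, g ∈ G0 → ∀ W0 : Subgroup G, W0 ≤ J → (∀ w ∈ W0, w * w = 1) →
      W0 ≤ Subgroup.centralizer {g⁻¹ * v * g} →
      ∃ W : Subgroup G, W ≤ G0 ∧ Nat.card W = Nat.card W0 ∧ ∀ w ∈ W, w * w = 1 ∧ Commute v w := by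
    intro v g hg W0 hW h2 hc
    refine ⟨W0.map (MulAut.conj g).toMonoidHom, ?_, Subgroup.card_map_of_injective (MulAut.conj g).injective, ?_⟩
    · rintro _ ⟨w, hw, rfl⟩
      exact mul_mem (mul_mem hg (P.J_le_G0 (hW hw))) (inv_mem hg)
    · rintro _ ⟨w, hw, rfl⟩
      refine ⟨by rw [← map_mul, h2 w hw, map_one], ?_⟩
      have := (show Commute (g⁻¹ * v * g) w from
        (Subgroup.mem_centralizer_singleton_iff.mp (hc hw) : w * _ = _ * w).symm).map (MulAut.conj g).toMonoidHom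
      simpa [mul_assoc] using this
  refine
    { zG0 := P.J_le_G0 (P.V1_le_J hz.1)
      zne := hz1
      le0 := le_sup_left
      leM := sup_le hG0M hbothM
      norm := fun m hm x hx => (Subgroup.mem_normalizer_iff.mp hm x).mp hx
      norm0 := norm0
      cls := fun x hx h2 h1 => ?_
      cent := fun x hx => P.NJ_le_NG0 (P.centralizer_Z_le h8 hz hz1 hx)
      idx := ?_
      cyc := ?_
      big := ?_
      big' := ?_ }
  · obtain ⟨m, hm, e⟩ := P.cls h8 hz hz1 hx h2 h1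
    exact ⟨m, hG0M hm, e⟩
  · intro a ha b hb ha0 hb0
    obtain ⟨g, hg, hn, hnb⟩ := out ha ha0
    obtain ⟨g', hg', hn', hnb'⟩ := out hb hb0
    rw [show a * b = g * ((g⁻¹ * a) * g' * (g⁻¹ * a)⁻¹) * ((g⁻¹ * a) * (g'⁻¹ * b)) by group]
    exact mul_mem (mul_mem (Subgroup.mem_sup_left hg)
      (Subgroup.mem_sup_left ((Subgroup.mem_normalizer_iff.mp (P.NJ_le_NG0 hn) g').mp hg')))
      (Subgroup.mem_sup_right (P.mul_mem_both hn hn' hnb hnb'))
  · intro a ha b hb ha2 hb2 hab haG hbG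
    haveI : Fact (Nat.Prime 2) := ⟨Nat.prime_two⟩
    obtain ⟨g, hg, hgA⟩ := P.exists_conj_NJ h8 (A := Subgroup.zpowers a ⊔ Subgroup.zpowers b)
      ((two ha2).to_sup_of_normal_left' (two hb2) (by
        rw [Subgroup.zpowers_le]
        refine mem_normalizer_of_conj ?_
        rintro _ ⟨i, rfl⟩
        rw [← (hab.zpow_left i).eq, mul_inv_cancel_right]
        exact Subgroup.zpow_mem_zpowers a i))
      (sup_le (by rw [Subgroup.zpowers_le]; exact (sup_le hG0M hbothM) ha)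
        (by rw [Subgroup.zpowers_le]; exact (sup_le hG0M hbothM) hb))
    have hg0 : g ∈ G0 ⊔ both V1 V2 := Subgroup.mem_sup_left hg
    have key : ∀ {c : G}, c ∈ G0 ⊔ both V1 V2 → c ∉ G0 → c ∈ Subgroup.zpowers a ⊔ Subgroup.zpowers b →
        g⁻¹ * c * g ∈ both V1 V2 ∧ g⁻¹ * c * g ∉ J := fun {c} hc hcG hcA =>
      ⟨P.M0_inter_NJ h8 (mul_mem (mul_mem (inv_mem hg0) hc) hg0) (hgA c hcA), fun hJ => hcG (by
        have := mul_mem (mul_mem hg (P.J_le_G0 hJ)) (inv_mem hg)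
        simpa [mul_assoc] using this)⟩
    obtain ⟨a1, a2⟩ := key ha haG (Subgroup.mem_sup_left (Subgroup.mem_zpowers a))
    obtain ⟨b1, b2⟩ := key hb hbG (Subgroup.mem_sup_right (Subgroup.mem_zpowers b))
    have h := P.mul_mem_J a1 b1 (csq ha2) (csq hb2) (by
      simpa using hab.map (MulAut.conj g⁻¹).toMonoidHom) a2 b2
    have := mul_mem (mul_mem hg (P.J_le_G0 h)) (inv_mem hg)
    simpa [mul_assoc] using this
  · intro v hv hvG hv2
    obtain ⟨g, hg, hgA⟩ := P.exists_conj_NJ h8 (two hv2)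
      (by rw [Subgroup.zpowers_le]; exact (sup_le hG0M hbothM) hv)
    have hg0 : g ∈ G0 ⊔ both V1 V2 := Subgroup.mem_sup_left hg
    set v' := g⁻¹ * v * g
    have hvb := P.M0_inter_NJ h8 (mul_mem (mul_mem (inv_mem hg0) hv) hg0) (hgA v (Subgroup.mem_zpowers v))
    have hsq := card_le_centralized_sq (V := V1) (fun a ha b hb => P.m1.mul_comm_V ha hb)
      (fun a ha => P.m1.mul_self ha) (n := v') (fun a ha => (Subgroup.mem_normalizer_iff.mp hvb.1 a).mp ha)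
      (csq hv2)
    obtain ⟨W, hW, hWc, hW'⟩ := mkW hg (V1 ⊓ Subgroup.centralizer {v'}) (inf_le_left.trans P.V1_le_J)
      (fun w hw => P.m1.mul_self hw.1) inf_le_right
    refine ⟨W, hW, ?_, hW'⟩
    rw [P.card_V1] at hsq
    rw [hWc]
    nlinarith
  · intro v hv hv0 hv2
    haveI : Fact (Nat.Prime 2) := ⟨Nat.prime_two⟩
    obtain ⟨g, hg, hgA⟩ := P.exists_conj_NJ h8 (two hv2) (by rwa [Subgroup.zpowers_le])
    set v' := g⁻¹ * v * g
    have hvJ := hgA v (Subgroup.mem_zpowers v)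
    have hvb : v' ∉ both V1 V2 := fun h => hv0 (by
      have := (G0 ⊔ both V1 V2).mul_mem ((G0 ⊔ both V1 V2).mul_mem (Subgroup.mem_sup_left hg)
        (Subgroup.mem_sup_right h)) ((G0 ⊔ both V1 V2).inv_mem (Subgroup.mem_sup_left hg))
      simpa [v', mul_assoc] using this)
    set W0 := V1 ⊓ V2 ⊓ Subgroup.centralizer {v'}
    have hsq := card_le_centralized_sq (V := V1 ⊓ V2) (fun a ha b hb => P.m1.mul_comm_V ha.1 hb.1)
      (fun a ha => P.m1.mul_self ha.1) (n := v') (fun a ha => P.conj_Z hvJ hvb ha.1 ha.2) (csq hv2)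
    obtain ⟨W, hW, hWc, hW'⟩ := mkW hg W0 ((inf_le_left.trans inf_le_left).trans P.V1_le_J)
      (fun w hw => P.m1.mul_self hw.1.1) inf_le_right
    refine ⟨W, hW, ?_, hW'⟩
    rw [P.card_Z] at hsq
    rw [hWc]
    obtain ⟨i, hi⟩ := IsPGroup.iff_card.mp (P.V1_pGroup.to_le (inf_le_left.trans inf_le_left : W0 ≤ V1))
    rw [hi] at hsq ⊢
    rcases i with _ | _ | i
    · norm_num at hsq; omega
    · norm_num at hsq; omega
    · rw [pow_succ, pow_succ]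
      have := Nat.one_le_two_pow (n := i)
      omega

end Pair

end Cfsg.Agent.Invol.NatPair
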