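import Cfsg.Agent.Lib.Invol.NatPair.Fuse
import Cfsg.Agent.S1230
import Cfsg.Agent.Lib.Invol.RegularInversionFamilies

/-!
# Only one root subgroup is opposite to `Z`

Modulo the kernel of the torus, `E₁` is `PSL(2, q)`; its torus normalizes exactly two Sylow 2-subgroups.
-/

set_option autoImplicit false
set_option linter.unusedSectionVars false
set_option linter.style.haveILetI false

namespace Cfsg.Agent.Invol.NatPair

universe u v

variable {G : Type u} [Group G] [Finite G] {F : Type v} [Field F] [Finite F] [CharP F 2]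

namespace Torus

variable {L1 L2 V1 V2 J T : Subgroup G} {P : Pair L1 L2 V1 V2 J T F} (D : Torus P)

/-- `g` carries `Z` to an opposite root subgroup. -/
def Opp (g : G) : Prop :=
  (∀ h ∈ D.H, g⁻¹ * h * g ∈ D.H ∧ P.alpha (g⁻¹ * h * g) = (P.alpha h)⁻¹) ∧
    ¬ ∀ t, g * D.x13 t * g⁻¹ ∈ V1 ⊓ V2

include D

theorem odd_H {x : G} (hx : x ∈ D.H) (h2 : x * x = 1) : x = 1 :=
  D.disj x hx (P.mem_J_of_lin (D.mem hx) (D.lin x hx).2 (k := 1) (by rw [pow_one, pow_two, h2]))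

theorem opp_mem_EG {g : G} (hg : D.Opp g) (t : F) : g * D.x13 t * g⁻¹ ∈ D.EG := by
  refine D.mem_EG.mpr fun h hh => ?_
  obtain ⟨hh', hα⟩ := D.Kz_iff.mp hh
  obtain ⟨hm, he⟩ := hg.1 h hh'
  have hc : Commute (D.x13 t) (g⁻¹ * h * g) := (Subgroup.mem_centralizer_iff.mp
    (D.Kz_iff.mpr ⟨hm, by rw [he, hα, inv_one]⟩ : g⁻¹ * h * g ∈ D.Kz).2 _ ⟨(D.x13_mem t).1, (D.x13_mem t).2⟩)
  have := hc.map (MulAut.conj g).toMonoidHom
  simpa [mul_assoc] using this

theorem opp_surj {g : G} (hg : D.Opp g) {a : F} (ha : a ≠ 0) : ∃ h ∈ D.H, P.alpha (g⁻¹ * h * g) = a := by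
  obtain ⟨h, hh, e, -⟩ := D.exists_torus1 (inv_ne_zero ha)
  exact ⟨h, hh, by rw [(hg.1 h hh).2, e, inv_inv]⟩

theorem card_H : Nat.card D.H = (Nat.card F - 1) * Nat.card D.Kz := by
  let χ : D.H →* Fˣ :=
    { toFun := fun h => Units.mk0 (P.alpha h) (P.alpha_ne_zero (D.mem h.2))
      map_one' := Units.ext P.alpha_one
      map_mul' := fun a b => Units.ext (show P.alpha ((a : G) * b) = P.alpha a * P.alpha b by
        rw [P.alpha_mul (D.mem a.2) (D.mem b.2), (D.lin a a.2).2, mul_comm]) }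
  have hs : Function.Surjective χ := fun c => by
    obtain ⟨h, hh, e, -⟩ := D.exists_torus1 c.ne_zero
    exact ⟨⟨h, hh⟩, Units.ext e⟩
  have hk : Nat.card χ.ker = Nat.card D.Kz := Nat.card_congr
    { toFun := fun x => ⟨x.1, D.Kz_iff.mpr ⟨x.1.2, congrArg Units.val x.2⟩⟩
      invFun := fun x => ⟨⟨x.1, x.2.1⟩, Units.ext (D.Kz_iff.mp x.2).2⟩
      left_inv := fun _ => rfl
      right_inv := fun _ => rfl }
  rw [← χ.ker.index_mul_card, Subgroup.index_ker, MonoidHom.range_eq_top.mpr hs, Subgroup.card_top,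
    Nat.card_units, hk]

theorem card_ZH {X : Subgroup G} (hX : ∀ n, n ∈ X ↔ ∃ h ∈ D.H, h⁻¹ * n ∈ V1 ⊓ V2) :
    Nat.card X = Nat.card F * Nat.card D.H := by
  rw [← P.card_Z, mul_comm, ← Nat.card_prod]
  refine (Nat.card_congr (Equiv.ofBijective
    (fun p : D.H × (V1 ⊓ V2 : Subgroup G) => (⟨(p.1 : G) * p.2, (hX _).mpr ⟨p.1, p.1.2,
      by rw [inv_mul_cancel_left]; exact p.2.2⟩⟩ : X)) ⟨?_, ?_⟩)).symm
  · rintro ⟨h, z⟩ ⟨h', z'⟩ e
    have e' : (h : G) * z = h' * z' := congrArg Subtype.val e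
    have : (h' : G)⁻¹ * h = z' * (z : G)⁻¹ := by
      rw [eq_mul_inv_iff_mul_eq, mul_assoc, e', inv_mul_cancel_left]
    have h1 := D.disj _ (mul_mem (inv_mem h'.2) h.2)
      (this ▸ P.V1_le_J (V1.mul_mem z'.2.1 (V1.inv_mem z.2.1)))
    obtain rfl : h' = h := Subtype.ext (inv_mul_eq_one.mp h1)
    obtain rfl : z = z' := Subtype.ext (mul_left_cancel e')
    rfl
  · rintro ⟨n, hn⟩
    obtain ⟨h, hh, hz⟩ := (hX n).mp hn
    exact ⟨(⟨h, hh⟩, ⟨_, hz⟩), Subtype.ext (mul_inv_cancel_left h n)⟩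

/-- Two opposite root subgroups coincide. -/
theorem opposite_unique (h8 : 8 ≤ Nat.card F) {g g' : G} (hg : D.Opp g) (hg' : D.Opp g') (t : F) :
    ∃ r, g * D.x13 t * g⁻¹ = g' * D.x13 r * g'⁻¹ := by
  classical
  haveI : Fact (Nat.Prime 2) := ⟨Nat.prime_two⟩
  obtain ⟨E, hEle, hHE, hroot, hEb⟩ := D.exists_E1 h8
  set Z := V1 ⊓ V2 with hZdef
  have hone : ∀ h ∈ D.H, (1 : G)⁻¹ * h * 1 ∈ D.H := fun h hh => by simpa using hh
  have hZE : Z ≤ E := fun z hz => by
    have := hroot 1 hone (fun a ha => by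
        obtain ⟨h, hh, e, -⟩ := D.exists_torus1 ha
        exact ⟨h, hh, by simpa using e⟩)
      (fun t => by simpa using D.Z_le_EG (D.x13_mem t).1 (D.x13_mem t).2) (P.m1.co z 0)
    rw [one_mul, inv_one, mul_one, x13, ← P.Z_eq_vec hz.1 hz.2] at this
    exact this
  have hne1 : D.x13 1 ≠ 1 := fun e => one_ne_zero (D.x13_inj (e.trans D.x13_zero.symm))
  -- centralizers of points of `Z`
  have hcent : ∀ c ∈ E, ∀ z ∈ Z, z ≠ 1 → Commute c z → ∃ h ∈ D.Kz, h⁻¹ * c ∈ Z := fun c hc z hz hz1 hcz =>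
    D.EG_both_Z h8 (hEle hc) (hEb c hc z hz hz1 hcz) hz hz1 hcz
  -- the normalizer of `Z`
  have hnormZ : ∀ n ∈ E, (∀ z ∈ Z, n * z * n⁻¹ ∈ Z) → ∃ h ∈ D.H, h⁻¹ * n ∈ Z := by
    intro n hn hnz
    obtain ⟨h, hh, hc, -⟩ := D.norm_Z_le h8 hnz
    obtain ⟨x, hx, hxz⟩ := hcent _ (mul_mem (inv_mem (hHE hh)) hn) _ (D.x13_mem 1) hne1 hc
    refine ⟨h * x, mul_mem hh hx.1, ?_⟩
    rwa [_root_.mul_inv_rev, mul_assoc]
  have hpg : ∀ (Q : Subgroup G), IsPGroup 2 Q → Q ≤ E → Z ≤ Q → Q ≤ Z := by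
    intro Q hQ hQE hZQ n hn
    have hJ := D.pGroup_le_NJ h8 hQ (hQE.trans hEle) hZQ hn
    have hnz : ∀ z ∈ Z, n * z * n⁻¹ ∈ Z := fun z hz => by
      by_cases hb : n ∈ both V1 V2
      · exact ⟨(Subgroup.mem_normalizer_iff.mp hb.1 z).mp hz.1, (Subgroup.mem_normalizer_iff.mp hb.2 z).mp hz.2⟩
      · exact ⟨(P.conj_Z hJ hb hz.1 hz.2).1, (P.conj_Z hJ hb hz.1 hz.2).2⟩
    obtain ⟨h, hh, hx⟩ := hnormZ n (hQE hn) hnz
    have hb : n ∈ both V1 V2 := by
      have := mul_mem (D.mem hh) (P.J_le_both (P.V1_le_J hx.1))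
      rwa [mul_inv_cancel_left] at this
    exact D.both_inter_le h8 hQ (hQE.trans hEle) ⟨hn, hb⟩
  set ZE := Z.subgroupOf E with hZEdef
  have hZp : IsPGroup 2 ZE := (P.V1_pGroup.to_le inf_le_left).of_equiv (Subgroup.subgroupOfEquivOfLe hZE).symm
  obtain ⟨PZ, hPZ⟩ := hZp.exists_le_sylow
  have hPZeq : (PZ : Subgroup E) = ZE := by
    refine le_antisymm (fun x hx => ?_) hPZ
    exact hpg ((PZ : Subgroup E).map E.subtype) (PZ.isPGroup'.map _) (Subgroup.map_subtype_le _)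
      (fun z hz => ⟨⟨z, hZE hz⟩, hPZ hz, rfl⟩) ⟨x, hx, rfl⟩
  have hcardZE : Nat.card ZE = Nat.card F :=
    (Nat.card_congr (Subgroup.subgroupOfEquivOfLe hZE).toEquiv).trans P.card_Z
  have hPcard : ∀ Q : Sylow 2 E, Nat.card Q = Nat.card F := fun Q => by
    rw [Q.card_eq_multiplicity, ← PZ.card_eq_multiplicity, ← hcardZE, ← hPZeq]
  -- opposite root subgroups
  have hZg : ∀ {y : G}, D.Opp y → ∃ Q : Sylow 2 E, (∀ x : E, x ∈ (Q : Subgroup E) ↔ ∃ z ∈ Z, y * z * y⁻¹ = x) ∧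
      ∀ x : E, x ∈ (Q : Subgroup E) → (x : G) ∈ Z → x = 1 := by
    intro y hy
    have hin : ∀ z ∈ Z, y * z * y⁻¹ ∈ E := fun z hz => by
      rw [P.Z_eq_vec hz.1 hz.2]
      exact hroot y (fun h hh => (hy.1 h hh).1) (fun a ha => D.opp_surj hy ha) (D.opp_mem_EG hy) _
    set X := (Z.map (MulAut.conj y).toMonoidHom).subgroupOf E with hXdef
    have hXle : Z.map (MulAut.conj y).toMonoidHom ≤ E := by
      rintro _ ⟨z, hz, rfl⟩; exact hin z hz
    have hXp : IsPGroup 2 X := ((P.V1_pGroup.to_le inf_le_left).map _).of_equiv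
      (Subgroup.subgroupOfEquivOfLe hXle).symm
    obtain ⟨Q, hQ⟩ := hXp.exists_le_sylow
    have hXc : Nat.card X = Nat.card F :=
      ((Nat.card_congr (Subgroup.subgroupOfEquivOfLe hXle).toEquiv).trans
        (Subgroup.card_map_of_injective (MulAut.conj y).injective)).trans P.card_Z
    have hQeq : (Q : Subgroup E) = X :=
      (Subgroup.eq_of_le_of_card_ge hQ (by rw [hXc]; exact (hPcard Q).le)).symm
    refine ⟨Q, fun x => ?_, fun x hx hxZ => ?_⟩
    · rw [hQeq]; rfl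
    rw [hQeq] at hx
    by_contra hx1
    refine hy.2 fun t => ?_
    have hE' : Z.map (MulAut.conj y).toMonoidHom ≤ D.EG := hXle.trans hEle
    have hJ' : Z.map (MulAut.conj y).toMonoidHom ≤ Subgroup.normalizer (J : Set G) := by
      intro w hw
      refine P.centralizer_Z_le h8 hxZ (fun e => hx1 (Subtype.ext e)) ?_
      obtain ⟨a, ha, rfl⟩ := hw
      obtain ⟨b, hb, hbx⟩ := hx
      have hab : Commute a b := P.m1.mul_comm_V ha.1 hb.1
      have := hab.map (MulAut.conj y).toMonoidHom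
      rw [show (MulAut.conj y).toMonoidHom b = (x : G) from hbx] at this
      exact this
    have e := D.elem_eq_Z h8 hE' hJ'
      (by rintro _ ⟨w, hw, rfl⟩; rw [← map_mul, P.m1.mul_self hw.1, map_one])
      ((Subgroup.card_map_of_injective (MulAut.conj y).injective).trans P.card_Z)
    exact e ▸ (⟨D.x13 t, D.x13_mem t, rfl⟩ : y * D.x13 t * y⁻¹ ∈ Z.map (MulAut.conj y).toMonoidHom)
  obtain ⟨PX, hPX, hXZ⟩ := hZg hg
  obtain ⟨PY, hPY, hYZ⟩ := hZg hg'
  have hZmem : ∀ x : E, x ∈ (PZ : Subgroup E) ↔ (x : G) ∈ Z := fun x => by rw [hPZeq]; rfl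
  have hneX : ∀ {Q : Sylow 2 E}, (∀ x : E, x ∈ (Q : Subgroup E) → (x : G) ∈ Z → x = 1) → Q ≠ PZ := by
    rintro Q hQ rfl
    exact hne1 (congrArg Subtype.val
      (hQ ⟨D.x13 1, hZE (D.x13_mem 1)⟩ ((hZmem _).mpr (D.x13_mem 1)) (D.x13_mem 1)))
  -- the quotient by the kernel
  set Kq := D.Kz.subgroupOf E with hKq
  have hKE : D.Kz ≤ E := fun x hx => hHE hx.1
  haveI hKn : Kq.Normal := ⟨fun a ha b => by
    have hc := D.mem_EG.mp (hEle b.2) (a : G) ha
    have e : b * a * b⁻¹ = a := Subtype.ext (by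
      show (b : G) * a * (b : G)⁻¹ = a
      rw [hc.eq, mul_inv_cancel_right])
    rwa [e]⟩
  let π := QuotientGroup.mk' Kq
  have hπs : Function.Surjective π := QuotientGroup.mk'_surjective Kq
  have hπ1 : ∀ x : E, π x = 1 ↔ (x : G) ∈ D.Kz := fun x => (QuotientGroup.eq_one_iff x).trans Subgroup.mem_subgroupOf
  have hinj : ∀ x : E, (x : G) ∈ Z → π x = 1 → x = 1 := fun x hx e =>
    Subtype.ext (D.disj _ ((hπ1 x).mp e).1 (P.V1_le_J hx.1))
  set Tq := PZ.mapSurjective hπs with hTq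
  have hTcard : Nat.card Tq = Nat.card F := by
    rw [← hcardZE, ← hPZeq]
    refine (Nat.card_congr (Equiv.ofBijective (fun x : (PZ : Subgroup E) => (⟨π x, ⟨x, x.2, rfl⟩⟩ : Tq))
      ⟨?_, ?_⟩)).symm
    · intro a b e
      have e' : π a = π b := congrArg Subtype.val e
      have := hinj ((a : E) * (b : E)⁻¹)
        (Z.mul_mem ((hZmem _).mp a.2) (Z.inv_mem ((hZmem _).mp b.2))) (by rw [map_mul, map_inv, e', mul_inv_cancel])
      exact Subtype.ext (mul_inv_eq_one.mp this)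
    · rintro ⟨_, x, hx, rfl⟩; exact ⟨⟨x, hx⟩, rfl⟩
  have hTel : ∀ y ∈ (Tq : Subgroup (E ⧸ Kq)), y * y = 1 := by
    rintro _ ⟨x, hx, rfl⟩
    rw [← map_mul, show x * x = 1 from Subtype.ext (P.m1.mul_self ((hZmem x).mp hx).1), map_one]
  have hnc : ¬ IsCyclic (Tq : Subgroup (E ⧸ Kq)) := by
    intro hcy
    obtain ⟨a, ha⟩ := hcy.exists_generator
    have h := orderOf_eq_card_of_forall_mem_zpowers ha
    have h2 : orderOf a ∣ 2 := orderOf_dvd_of_pow_eq_one (Subtype.ext (by rw [pow_two]; exact hTel a a.2))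
    rw [h, hTcard] at h2
    have := Nat.le_of_dvd (by norm_num) h2
    omega
  have hnn : ¬ (Tq : Subgroup (E ⧸ Kq)).Normal := by
    intro hn
    refine hg.2 fun s => ?_
    have hx : g * D.x13 s * g⁻¹ ∈ E :=
      hroot g (fun h hh => (hg.1 h hh).1) (fun a ha => D.opp_surj hg ha) (D.opp_mem_EG hg) s
    have hnz : ∀ z ∈ Z, (⟨_, hx⟩ : E).1 * z * (⟨_, hx⟩ : E).1⁻¹ ∈ Z := by
      intro z hz
      set x : E := ⟨_, hx⟩
      set w : E := ⟨z, hZE hz⟩
      obtain ⟨w', hw', e⟩ := hn.conj_mem (π w) ⟨w, (hZmem w).mpr hz, rfl⟩ (π x)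
      have e' : π (w'⁻¹ * (x * w * x⁻¹)) = 1 := by
        rw [map_mul, map_inv, e, map_mul, map_mul, map_inv, inv_mul_cancel]
      set k := w'⁻¹ * (x * w * x⁻¹) with hk
      have hkK := (hπ1 k).mp e'
      have hw'Z := (hZmem w').mp hw'
      have hk2 : (k : G) * k = 1 := by
        have hsq : (x * w * x⁻¹ : E) * (x * w * x⁻¹) = 1 := by
          rw [show (x * w * x⁻¹) * (x * w * x⁻¹) = x * (w * w) * x⁻¹ by group,
            show w * w = 1 from Subtype.ext (P.m1.mul_self hz.1), mul_one, mul_inv_cancel]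
        have hc : Commute (w' : G) k := Subgroup.mem_centralizer_iff.mp hkK.2 _ hw'Z
        have e2 : ((x * w * x⁻¹ : E) : G) = (w' : G) * k := by rw [hk]; simp
        have h3 : ((x * w * x⁻¹ : E) : G) * ((x * w * x⁻¹ : E) : G) = 1 := congrArg Subtype.val hsq
        rw [e2, show (w' : G) * k * ((w' : G) * k) = (w' : G) * ((k : G) * (w' : G)) * k by group, ← hc.eq,
          show (w' : G) * ((w' : G) * k) * k = ((w' : G) * w') * ((k : G) * k) by group,
          P.m1.mul_self hw'Z.1, one_mul] at h3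
        exact h3
      have hk1 := D.odd_H hkK.1 hk2
      have e2 : (x : G) * z * (x : G)⁻¹ = (w' : G) * k := by rw [hk]; simp [w]
      show (x : G) * z * (x : G)⁻¹ ∈ Z
      rw [e2, hk1, mul_one]
      exact hw'Z
    obtain ⟨h, hh, hxz⟩ := hnormZ _ hx hnz
    have hb : g * D.x13 s * g⁻¹ ∈ both V1 V2 := by
      have := mul_mem (D.mem hh) (P.J_le_both (P.V1_le_J hxz.1))
      rwa [mul_inv_cancel_left] at this
    exact D.two_pow_mem_Z (hEle hx) hb (D.EG_lin h8 (hEle hx) hb) (j := 1) (by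
      rw [pow_one, pow_two, show g * D.x13 s * g⁻¹ * (g * D.x13 s * g⁻¹) = g * (D.x13 s * D.x13 s) * g⁻¹ by group,
        P.m1.mul_self (D.x13_mem s).1, mul_one, mul_inv_cancel])
  have hC : ∀ y : E ⧸ Kq, orderOf y = 2 → IsMulCommutative (Subgroup.centralizer ({y} : Set (E ⧸ Kq))) ∧
      ∀ c ∈ Subgroup.centralizer ({y} : Set (E ⧸ Kq)), c ^ 2 = 1 := by
    intro y hy
    obtain ⟨x, rfl⟩ := hπs y
    obtain ⟨i, m, hm, hord⟩ := Nat.exists_eq_two_pow_mul_odd (orderOf_pos x).ne'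
    set x' := x ^ m with hx'
    have hy2 : π x * π x = 1 := by rw [← pow_two, ← hy, pow_orderOf_eq_one]
    have hπx' : π x' = π x := by
      obtain ⟨j, rfl⟩ := hm
      rw [hx', map_pow, pow_succ, pow_mul, pow_two, hy2, one_pow, one_mul]
    have hx'p : IsPGroup 2 (Subgroup.zpowers x') := by
      have h' : x' ^ 2 ^ i = 1 := by rw [hx', ← pow_mul, mul_comm, ← hord, pow_orderOf_eq_one]
      obtain ⟨j, -, hj⟩ := (Nat.dvd_prime_pow Nat.prime_two).mp (orderOf_dvd_of_pow_eq_one h')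
      exact IsPGroup.of_card (n := j) (by rw [Nat.card_zpowers, hj])
    obtain ⟨Q, hQ⟩ := hx'p.exists_le_sylow
    obtain ⟨b, hb⟩ := MulAction.exists_smul_eq E Q PZ
    have hbz : b * x' * b⁻¹ ∈ (PZ : Subgroup E) := by
      rw [← hb]; exact ⟨x', hQ (Subgroup.mem_zpowers x'), rfl⟩
    set z : E := b * x' * b⁻¹
    have hzZ := (hZmem z).mp hbz
    have hz1 : (z : G) ≠ 1 := fun e => by
      have e1 : z = 1 := Subtype.ext e
      have e2 : x' = 1 := conj_eq_one_iff.mp e1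
      rw [← hπx', e2, map_one, orderOf_one] at hy
      exact absurd hy (by norm_num)
    have key : ∀ c ∈ Subgroup.centralizer ({π x} : Set (E ⧸ Kq)),
        ∃ w ∈ (PZ : Subgroup E), c = (π b)⁻¹ * π w * π b := by
      intro c hc
      obtain ⟨d, hd⟩ := hπs (π b * c * (π b)⁻¹)
      have hcd : π d * π z = π z * π d := by
        have hcx := Subgroup.mem_centralizer_singleton_iff.mp hc
        rw [hd, show π z = π b * π x * (π b)⁻¹ by simp only [z, map_mul, map_inv, hπx']]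
        calc π b * c * (π b)⁻¹ * (π b * π x * (π b)⁻¹) = π b * (c * π x) * (π b)⁻¹ := by group
          _ = π b * (π x * c) * (π b)⁻¹ := by rw [hcx]
          _ = π b * π x * (π b)⁻¹ * (π b * c * (π b)⁻¹) := by group
      set k := z⁻¹ * (d * z * d⁻¹) with hk
      have hkK : (k : G) ∈ D.Kz := (hπ1 k).mp (by
        rw [map_mul, map_inv, show π (d * z * d⁻¹) = π d * π z * (π d)⁻¹ by simp [mul_assoc], hcd,
          mul_inv_cancel_right, inv_mul_cancel])
      have hk2 : (k : G) * k = 1 := by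
        have hc : Commute (z : G) k := Subgroup.mem_centralizer_iff.mp hkK.2 _ hzZ
        have e2 : (d : G) * z * (d : G)⁻¹ = (z : G) * k := by rw [hk]; simp
        have h3 : ((d : G) * z * (d : G)⁻¹) * ((d : G) * z * (d : G)⁻¹) = 1 := by
          rw [show (d : G) * z * (d : G)⁻¹ * ((d : G) * z * (d : G)⁻¹) = (d : G) * ((z : G) * z) * (d : G)⁻¹ by
            group, P.m1.mul_self hzZ.1, mul_one, mul_inv_cancel]
        rw [e2, show (z : G) * k * ((z : G) * k) = (z : G) * ((k : G) * (z : G)) * k by group, ← hc.eq,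
          show (z : G) * ((z : G) * k) * k = ((z : G) * z) * ((k : G) * k) by group,
          P.m1.mul_self hzZ.1, one_mul] at h3
        exact h3
      have hdz : Commute (d : G) z := by
        refine mul_inv_eq_iff_eq_mul.mp ?_
        have e2 : (d : G) * z * (d : G)⁻¹ = (z : G) * k := by rw [hk]; simp
        rw [e2, D.odd_H hkK.1 hk2, mul_one]
      obtain ⟨a, ha, haz⟩ := hcent d d.2 z hzZ hz1 hdz
      refine ⟨(⟨a, hKE ha⟩ : E)⁻¹ * d, (hZmem _).mpr haz, ?_⟩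
      rw [map_mul, map_inv, (hπ1 ⟨a, hKE ha⟩).mpr ha, inv_one, one_mul, hd]
      group
    refine ⟨⟨⟨fun c c' => Subtype.ext ?_⟩⟩, fun c hc => ?_⟩
    · obtain ⟨w, hw, e⟩ := key c c.2
      obtain ⟨w', hw', e'⟩ := key c' c'.2
      show (c : E ⧸ Kq) * c' = c' * c
      have hcomm : w * w' = w' * w := Subtype.ext (P.m1.mul_comm_V ((hZmem w).mp hw).1 ((hZmem w').mp hw').1)
      rw [e, e', show (π b)⁻¹ * π w * π b * ((π b)⁻¹ * π w' * π b) = (π b)⁻¹ * (π w * π w') * π b by group,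
        show (π b)⁻¹ * π w' * π b * ((π b)⁻¹ * π w * π b) = (π b)⁻¹ * (π w' * π w) * π b by group,
        ← map_mul, ← map_mul, hcomm]
    · obtain ⟨w, hw, e⟩ := key c hc
      rw [pow_two, e, show (π b)⁻¹ * π w * π b * ((π b)⁻¹ * π w * π b) = (π b)⁻¹ * (π w * π w) * π b by group,
        hTel (π w) ⟨w, hw, rfl⟩]
      group
  obtain ⟨F', _, _, hF', ⟨ψ⟩⟩ := S1230.result Tq hnc hnn hC
  haveI : CharP F' 2 := Nat2.charP_of_card (p := 2) (n := P.e) (hF'.trans (hTcard.trans P.hF))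
  have hcardE : Nat.card E = Nat.card D.Kz * (Nat.card F * ((Nat.card F - 1) * (Nat.card F + 1))) := by
    rw [← Kq.index_mul_card, Nat.card_congr (Subgroup.subgroupOfEquivOfLe hKE).toEquiv,
      Subgroup.index_eq_card, Nat.card_congr ψ.toEquiv, RegInv.card_PSL2, hF', hTcard, mul_comm]
  have hNc : Nat.card (Subgroup.normalizer ((PZ : Subgroup E) : Set E)) = Nat.card F * Nat.card D.H := by
    have hs : Function.Injective E.subtype := E.subtype_injective
    have e1 : Nat.card ((Subgroup.normalizer ((PZ : Subgroup E) : Set E)).map E.subtype) =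
        Nat.card (Subgroup.normalizer ((PZ : Subgroup E) : Set E)) := Subgroup.card_map_of_injective hs
    rw [← e1]
    refine D.card_ZH fun n => ⟨?_, ?_⟩
    · rintro ⟨x, hx, rfl⟩
      refine hnormZ x x.2 fun z hz => ?_
      exact (hZmem (x * ⟨z, hZE hz⟩ * x⁻¹)).mp
        ((Subgroup.mem_normalizer_iff.mp hx _).mp ((hZmem _).mpr hz))
    · rintro ⟨h, hh, hz⟩
      have hn : n ∈ E := by
        have := mul_mem (hHE hh) (hZE hz)
        rwa [mul_inv_cancel_left] at this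
      refine ⟨⟨n, hn⟩, mem_normalizer_of_conj fun x hx => (hZmem _).mpr ?_, rfl⟩
      have hb : n ∈ both V1 V2 := by
        have := mul_mem (D.mem hh) (P.J_le_both (P.V1_le_J hz.1))
        rwa [mul_inv_cancel_left] at this
      have hxz := (hZmem x).mp hx
      exact ⟨(Subgroup.mem_normalizer_iff.mp hb.1 _).mp hxz.1, (Subgroup.mem_normalizer_iff.mp hb.2 _).mp hxz.2⟩
  have hSyl : Nat.card (Sylow 2 E) = Nat.card F + 1 := by
    have e := (Subgroup.normalizer ((PZ : Subgroup E) : Set E)).index_mul_card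
    rw [show (Subgroup.normalizer ((PZ : Subgroup E) : Set E)).index = Nat.card (Sylow 2 E) from
      PZ.card_eq_index_normalizer.symm, hNc, hcardE, D.card_H] at e
    have hpos : 0 < Nat.card D.Kz * (Nat.card F * (Nat.card F - 1)) :=
      Nat.mul_pos Nat.card_pos (Nat.mul_pos (by omega) (by omega))
    refine Nat.eq_of_mul_eq_mul_right hpos ?_
    linarith
  -- `Z` acts regularly on the other Sylow subgroups
  have hfix : ∀ u : (PZ : Subgroup E), (u : E) • PX = PX → u = 1 := by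
    intro u hu
    have hn : (u : E) ∈ Subgroup.normalizer ((PX : Subgroup E) : Set E) := Sylow.smul_eq_iff_mem_normalizer.mp hu
    have hp : IsPGroup 2 ((PX : Subgroup E) ⊔ Subgroup.zpowers (u : E) : Subgroup E) :=
      PX.isPGroup'.to_sup_of_normal_left'
        (PZ.isPGroup'.to_le (by rw [Subgroup.zpowers_le]; exact u.2)) (by rwa [Subgroup.zpowers_le])
    have huX : (u : E) ∈ (PX : Subgroup E) := by
      rw [← PX.is_maximal' hp le_sup_left]
      exact le_sup_right (a := (PX : Subgroup E)) (Subgroup.mem_zpowers (u : E))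
    exact Subtype.ext (hXZ u huX ((hZmem u).mp u.2))
  let f : ↥(PZ : Subgroup E) → {Q : Sylow 2 E // Q ≠ PZ} := fun u => ⟨(u : E) • PX, fun e => hneX hXZ (by
    have hu : (u : E) • PZ = PZ := Sylow.smul_eq_iff_mem_normalizer.mpr (Subgroup.le_normalizer u.2)
    exact MulAction.injective _ (e.trans hu.symm))⟩
  have hfi : Function.Injective f := by
    intro u u' e
    have e' : (u : E) • PX = (u' : E) • PX := congrArg Subtype.val e
    have := hfix (u'⁻¹ * u) (by rw [Subgroup.coe_mul, Subgroup.coe_inv, mul_smul, e', inv_smul_smul])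
    exact (inv_mul_eq_one.mp this).symm
  have hfs : Function.Surjective f := by
    haveI := Fintype.ofFinite (Sylow 2 E)
    refine (Function.Injective.bijective_of_nat_card_le hfi ?_).2
    rw [hPcard PZ, Nat.card_eq_fintype_card (α := {Q : Sylow 2 E // Q ≠ PZ}), Fintype.card_subtype_compl,
      Fintype.card_subtype_eq, ← Nat.card_eq_fintype_card, hSyl]
    simp
  obtain ⟨u, hu⟩ := hfs ⟨PY, hneX hYZ⟩
  have hu' : (u : E) • PX = PY := congrArg Subtype.val hu
  obtain ⟨a, ha0, ha1⟩ := P.exists_ne_zero_one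
  obtain ⟨h, hh, he, -⟩ := D.exists_torus1 ha0
  set hE : E := ⟨h, hHE hh⟩
  have hfixed : ∀ {y : G}, D.Opp y → ∀ {Q : Sylow 2 E},
      (∀ x : E, x ∈ (Q : Subgroup E) ↔ ∃ z ∈ Z, y * z * y⁻¹ = x) → hE • Q = Q := by
    intro y hy Q hQ
    refine Sylow.smul_eq_iff_mem_normalizer.mpr (mem_normalizer_of_conj fun x hx => ?_)
    obtain ⟨z, hz, e⟩ := (hQ x).mp hx
    refine (hQ _).mpr ⟨(y⁻¹ * h * y) * z * (y⁻¹ * h * y)⁻¹, ?_, ?_⟩
    · have hm := D.mem (hy.1 h hh).1
      exact ⟨(Subgroup.mem_normalizer_iff.mp hm.1 z).mp hz.1, (Subgroup.mem_normalizer_iff.mp hm.2 z).mp hz.2⟩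
    · show _ = h * (x : G) * h⁻¹
      rw [← e]; group
  have hcu : hE * u * hE⁻¹ ∈ (PZ : Subgroup E) := by
    refine (hZmem _).mpr ?_
    have hz := (hZmem u).mp u.2
    exact ⟨(Subgroup.mem_normalizer_iff.mp (D.mem hh).1 _).mp hz.1, (Subgroup.mem_normalizer_iff.mp (D.mem hh).2 _).mp hz.2⟩
  have hsame : f ⟨_, hcu⟩ = f u := Subtype.ext (by
    show (hE * (u : E) * hE⁻¹) • PX = (u : E) • PX
    rw [mul_smul, mul_smul, hu', inv_smul_eq_iff.mpr (hfixed hg hPX).symm, hu', hfixed hg' hPY])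
  have hu1 : ((u : E) : G) = 1 := by
    have e : h * ((u : E) : G) * h⁻¹ = ((u : E) : G) := congrArg (fun w : (PZ : Subgroup E) => ((w : E) : G)) (hfi hsame)
    have hz := (hZmem u).mp u.2
    rw [P.Z_eq_vec hz.1 hz.2, ← x13, D.conj_x13 hh, he] at e
    have h0 := (mul_left_eq_self₀.mp (D.x13_inj e)).resolve_left ha1
    rw [P.Z_eq_vec hz.1 hz.2, h0]
    exact D.x13_zero
  have hXY : PX = PY := by rw [← hu', show (u : E) = 1 from Subtype.ext hu1, one_smul]
  have ht : g * D.x13 t * g⁻¹ ∈ E :=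
    hroot g (fun h hh => (hg.1 h hh).1) (fun a ha => D.opp_surj hg ha) (D.opp_mem_EG hg) t
  have := (hPX ⟨_, ht⟩).mpr ⟨D.x13 t, D.x13_mem t, rfl⟩
  rw [hXY] at this
  obtain ⟨z, hz, e⟩ := (hPY _).mp this
  refine ⟨P.m1.co z 0, ?_⟩
  rw [show D.x13 (P.m1.co z 0) = z from (P.Z_eq_vec hz.1 hz.2).symm]
  exact e.symm

end Torus

end Cfsg.Agent.Invol.NatPair
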