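import Cfsg.Agent.Lib.Invol.NatPair.Mod
import Cfsg.Agent.Lib.Invol.NatPair.Fixed

/-!
# Two natural parabolics sharing a Sylow subgroup: the subgroup `J = V₁V₂`
-/

set_option autoImplicit false
set_option linter.unusedSectionVars false

namespace Cfsg.Agent.Invol.NatPair

open Matrix Cfsg.Agent.Grp.SL2
open Cfsg.Agent.Invol.Nat2 (dg mulVec_up mulVec_dg)

universe u v

variable {G : Type u} [Group G] [Finite G] {F : Type v} [Field F] [Finite F] [CharP F 2]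

local notation "SS" => Matrix.SpecialLinearGroup (Fin 2) F

/-- The hypotheses, in a form symmetric in the two indices. -/
structure Pair (L1 L2 V1 V2 J T : Subgroup G) (F : Type v) [Field F] where
  m1 : Mod L1 V1 J F
  m2 : Mod L2 V2 J F
  Jeq : J = V1 ⊔ V2
  e : ℕ
  he : 2 ≤ e
  hF : Nat.card F = 2 ^ e
  nL1 : Subgroup.normalizer (V1 : Set G) ≤ Subgroup.normalizer (L1 : Set G)
  nL2 : Subgroup.normalizer (V2 : Set G) ≤ Subgroup.normalizer (L2 : Set G)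
  TV1 : T ≤ Subgroup.normalizer (V1 : Set G)
  TV2 : T ≤ Subgroup.normalizer (V2 : Set G)
  core : ∀ D : Subgroup G, IsPGroup 2 D → D ≤ Subgroup.normalizer (V1 : Set G) →
    D ≤ Subgroup.normalizer (V2 : Set G) → T ≤ Subgroup.normalizer (D : Set G) →
    L1 ≤ Subgroup.normalizer (D : Set G) → L2 ≤ Subgroup.normalizer (D : Set G) → D = ⊥
  char2 : Cfsg.IsCharacteristicTwoType G

namespace Pair

variable {L1 L2 V1 V2 J T : Subgroup G}

/-- Interchanging the two indices. -/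
def swap (P : Pair L1 L2 V1 V2 J T F) : Pair L2 L1 V2 V1 J T F where
  m1 := P.m2
  m2 := P.m1
  Jeq := by rw [P.Jeq, sup_comm]
  e := P.e
  he := P.he
  hF := P.hF
  nL1 := P.nL2
  nL2 := P.nL1
  TV1 := P.TV2
  TV2 := P.TV1
  core D h a b c d e := P.core D h b a c e d
  char2 := P.char2

variable (P : Pair L1 L2 V1 V2 J T F)
include P

theorem four_le_q : 4 ≤ Nat.card F := by
  rw [P.hF]; exact le_trans (by norm_num) (Nat.pow_le_pow_right (by norm_num : 0 < 2) P.he)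

theorem V1_le_J : V1 ≤ J := P.m1.V_le_J

theorem V2_le_J : V2 ≤ J := P.m2.V_le_J

theorem V2_le_L1 : V2 ≤ L1 := P.V2_le_J.trans P.m1.Jle

theorem J_le_N1 : J ≤ Subgroup.normalizer (V1 : Set G) := P.m1.Jle.trans P.m1.norm

theorem exists_mul {x : G} (hx : x ∈ J) : ∃ a ∈ V1, ∃ b ∈ V2, a * b = x := by
  rw [P.Jeq, ← SetLike.mem_coe,
    Subgroup.coe_mul_of_right_le_normalizer_left V1 V2 (P.V2_le_J.trans P.J_le_N1)] at hx
  exact hx

theorem exists_mul' {x : G} (hx : x ∈ J) : ∃ b ∈ V2, ∃ a ∈ V1, b * a = x := P.swap.exists_mul hx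

/-- Every unitriangular matrix is induced by an element of `V2`. -/
theorem exists_b (t : F) : ∃ (b : G) (hb : b ∈ V2), P.m1.ρ ⟨b, P.V2_le_L1 hb⟩ = up t := by
  obtain ⟨l, hl⟩ := P.m1.exists_lift (up t)
  obtain ⟨a, ha, b, hb, hab⟩ := P.exists_mul ((P.m1.mem_J l).mpr ⟨t, hl⟩)
  refine ⟨b, hb, ?_⟩
  rw [← hl, show l = ⟨a, P.m1.le ha⟩ * ⟨b, P.V2_le_L1 hb⟩ from Subtype.ext hab.symm, map_mul,
    (P.m1.ker ⟨a, P.m1.le ha⟩).mpr ha, one_mul]

theorem exists_up {b : G} (hb : b ∈ J) : ∃ t, P.m1.ρ ⟨b, P.m1.Jle hb⟩ = up t :=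
  (P.m1.mem_J _).mp hb

theorem conj_up {b : G} (hb : b ∈ L1) {t : F} (ht : P.m1.ρ ⟨b, hb⟩ = up t) {a : G} (ha : a ∈ V1) :
    b * a * b⁻¹ * a⁻¹ = P.m1.vec ![t * P.m1.co a 1, 0] := by
  have h := P.m1.conj_vec ⟨b, hb⟩ (P.m1.co a)
  rw [P.m1.vec_co ha, ht, mulVec_up] at h
  rw [h, P.m1.inv_eq ha]
  conv_lhs => arg 2; rw [← P.m1.vec_co ha]
  rw [← P.m1.vec_add]
  congr 1
  ext i; fin_cases i <;> simp [CharTwo.add_self_eq_zero, add_comm, ← add_assoc]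

theorem commute_iff_fix {b : G} (hb : b ∈ L1) {t : F} (ht : P.m1.ρ ⟨b, hb⟩ = up t) {a : G} (ha : a ∈ V1) :
    Commute b a ↔ t * P.m1.co a 1 = 0 := by
  rw [← commutatorElement_eq_one_iff_commute, commutatorElement_def, P.conj_up hb ht ha, P.m1.vec_eq_one]
  exact ⟨fun h => by simpa using congrFun h 0, fun h => by rw [h]; ext i; fin_cases i <;> rfl⟩

/-- `V1 ∩ V2` is the fixed line. -/
theorem mem_Z_iff {v : G} (hv : v ∈ V1) : v ∈ V2 ↔ P.m1.co v 1 = 0 := by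
  obtain ⟨b, hb, hρ⟩ := P.exists_b 1
  constructor
  · intro hv2
    simpa using (P.commute_iff_fix _ hρ hv).mp (P.m2.mul_comm_V hb hv2)
  · intro h
    have hw := P.m1.vec_mem ![0, P.m1.co v 0]
    have := P.conj_up _ hρ hw
    rw [P.m1.co_vec, show (![1 * (![0, P.m1.co v 0] : Fin 2 → F) 1, 0] : Fin 2 → F) = P.m1.co v by
      ext i; fin_cases i <;> simp [h], P.m1.vec_co hv] at this
    rw [← this, mul_assoc, mul_assoc, ← mul_assoc (P.m1.vec _)]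
    exact mul_mem hb (P.m2.conj_mem (P.m2.Jle (P.V1_le_J hw)) (inv_mem hb))

theorem vec_mem_Z (z : F) : P.m1.vec ![z, 0] ∈ V2 :=
  (P.mem_Z_iff (P.m1.vec_mem _)).mpr (by rw [P.m1.co_vec]; rfl)

theorem Z_eq_vec {v : G} (hv : v ∈ V1) (hv2 : v ∈ V2) : v = P.m1.vec ![P.m1.co v 0, 0] := by
  conv_lhs => rw [← P.m1.vec_co hv]
  congr 1
  ext i; fin_cases i <;> simp [(P.mem_Z_iff hv).mp hv2]

theorem mem_V1_iff_up {b : G} (hb : b ∈ L1) {t : F} (ht : P.m1.ρ ⟨b, hb⟩ = up t) : b ∈ V1 ↔ t = 0 := by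
  rw [show b ∈ V1 ↔ P.m1.ρ ⟨b, hb⟩ = 1 from (P.m1.ker ⟨b, hb⟩).symm, ht, ← up_zero]
  exact ⟨up_inj, fun h => h ▸ rfl⟩

/-- An element of `J` outside `V1` moves every vector outside `Z`. -/
theorem not_commute {a b : G} (ha : a ∈ V1) (ha2 : a ∉ V2) (hb : b ∈ J) (hb1 : b ∉ V1) : ¬ Commute b a := by
  obtain ⟨t, ht⟩ := P.exists_up hb
  rw [P.commute_iff_fix _ ht ha]
  exact mul_ne_zero (fun h => hb1 ((P.mem_V1_iff_up _ ht).mpr h)) fun h => ha2 ((P.mem_Z_iff ha).mpr h)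

theorem Z_central {z x : G} (h1 : z ∈ V1) (h2 : z ∈ V2) (hx : x ∈ J) : Commute z x := by
  obtain ⟨a, ha, b, hb, rfl⟩ := P.exists_mul hx
  exact Commute.mul_right (P.m1.mul_comm_V h1 ha) (P.m2.mul_comm_V h2 hb)

theorem exists_V1_not_V2 : ∃ a ∈ V1, a ∉ V2 :=
  ⟨P.m1.vec ![0, 1], P.m1.vec_mem _, fun h => by
    simpa [P.m1.co_vec] using (P.mem_Z_iff (P.m1.vec_mem _)).mp h⟩

theorem centralizes_V1 {x : G} (hx : x ∈ J) (h : ∀ a ∈ V1, Commute x a) : x ∈ V1 := by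
  obtain ⟨a, ha, ha2⟩ := P.exists_V1_not_V2
  by_contra hx1
  exact P.not_commute ha ha2 hx hx1 (h a ha)

/-- An involution of `J` lies in `V1` or in `V2`. -/
theorem mem_or_mem {x : G} (hx : x ∈ J) (h2 : x * x = 1) : x ∈ V1 ∨ x ∈ V2 := by
  obtain ⟨a, ha, b, hb, rfl⟩ := P.exists_mul hx
  have hc : Commute b a := by
    show b * a = a * b
    calc b * a = b⁻¹ * a⁻¹ := by rw [P.m2.inv_eq hb, P.m1.inv_eq ha]
      _ = (a * b)⁻¹ := (_root_.mul_inv_rev a b).symm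
      _ = a * b := inv_eq_of_mul_eq_one_left h2
  by_cases ha2 : a ∈ V2
  · exact Or.inr (mul_mem ha2 hb)
  by_cases hb1 : b ∈ V1
  · exact Or.inl (mul_mem ha hb1)
  exact absurd hc (P.not_commute ha ha2 (P.V2_le_J hb) hb1)

/-- A subgroup of involutions of `J` lies in `V1` or in `V2`. -/
theorem le_or_le {E : Subgroup G} (hE : E ≤ J) (h2 : ∀ x ∈ E, x * x = 1) : E ≤ V1 ∨ E ≤ V2 := by
  by_contra h
  push Not at h
  obtain ⟨⟨x, hx, hx1⟩, ⟨y, hy, hy2⟩⟩ := And.intro (SetLike.not_le_iff_exists.mp h.1) (SetLike.not_le_iff_exists.mp h.2)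
  have hx2 := (P.mem_or_mem (hE hx) (h2 x hx)).resolve_left hx1
  have hy1 := (P.mem_or_mem (hE hy) (h2 y hy)).resolve_right hy2
  rcases P.mem_or_mem (hE (mul_mem hx hy)) (h2 _ (mul_mem hx hy)) with hm | hm
  · exact hx1 (by simpa using mul_mem hm (inv_mem hy1))
  · exact hy2 (by simpa using mul_mem (inv_mem hx2) hm)

theorem card_V1 : Nat.card V1 = Nat.card F * Nat.card F := P.m1.card_V

theorem card_Z : Nat.card (V1 ⊓ V2 : Subgroup G) = Nat.card F := by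
  refine (Nat.card_congr (Equiv.ofBijective
    (fun t : F => (⟨P.m1.vec ![t, 0], P.m1.vec_mem _, P.vec_mem_Z t⟩ : (V1 ⊓ V2 : Subgroup G))) ⟨?_, ?_⟩)).symm
  · intro s t h
    have h' : P.m1.vec ![s, 0] = P.m1.vec ![t, 0] := congrArg (fun x : (V1 ⊓ V2 : Subgroup G) => (x : G)) h
    simpa using congrFun (P.m1.vec_inj h') 0
  · rintro ⟨v, h1, h2⟩
    exact ⟨P.m1.co v 0, Subtype.ext (P.Z_eq_vec h1 h2).symm⟩

theorem card_J : Nat.card J = Nat.card F * (Nat.card F * Nat.card F) := by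
  choose b hb hρ using P.exists_b
  rw [← P.card_V1, ← Nat.card_prod]
  refine (Nat.card_congr (Equiv.ofBijective
    (fun p : F × V1 => (⟨b p.1 * p.2, mul_mem (P.V2_le_J (hb p.1)) (P.V1_le_J p.2.2)⟩ : J)) ⟨?_, ?_⟩)).symm
  · rintro ⟨s, v⟩ ⟨t, w⟩ h
    have h' : b s * v = b t * w := congrArg Subtype.val h
    have he : (⟨b s, P.V2_le_L1 (hb s)⟩ * ⟨v, P.m1.le v.2⟩ : L1) = ⟨b t, P.V2_le_L1 (hb t)⟩ * ⟨w, P.m1.le w.2⟩ :=
      Subtype.ext h'
    have := congrArg P.m1.ρ he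
    rw [map_mul, map_mul, (P.m1.ker ⟨v, P.m1.le v.2⟩).mpr v.2, (P.m1.ker ⟨w, P.m1.le w.2⟩).mpr w.2,
      mul_one, mul_one, hρ, hρ] at this
    obtain rfl := up_inj this
    obtain rfl : v = w := Subtype.ext (mul_left_cancel h')
    rfl
  · rintro ⟨x, hx⟩
    obtain ⟨t, ht⟩ := P.exists_up hx
    have hv : (b t)⁻¹ * x ∈ V1 := P.m1.mem_of_ρ_eq (l := ⟨b t, P.V2_le_L1 (hb t)⟩) (m := ⟨x, P.m1.Jle hx⟩)
      (by rw [hρ, ht])
    exact ⟨(t, ⟨_, hv⟩), Subtype.ext (mul_inv_cancel_left (b t) x)⟩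

theorem J_pGroup : IsPGroup 2 J :=
  IsPGroup.of_card (n := P.e + (P.e + P.e)) (by rw [P.card_J, P.hF, ← pow_add, ← pow_add])

theorem J_ne_bot : J ≠ ⊥ := fun h => by
  obtain ⟨a, ha, ha2⟩ := P.exists_V1_not_V2
  have := h ▸ P.V1_le_J ha
  exact ha2 (Subgroup.mem_bot.mp this ▸ one_mem _)

theorem V1_pGroup : IsPGroup 2 V1 := P.J_pGroup.to_le P.V1_le_J

theorem V1_ne_bot : V1 ≠ ⊥ := fun h => by
  obtain ⟨a, ha, ha2⟩ := P.exists_V1_not_V2
  exact ha2 (Subgroup.mem_bot.mp (h ▸ ha) ▸ one_mem _)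

end Pair

end Cfsg.Agent.Invol.NatPair
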