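import Cfsg.Agent.Lib.Invol.NatPair.Semi

/-!
# The field of four elements: sectional 2-rank at most four

A 2-subgroup of `N(J)` is `J ∩ H` extended by at most a field involution and an interchange of the modules.
-/

set_option autoImplicit false
set_option linter.unusedSectionVars false
set_option linter.style.haveILetI false

namespace Cfsg.Agent.Invol.NatPair

open Matrix Cfsg.Agent.Grp.SL2

universe u v

variable {G : Type u} [Group G] [Finite G] {F : Type v} [Field F] [Finite F] [CharP F 2]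

namespace Pair

variable {L1 L2 V1 V2 J T : Subgroup G} (P : Pair L1 L2 V1 V2 J T F)

/-- The parameter of an element of `J` modulo `V1`. -/
noncomputable def par (x : J) : F :=
  ((P.m1.ρ ⟨x, P.m1.Jle x.2⟩ : Matrix.SpecialLinearGroup (Fin 2) F) : Matrix (Fin 2) (Fin 2) F) 0 1

include P

theorem ρ_par (x : J) : P.m1.ρ ⟨x, P.m1.Jle x.2⟩ = up (P.par x) := by
  obtain ⟨t, ht⟩ := P.exists_up x.2
  rw [ht]
  congr 1
  rw [par, ht]
  simp [up]

theorem par_mul (x y : J) : P.par (x * y) = P.par x + P.par y := up_inj (by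
  rw [← ρ_par, ← up_mul, ← ρ_par, ← ρ_par, ← map_mul]; rfl)

theorem par_eq_zero {x : J} : P.par x = 0 ↔ (x : G) ∈ V1 := (P.mem_V1_iff_up _ (P.ρ_par x)).symm

theorem par_one : P.par 1 = 0 := P.par_eq_zero.mpr (one_mem _)

/-- The image of `J` in `J/Z`. -/
noncomputable def pi : J →* Multiplicative (F × F) where
  toFun x := Multiplicative.ofAdd (P.par x, P.swap.par x)
  map_one' := by rw [P.par_one, P.swap.par_one]; rfl
  map_mul' x y := by rw [P.par_mul, P.swap.par_mul]; rfl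

theorem pi_eq {x y : J} : P.pi x = P.pi y ↔ P.par x = P.par y ∧ P.swap.par x = P.swap.par y :=
  Multiplicative.ofAdd.injective.eq_iff.trans Prod.mk_inj

theorem pi_eq_one {x : J} : P.pi x = 1 ↔ (x : G) ∈ V1 ∧ (x : G) ∈ V2 := by
  rw [← map_one P.pi, P.pi_eq, P.par_one, P.swap.par_one, P.par_eq_zero, P.swap.par_eq_zero]

/-- The image of a subgroup in `J/Z`. -/
noncomputable def img (X : Subgroup G) : Subgroup (Multiplicative (F × F)) := (X.subgroupOf J).map P.pi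

theorem card_split {X : Subgroup G} (hX : X ≤ J) :
    Nat.card X = Nat.card (P.img X) * Nat.card (X ⊓ (V1 ⊓ V2) : Subgroup G) := by
  rw [← Nat.card_congr (Subgroup.subgroupOfEquivOfLe hX).toEquiv]
  let f := P.pi.comp (X.subgroupOf J).subtype
  have h1 : f.range = P.img X := by rw [MonoidHom.range_comp, Subgroup.range_subtype]; rfl
  rw [← f.ker.card_mul_index, Subgroup.index_ker, h1, mul_comm]
  congr 1
  refine Nat.card_congr ⟨fun x => ⟨((x.1 : J) : G), x.1.2, P.pi_eq_one.mp x.2⟩,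
    fun x => ⟨⟨⟨x.1, hX x.2.1⟩, x.2.1⟩, P.pi_eq_one.mpr x.2.2⟩, fun _ => rfl, fun _ => rfl⟩

theorem card_img_le (X : Subgroup G) : Nat.card (P.img X) ≤ Nat.card F * Nat.card F := by
  refine (Subgroup.card_le_card_group (P.img X)).trans (le_of_eq ?_)
  rw [Nat.card_congr (Multiplicative.toAdd (α := F × F)), Nat.card_prod]

theorem conj_mem_J' {h : G} (hh : h ∈ Subgroup.normalizer (J : Set G)) (x : J) : h * (x : G) * h⁻¹ ∈ J :=
  (Subgroup.mem_normalizer_iff.mp hh x).mp x.2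

theorem par_conj_both {h : G} (hh : h ∈ both V1 V2) (x : J) :
    P.par ⟨_, P.conj_mem_J' (P.both_le_normalizer_J hh) x⟩ = P.m1.σ h (P.par x) * P.alpha h / P.delta h :=
  up_inj (by rw [← P.ρ_par]; exact P.conj_up_param hh x.2 (P.ρ_par x) _)

theorem fixed_par_le {h : G} (hh : h ∈ both V1 V2) (hJ : h ∉ J) {k : ℕ} (hk : h ^ 2 ^ k = 1)
    (hq : Nat.card F = 4) {S : Set F} (hS : ∀ t ∈ S, P.m1.σ h t * P.alpha h / P.delta h = t) :
    S.ncard ≤ 2 := by
  obtain ⟨c, hc⟩ := P.exists_moved hh hJ hk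
  let f : F →+ F :=
    { toFun := fun t => P.m1.σ h t * P.alpha h / P.delta h
      map_zero' := by simp [P.σ_zero hh]
      map_add' := fun a b => by rw [P.m1.σ_add hh.1 (P.nL1 hh.1), add_mul, add_div] }
  have hf := fixed_sq_le_card f (P.m1.σ h)
    (fun a x => by
      show P.m1.σ h (a * x) * _ / _ = P.m1.σ h a * (P.m1.σ h x * _ / _)
      rw [P.m1.σ_mul hh.1 (P.nL1 hh.1)]; ring) hc
  have hle : S.ncard ≤ Nat.card {t // f t = t} := by
    rw [← Nat.card_coe_set_eq]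
    exact Nat.card_le_card_of_injective (fun t : S => (⟨t, hS t t.2⟩ : {t // f t = t}))
      fun a b e => Subtype.ext (congrArg Subtype.val e :)
  rw [hq] at hf
  nlinarith

/-- The points of `X` fixed modulo `Z` by `h`. -/
noncomputable def fixImg (X : Subgroup G) (hX : X ≤ J) (h : G) (hh : h ∈ Subgroup.normalizer (J : Set G)) :
    Set (Multiplicative (F × F)) :=
  {p | ∃ x : X, P.pi ⟨x, hX x.2⟩ = p ∧ P.pi ⟨h * x * h⁻¹, P.conj_mem_J' hh ⟨x, hX x.2⟩⟩ = p}

theorem card_img_le_mul {X Y : Subgroup G} (hX : X ≤ J) {h : G} (hh : h ∈ Subgroup.normalizer (J : Set G))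
    (hY : ∀ x ∈ X, h * x * h⁻¹ * x⁻¹ ∈ Y) :
    Nat.card (P.img X) ≤ Nat.card (P.img Y) * (P.fixImg X hX h hh).ncard := by
  classical
  let g : X.subgroupOf J →* Multiplicative (F × F) :=
    { toFun := fun x => P.pi ⟨_, P.conj_mem_J' hh x.1⟩ * (P.pi x.1)⁻¹
      map_one' := by simp only [Subgroup.coe_one, mul_one, mul_inv_cancel, map_one, inv_one]; exact map_one _
      map_mul' := fun x y => by
        rw [show (⟨h * (((x * y : X.subgroupOf J) : J) : G) * h⁻¹, P.conj_mem_J' hh _⟩ : J) =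
          ⟨_, P.conj_mem_J' hh x.1⟩ * ⟨_, P.conj_mem_J' hh y.1⟩ from Subtype.ext (by simp [mul_assoc]),
          map_mul, Subgroup.coe_mul, map_mul, _root_.mul_inv_rev]
        simp only [mul_comm, mul_left_comm, mul_assoc] }
  have hmem : ∀ x, g x ∈ P.img Y := fun x => by
    refine ⟨⟨h * (x.1 : G) * h⁻¹, P.conj_mem_J' hh x.1⟩ * x.1⁻¹, hY _ x.2, ?_⟩
    rw [map_mul, map_inv]; rfl
  let π' : X.subgroupOf J →* Multiplicative (F × F) := P.pi.comp (X.subgroupOf J).subtype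
  have hπ : π'.range = P.img X := by rw [MonoidHom.range_comp, Subgroup.range_subtype]; rfl
  let gh : X.subgroupOf J →* Multiplicative (F × F) × Multiplicative (F × F) := π'.prod g
  have h1 : Nat.card (P.img X) ≤ Nat.card gh.range := by
    rw [← hπ]
    refine Nat.card_le_card_of_surjective
      (fun p : gh.range => (⟨p.1.1, by obtain ⟨x, hx⟩ := p.2; exact ⟨x, congrArg Prod.fst hx⟩⟩ : π'.range)) ?_
    rintro ⟨_, x, rfl⟩
    exact ⟨⟨gh x, x, rfl⟩, rfl⟩
  let s : gh.range →* P.img Y :=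
    { toFun := fun p => ⟨p.1.2, by obtain ⟨x, hx⟩ := p.2; exact congrArg Prod.snd hx ▸ hmem x⟩
      map_one' := rfl
      map_mul' := fun _ _ => rfl }
  have h2 : Nat.card s.ker ≤ (P.fixImg X hX h hh).ncard := by
    rw [← Nat.card_coe_set_eq]
    refine Nat.card_le_card_of_injective (fun p : s.ker => (⟨p.1.1.1, ?_⟩ : P.fixImg X hX h hh)) ?_
    · obtain ⟨x, hx⟩ := p.1.2
      have hs : p.1.1.2 = 1 := congrArg Subtype.val p.2
      refine ⟨⟨_, x.2⟩, congrArg Prod.fst hx, ?_⟩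
      have hg : g x = 1 := (congrArg Prod.snd hx).trans hs
      exact (mul_inv_eq_one.mp hg).trans (congrArg Prod.fst hx)
    · intro a b e
      refine Subtype.ext (Subtype.ext (Prod.ext (congrArg Subtype.val e :) ?_))
      exact (congrArg Subtype.val a.2).trans (congrArg Subtype.val b.2).symm
  have h3 : s.ker.index ≤ Nat.card (P.img Y) := by rw [Subgroup.index_ker]; exact Subgroup.card_le_card_group _
  calc Nat.card (P.img X) ≤ Nat.card gh.range := h1
    _ = s.ker.index * Nat.card s.ker := (s.ker.index_mul_card).symm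
    _ ≤ _ := Nat.mul_le_mul h3 h2

theorem fixImg_swapper {X : Subgroup G} (hX : X ≤ J) {h : G} (hh : h ∈ Subgroup.normalizer (J : Set G))
    (hb : h ∉ both V1 V2) {p : Multiplicative (F × F)} (hp : p ∈ P.fixImg X hX h hh) :
    ((Multiplicative.toAdd p).1 = 0 → p = 1) ∧ ((Multiplicative.toAdd p).2 = 0 → p = 1) := by
  obtain ⟨x, rfl, hx⟩ := hp
  obtain ⟨e1, e2⟩ := P.pi_eq.mp hx
  constructor
  · intro h0
    have h1 : (x : G) ∈ V1 := P.par_eq_zero.mp h0
    have h2 : P.swap.par ⟨h * x * h⁻¹, P.conj_mem_J' hh ⟨x, hX x.2⟩⟩ = 0 :=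
      P.swap.par_eq_zero.mpr (P.conj_V1 hh hb h1)
    exact P.pi_eq_one.mpr ⟨h1, P.swap.par_eq_zero.mp (e2 ▸ h2)⟩
  · intro h0
    have h1 : (x : G) ∈ V2 := P.swap.par_eq_zero.mp h0
    have h2 : P.par ⟨h * x * h⁻¹, P.conj_mem_J' hh ⟨x, hX x.2⟩⟩ = 0 :=
      P.par_eq_zero.mpr (P.swap.conj_V1 hh (by rwa [P.both_swap]) h1)
    exact P.pi_eq_one.mpr ⟨P.par_eq_zero.mp (e1 ▸ h2), h1⟩

theorem fixImg_fixer {X : Subgroup G} (hX : X ≤ J) {h : G} (hh : h ∈ both V1 V2) (hJ : h ∉ J) {k : ℕ}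
    (hk : h ^ 2 ^ k = 1) (hq : Nat.card F = 4) :
    (P.fixImg X hX h (P.both_le_normalizer_J hh)).ncard ≤ 4 := by
  set S1 : Set F := {t | P.m1.σ h t * P.alpha h / P.delta h = t}
  set S2 : Set F := {t | P.swap.m1.σ h t * P.swap.alpha h / P.swap.delta h = t}
  have hh' : h ∈ both V2 V1 := P.both_swap.symm ▸ hh
  have hsub : P.fixImg X hX h (P.both_le_normalizer_J hh) ⊆ Multiplicative.toAdd ⁻¹' (S1 ×ˢ S2) := by
    rintro p ⟨x, rfl, hx⟩
    obtain ⟨e1, e2⟩ := P.pi_eq.mp hx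
    exact ⟨(P.par_conj_both hh ⟨x, hX x.2⟩).symm.trans e1,
      (P.swap.par_conj_both hh' ⟨x, hX x.2⟩).symm.trans e2⟩
  refine (Set.ncard_le_ncard hsub (Set.toFinite _)).trans ?_
  rw [Set.ncard_preimage_of_injective_subset_range Multiplicative.toAdd.injective (by simp), Set.ncard_prod]
  exact Nat.mul_le_mul (P.fixed_par_le hh hJ hk hq fun _ ht => ht)
    (P.swap.fixed_par_le hh' hJ hk hq fun _ ht => ht)

theorem fixImg_both {X : Subgroup G} (hX : X ≤ J) {h s : G} (hh : h ∈ both V1 V2) (hJ : h ∉ J) {k : ℕ}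
    (hk : h ^ 2 ^ k = 1) (hs : s ∈ Subgroup.normalizer (J : Set G)) (hsb : s ∉ both V1 V2)
    (hq : Nat.card F = 4) :
    (P.fixImg X hX h (P.both_le_normalizer_J hh) ∩ P.fixImg X hX s hs).ncard ≤ 2 := by
  set S1 : Set F := {t | P.m1.σ h t * P.alpha h / P.delta h = t}
  refine le_trans ?_ (P.fixed_par_le hh hJ hk hq (S := S1) fun _ ht => ht)
  refine Set.ncard_le_ncard_of_injOn (fun p => (Multiplicative.toAdd p).1) ?_ ?_ (Set.toFinite _)
  · rintro p ⟨⟨x, rfl, hx⟩, -⟩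
    exact (P.par_conj_both hh ⟨x, hX x.2⟩).symm.trans (P.pi_eq.mp hx).1
  · rintro p ⟨-, hp⟩ r ⟨-, hr⟩ (e : (Multiplicative.toAdd p).1 = (Multiplicative.toAdd r).1)
    obtain ⟨x, rfl, hx⟩ := hp
    obtain ⟨y, rfl, hy⟩ := hr
    have : P.pi ⟨(x * y⁻¹ : X), hX (x * y⁻¹).2⟩ ∈ P.fixImg X hX s hs := by
      refine ⟨x * y⁻¹, rfl, ?_⟩
      have e1 : (⟨s * ((x * y⁻¹ : X) : G) * s⁻¹, P.conj_mem_J' hs ⟨_, hX (x * y⁻¹).2⟩⟩ : J) =
          ⟨_, P.conj_mem_J' hs ⟨x, hX x.2⟩⟩ * (⟨_, P.conj_mem_J' hs ⟨y, hX y.2⟩⟩ : J)⁻¹ :=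
        Subtype.ext (by simp [mul_assoc])
      rw [e1, map_mul, map_inv, hx, hy,
        show (⟨((x * y⁻¹ : X) : G), hX (x * y⁻¹).2⟩ : J) = ⟨x, hX x.2⟩ * (⟨y, hX y.2⟩ : J)⁻¹ from rfl,
        map_mul, map_inv]
    have h0 := (P.fixImg_swapper hX hs hsb this).1 (by
      rw [show (⟨((x * y⁻¹ : X) : G), hX (x * y⁻¹).2⟩ : J) = ⟨x, hX x.2⟩ * (⟨y, hX y.2⟩ : J)⁻¹ from rfl,
        map_mul, map_inv, toAdd_mul, toAdd_inv, Prod.fst_add, Prod.fst_neg, e, add_neg_cancel])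
    rw [show (⟨((x * y⁻¹ : X) : G), hX (x * y⁻¹).2⟩ : J) = ⟨x, hX x.2⟩ * (⟨y, hX y.2⟩ : J)⁻¹ from rfl,
      map_mul, map_inv, mul_inv_eq_one] at h0
    exact h0

theorem σ_unique {a b : G} (ha : a ∈ both V1 V2) (hb : b ∈ both V1 V2) (hq : Nat.card F = 4) {c d : F}
    (hc : P.m1.σ a c ≠ c) (hd : P.m1.σ b d ≠ d) (x : F) : P.m1.σ a x = P.m1.σ b x := by
  classical
  haveI := Fintype.ofFinite F
  have hone : ∀ {n : G}, n ∈ both V1 V2 → ∀ {c : F}, P.m1.σ n c ≠ c →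
      ∀ x, x ≠ 0 → x ≠ 1 → P.m1.σ n x = x + 1 := by
    intro n hn c hc
    have hc0 : c ≠ 0 := fun h => hc (by rw [h, P.σ_zero hn])
    have hc1 : c ≠ 1 := fun h => hc (by rw [h, P.m1.σ_one hn.1 (P.nL1 hn.1)])
    have huniv : ({0, 1, c, c + 1} : Finset F) = Finset.univ := by
      refine Finset.eq_univ_of_card _ ?_
      rw [← Nat.card_eq_fintype_card, hq]
      rw [Finset.card_insert_of_notMem, Finset.card_insert_of_notMem, Finset.card_insert_of_notMem,
        Finset.card_singleton]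
      · simp
      · simp only [Finset.mem_insert, Finset.mem_singleton, not_or]
        exact ⟨hc1.symm, fun h => hc0 (by simpa using h.symm)⟩
      · simp only [Finset.mem_insert, Finset.mem_singleton, not_or]
        exact ⟨zero_ne_one, hc0.symm, fun h => hc1 (CharTwo.add_eq_zero.mp h.symm)⟩
    have hmem : ∀ y : F, y = 0 ∨ y = 1 ∨ y = c ∨ y = c + 1 := fun y => by
      simpa [← huniv] using Finset.mem_univ y
    have e : P.m1.σ n c = c + 1 := by
      rcases hmem (P.m1.σ n c) with h | h | h | h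
      · exact absurd (P.σ_inj hn (h.trans (P.σ_zero hn).symm)) hc0
      · exact absurd (P.σ_inj hn (h.trans (P.m1.σ_one hn.1 (P.nL1 hn.1)).symm)) hc1
      · exact absurd h hc
      · exact h
    intro x hx0 hx1
    rcases hmem x with rfl | rfl | rfl | rfl
    · exact absurd rfl hx0
    · exact absurd rfl hx1
    · exact e
    · rw [P.m1.σ_add hn.1 (P.nL1 hn.1), e, P.m1.σ_one hn.1 (P.nL1 hn.1)]
  by_cases hx0 : x = 0
  · rw [hx0, P.σ_zero ha, P.σ_zero hb]
  by_cases hx1 : x = 1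
  · rw [hx1, P.m1.σ_one ha.1 (P.nL1 ha.1), P.m1.σ_one hb.1 (P.nL1 hb.1)]
  rw [hone ha hc x hx0 hx1, hone hb hd x hx0 hx1]

theorem mul_mem_J_four {H : Subgroup G} (hH : IsPGroup 2 H) (hq : Nat.card F = 4) {a b : G}
    (ha : a ∈ H ⊓ both V1 V2) (hb : b ∈ H ⊓ both V1 V2) (haJ : a ∉ J) (hbJ : b ∉ J) : a⁻¹ * b ∈ J := by
  have hk : ∀ x ∈ H, ∃ k : ℕ, x ^ 2 ^ k = 1 := fun x hx => by
    obtain ⟨k, hk⟩ := hH ⟨x, hx⟩
    exact ⟨k, congrArg Subtype.val hk⟩
  obtain ⟨ka, hka⟩ := hk a ha.1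
  obtain ⟨kb, hkb⟩ := hk b hb.1
  obtain ⟨kab, hkab⟩ := hk _ (mul_mem (H.inv_mem ha.1) hb.1)
  obtain ⟨c, hc⟩ := P.exists_moved ha.2 haJ hka
  obtain ⟨d, hd⟩ := P.exists_moved hb.2 hbJ hkb
  have hai : a⁻¹ ∈ both V1 V2 := (both V1 V2).inv_mem ha.2
  refine P.mem_J_of_lin (mul_mem hai hb.2) (fun x => ?_) hkab
  rw [P.m1.σ_comp hai.1 (P.nL1 hai.1) hb.2.1 (P.nL1 hb.2.1),
    ← P.σ_unique ha.2 hb.2 hq hc hd, ← P.m1.σ_comp hai.1 (P.nL1 hai.1) ha.2.1 (P.nL1 ha.2.1),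
    inv_mul_cancel, P.m1.σ_unit]

theorem Z_le_of_large {K N : Subgroup G} (hK : K ≤ J) (hN : ∀ x ∈ K, ∀ y ∈ K, x * y * x⁻¹ * y⁻¹ ∈ N)
    (hbig : Nat.card F * 2 ≤ Nat.card (P.img K)) (hq : Nat.card F = 4) : V1 ⊓ V2 ≤ N := by
  have hnotinj : ∃ a ∈ K, a ∈ V1 ∧ a ∉ V2 := by
    by_contra h
    push Not at h
    have : Nat.card (P.img K) ≤ Nat.card F := by
      refine Nat.card_le_card_of_injective (fun p : P.img K => (Multiplicative.toAdd p.1).1) ?_
      rintro ⟨_, x, hx, rfl⟩ ⟨_, y, hy, rfl⟩ (e : P.par x = P.par y)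
      refine Subtype.ext (mul_inv_eq_one.mp ?_)
      rw [← map_inv, ← map_mul]
      have h1 : P.par (x * y⁻¹) = 0 := by
        have e1 := P.par_mul (x * y⁻¹) y
        rw [inv_mul_cancel_right, e] at e1
        simpa using e1.symm
      have hv := P.par_eq_zero.mp h1
      exact P.pi_eq_one.mpr ⟨hv, h _ (mul_mem hx (inv_mem hy)) hv⟩
    have := P.four_le_q
    omega
  intro z hz
  obtain ⟨t0, hzt⟩ : ∃ t, z = P.m1.vec ![t, 0] := ⟨_, P.Z_eq_vec hz.1 hz.2⟩
  suffices ∃ b ∈ K, ∃ a ∈ K, a ∈ V1 ∧ ∃ hb : b ∈ J, P.par ⟨b, hb⟩ * P.m1.co a 1 = t0 by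
    obtain ⟨b, hb, a, ha, ha1, hbJ, e⟩ := this
    have := P.conj_up _ (P.ρ_par ⟨b, hbJ⟩) ha1
    rw [e] at this
    rw [hzt, ← this]
    exact hN b hb a ha
  obtain ⟨a, haK, ha1, ha2⟩ := hnotinj
  have hco : P.m1.co a 1 ≠ 0 := fun h => ha2 ((P.mem_Z_iff ha1).mpr h)
  by_cases hsurj : ∀ t : F, ∃ x : J, (x : G) ∈ K ∧ P.par x = t
  · obtain ⟨x, hx, e⟩ := hsurj (t0 / P.m1.co a 1)
    exact ⟨x, hx, a, haK, ha1, x.2, by rw [Subtype.coe_eta, e, div_mul_cancel₀ _ hco]⟩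
  push Not at hsurj
  obtain ⟨t, ht⟩ := hsurj
  have hA : ∀ s : F, ∃ a' ∈ K, a' ∈ V1 ∧ P.m1.co a' 1 = s := by
    classical
    let S : Set F := {u | ∃ a' ∈ K, a' ∈ V1 ∧ P.m1.co a' 1 = u}
    let T' : Set F := {u | ∃ x : J, (x : G) ∈ K ∧ P.par x = u}
    let f : K →* Multiplicative F :=
      { toFun := fun x => Multiplicative.ofAdd (P.par ⟨x, hK x.2⟩)
        map_one' := congrArg Multiplicative.ofAdd P.par_one
        map_mul' := fun x y => congrArg Multiplicative.ofAdd (P.par_mul ⟨x, hK x.2⟩ ⟨y, hK y.2⟩) }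
    have hr : Nat.card f.range ≤ 2 := by
      have hlt : Nat.card f.range < Nat.card (Multiplicative F) := by
        refine lt_of_le_of_ne (Subgroup.card_le_card_group _) fun e => ?_
        have : (Multiplicative.ofAdd t) ∈ f.range := Subgroup.eq_top_of_card_eq _ e ▸ Subgroup.mem_top _
        obtain ⟨x, hx⟩ := this
        exact ht ⟨x, hK x.2⟩ x.2 (Multiplicative.ofAdd.injective hx)
      obtain ⟨k, hk⟩ := Subgroup.card_subgroup_dvd_card f.range
      rw [Nat.card_congr (Multiplicative.toAdd (α := F)), hq] at hk hlt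
      interval_cases hn : Nat.card f.range <;> omega
    intro s
    by_contra hs
    have hS : S.ncard ≤ 3 := by
      have : S ⊆ Set.univ \ {s} := fun u hu => ⟨trivial, fun e => hs (e ▸ hu)⟩
      refine (Set.ncard_le_ncard this (Set.toFinite _)).trans ?_
      rw [Set.ncard_sdiff (by simp), Set.ncard_univ, Set.ncard_singleton, hq]
    have hker : Nat.card (f.ker.map (P.pi.comp (Subgroup.inclusion hK))) ≤ 3 := by
      refine le_trans ?_ (hS.trans le_rfl)
      rw [← Nat.card_coe_set_eq]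
      refine Nat.card_le_card_of_injective
        (fun p : f.ker.map (P.pi.comp (Subgroup.inclusion hK)) =>
          (⟨P.m1.co ((Classical.choose p.2 : K) : G) 1, _, (Classical.choose p.2).2,
            P.par_eq_zero.mp (Multiplicative.ofAdd.injective (Classical.choose_spec p.2).1), rfl⟩ : S)) ?_
      intro p p' e
      have e' : P.m1.co ((Classical.choose p.2 : K) : G) 1 = P.m1.co ((Classical.choose p'.2 : K) : G) 1 :=
        congrArg Subtype.val e
      have hp := Classical.choose_spec p.2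
      have hp' := Classical.choose_spec p'.2
      set x := Classical.choose p.2
      set y := Classical.choose p'.2
      refine Subtype.ext ?_
      rw [← hp.2, ← hp'.2]
      refine mul_inv_eq_one.mp ?_
      rw [← map_inv, ← map_mul]
      have hx1 : (x : G) ∈ V1 := P.par_eq_zero.mp (Multiplicative.ofAdd.injective hp.1)
      have hy1 : (y : G) ∈ V1 := P.par_eq_zero.mp (Multiplicative.ofAdd.injective hp'.1)
      refine P.pi_eq_one.mpr ⟨mul_mem hx1 (inv_mem hy1), (P.mem_Z_iff (mul_mem hx1 (inv_mem hy1))).mpr ?_⟩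
      rw [P.m1.inv_eq hy1, P.m1.co_mul hx1 hy1, Pi.add_apply, e', CharTwo.add_self_eq_zero]
    have himg : Nat.card (P.img K) ≤ Nat.card f.range * Nat.card (f.ker.map (P.pi.comp (Subgroup.inclusion hK))) := by
      let φ := P.pi.comp (Subgroup.inclusion hK)
      have hφ : φ.range = P.img K := by
        rw [MonoidHom.range_comp, Subgroup.inclusion_range]; rfl
      rw [← hφ, ← Subgroup.index_ker f]
      have h1 : Nat.card φ.range = Nat.card (f.ker.map φ) * (f.ker.map φ).relIndex φ.range := by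
        have := Subgroup.relIndex_mul_relIndex (⊥ : Subgroup (Multiplicative (F × F))) (f.ker.map φ) φ.range bot_le
          (by rw [MonoidHom.range_eq_map]; exact Subgroup.map_mono le_top)
        rw [Subgroup.relIndex_bot_left, Subgroup.relIndex_bot_left] at this
        exact this.symm
      rw [h1, mul_comm]
      refine Nat.mul_le_mul_right _ ?_
      rw [MonoidHom.range_eq_map]
      rw [Subgroup.relIndex_map_map, top_sup_eq, Subgroup.relIndex_top_right]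
      exact Nat.le_of_dvd (Nat.pos_of_ne_zero Subgroup.index_ne_zero_of_finite)
        (Subgroup.index_dvd_of_le le_sup_left)
    have := Nat.mul_le_mul hr hker
    omega
  have hb : ∃ x : J, (x : G) ∈ K ∧ P.par x ≠ 0 := by
    by_contra h
    push Not at h
    have : Nat.card (P.img K) ≤ Nat.card F := by
      refine Nat.card_le_card_of_injective (fun p : P.img K => (Multiplicative.toAdd p.1).2) ?_
      rintro ⟨_, x, hx, rfl⟩ ⟨_, y, hy, rfl⟩ (e : P.swap.par x = P.swap.par y)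
      exact Subtype.ext (P.pi_eq.mpr ⟨(h x hx).trans (h y hy).symm, e⟩)
    omega
  obtain ⟨x, hx, hxne⟩ := hb
  obtain ⟨a', ha', ha'1, e⟩ := hA (t0 / P.par x)
  exact ⟨x, hx, a', ha', ha'1, x.2, by rw [Subtype.coe_eta, e, mul_div_cancel₀ _ hxne]⟩

theorem two_pow_of_dvd {n : ℕ} (h : n ∣ 2 ^ 4) : n = 1 ∨ n = 2 ∨ n = 4 ∨ n = 8 ∨ n = 16 := by
  obtain ⟨i, hi, rfl⟩ := (Nat.dvd_prime_pow Nat.prime_two).mp h
  interval_cases i <;> simp

set_option maxHeartbeats 800000 in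
/-- A 2-subgroup of `N(J)` has no elementary abelian quotient of order above `16`. -/
theorem card_le_sixteen_mul (hq : Nat.card F = 4) {H N : Subgroup G} (hH : IsPGroup 2 H)
    (hHJ : H ≤ Subgroup.normalizer (J : Set G)) (hNH : N ≤ H)
    (hsq : ∀ x ∈ H, x * x ∈ N) : Nat.card H ≤ 16 * Nat.card N := by
  classical
  have hcom : ∀ x ∈ H, ∀ y ∈ H, x * y * x⁻¹ * y⁻¹ ∈ N := fun x hx y hy => by
    rw [show x * y * x⁻¹ * y⁻¹ = x * x * ((x⁻¹ * y) * (x⁻¹ * y)) * (y * y)⁻¹ by group]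
    exact mul_mem (mul_mem (hsq x hx) (hsq _ (mul_mem (inv_mem hx) hy))) (inv_mem (hsq y hy))
  set Hb := H ⊓ both V1 V2 with hHb
  set K := H ⊓ J with hKdef
  set M := N ⊓ J with hMdef
  have hKJ : K ≤ J := inf_le_right
  have hMK : M ≤ K := inf_le_inf_right _ hNH
  have s1 : Nat.card H ≤ 2 * Nat.card Hb := card_le_two_mul H _ fun a ha b hb ha' hb' =>
    P.mul_mem_both (inv_mem (hHJ ha)) (hHJ hb) (fun h => ha' ((Subgroup.inv_mem_iff _).mp h)) hb'
  have s2 : Nat.card Hb ≤ 2 * Nat.card K := by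
    have := card_le_two_mul Hb J fun a ha b hb ha' hb' => P.mul_mem_J_four hH hq ha hb ha' hb'
    rwa [hHb, inf_assoc, inf_eq_right.mpr P.J_le_both] at this
  have hKsplit := P.card_split hKJ
  have hMsplit := P.card_split (X := M) inf_le_right
  have hMN : Nat.card M ≤ Nat.card N := Subgroup.card_le_of_le inf_le_left
  have hz : Nat.card (K ⊓ (V1 ⊓ V2) : Subgroup G) ≤ 4 := by
    rw [← hq, ← P.card_Z]; exact Subgroup.card_le_of_le inf_le_right
  have hMpos : 0 < Nat.card (P.img M) ∧ 0 < Nat.card (M ⊓ (V1 ⊓ V2) : Subgroup G) := ⟨Nat.card_pos, Nat.card_pos⟩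
  have hP : Nat.card (P.img K) = 1 ∨ Nat.card (P.img K) = 2 ∨ Nat.card (P.img K) = 4 ∨ Nat.card (P.img K) = 8 ∨
      Nat.card (P.img K) = 16 := by
    refine P.two_pow_of_dvd ?_
    have := Subgroup.card_subgroup_dvd_card (P.img K)
    rwa [Nat.card_congr (Multiplicative.toAdd (α := F × F)), Nat.card_prod, hq] at this
  have hk : ∀ x ∈ H, ∃ k : ℕ, x ^ 2 ^ k = 1 := fun x hx => by
    obtain ⟨k, hk⟩ := hH ⟨x, hx⟩
    exact ⟨k, congrArg Subtype.val hk⟩
  have hYmem : ∀ h ∈ H, ∀ x ∈ K, h * x * h⁻¹ * x⁻¹ ∈ M := fun h hh x hx =>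
    ⟨hcom h hh x hx.1, mul_mem ((Subgroup.mem_normalizer_iff.mp (hHJ hh) x).mp hx.2) (J.inv_mem hx.2)⟩
  have hZbig : 8 ≤ Nat.card (P.img K) → 4 ≤ Nat.card (M ⊓ (V1 ⊓ V2) : Subgroup G) := fun h8 => by
    have hZ : V1 ⊓ V2 ≤ N := P.Z_le_of_large hKJ (fun x hx y hy => hcom x hx.1 y hy.1) (by omega) hq
    rw [← hq, ← P.card_Z]
    exact Subgroup.card_le_of_le (le_inf (le_inf hZ (inf_le_left.trans P.V1_le_J)) le_rfl)
  -- a field involution in `H`
  have hfix : ∀ f ∈ Hb, f ∉ J → Nat.card (K ⊓ (V1 ⊓ V2) : Subgroup G) = 4 →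
      2 ≤ Nat.card (M ⊓ (V1 ⊓ V2) : Subgroup G) := by
    intro f hf hfJ hz4
    obtain ⟨k, hk⟩ := hk f hf.1
    obtain ⟨z, hz, hzc⟩ := P.exists_moved_Z hf.2 hfJ hk
    have hZK : V1 ⊓ V2 ≤ K := by
      have : K ⊓ (V1 ⊓ V2) = V1 ⊓ V2 :=
        Subgroup.eq_of_le_of_card_ge inf_le_right (by rw [P.card_Z, hq, hz4])
      exact this ▸ inf_le_left
    have hm : f * z * f⁻¹ * z⁻¹ ∈ M ⊓ (V1 ⊓ V2) :=
      ⟨hYmem f hf.1 z (hZK hz), mul_mem ((Subgroup.mem_normalizer_iff.mp hf.2.1 z).mp hz.1) (V1.inv_mem hz.1),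
        mul_mem ((Subgroup.mem_normalizer_iff.mp hf.2.2 z).mp hz.2) (V2.inv_mem hz.2)⟩
    haveI : Nontrivial (M ⊓ (V1 ⊓ V2) : Subgroup G) := ⟨⟨⟨_, hm⟩, 1, fun e => hzc (by
      have e' : f * z * f⁻¹ * z⁻¹ = 1 := congrArg Subtype.val e
      exact mul_inv_eq_iff_eq_mul.mp (mul_inv_eq_one.mp e'))⟩⟩
    exact Finite.one_lt_card
  have fin : ∀ c p z0 i0 w0 : ℕ, Nat.card H ≤ c * Nat.card K → Nat.card (P.img K) = p →
      Nat.card (K ⊓ (V1 ⊓ V2) : Subgroup G) ≤ z0 → i0 ≤ Nat.card (P.img M) →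
      w0 ≤ Nat.card (M ⊓ (V1 ⊓ V2) : Subgroup G) → c * (p * z0) ≤ 16 * (i0 * w0) →
      Nat.card H ≤ 16 * Nat.card N := by
    intro c p z0 i0 w0 hc hp hz0 hi hw harith
    calc Nat.card H ≤ c * Nat.card K := hc
      _ ≤ c * (p * z0) := by rw [hKsplit, hp]; exact Nat.mul_le_mul_left _ (Nat.mul_le_mul_left _ hz0)
      _ ≤ 16 * (i0 * w0) := harith
      _ ≤ 16 * Nat.card M := by rw [hMsplit]; exact Nat.mul_le_mul_left _ (Nat.mul_le_mul hi hw)
      _ ≤ 16 * Nat.card N := Nat.mul_le_mul_left _ hMN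
  have h1i : 1 ≤ Nat.card (P.img M) := hMpos.1
  have h1w : 1 ≤ Nat.card (M ⊓ (V1 ⊓ V2) : Subgroup G) := hMpos.2
  by_cases hb1 : Hb ≤ J
  · have hbK : Nat.card Hb ≤ Nat.card K := Subgroup.card_le_of_le (le_inf inf_le_left hb1)
    by_cases hsw : H ≤ both V1 V2
    · have hle : Nat.card H ≤ Nat.card K :=
        (Subgroup.card_le_of_le (le_inf le_rfl hsw)).trans hbK
      have hle1 : Nat.card H ≤ 1 * Nat.card K := by omega
      rcases hP with e | e | e | e | e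
      · exact fin 1 1 4 1 1 hle1 e hz h1i h1w (by norm_num)
      · exact fin 1 2 4 1 1 hle1 e hz h1i h1w (by norm_num)
      · exact fin 1 4 4 1 1 hle1 e hz h1i h1w (by norm_num)
      · exact fin 1 8 4 1 4 hle1 e hz h1i (hZbig (by omega)) (by norm_num)
      · exact fin 1 16 4 1 4 hle1 e hz h1i (hZbig (by omega)) (by norm_num)
    obtain ⟨s, hs, hsb⟩ := SetLike.not_le_iff_exists.mp hsw
    have hle : Nat.card H ≤ 2 * Nat.card K := s1.trans (Nat.mul_le_mul_left 2 hbK)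
    have himg := P.card_img_le_mul hKJ (hHJ hs) (hYmem s hs)
    have hfx : (P.fixImg K hKJ s (hHJ hs)).ncard ≤ 4 := by
      rw [← hq, ← Nat.card_coe_set_eq]
      refine Nat.card_le_card_of_injective
        (fun p : P.fixImg K hKJ s (hHJ hs) => (Multiplicative.toAdd p.1).1) ?_
      rintro ⟨p, hp⟩ ⟨r, hr⟩ (e : (Multiplicative.toAdd p).1 = (Multiplicative.toAdd r).1)
      obtain ⟨x, rfl, hx⟩ := hp
      obtain ⟨y, rfl, hy⟩ := hr
      have hxy : P.pi ⟨(x * y⁻¹ : K), hKJ (x * y⁻¹).2⟩ ∈ P.fixImg K hKJ s (hHJ hs) := by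
        refine ⟨x * y⁻¹, rfl, ?_⟩
        have e1 : (⟨s * ((x * y⁻¹ : K) : G) * s⁻¹, P.conj_mem_J' (hHJ hs) ⟨_, hKJ (x * y⁻¹).2⟩⟩ : J) =
            ⟨_, P.conj_mem_J' (hHJ hs) ⟨x, hKJ x.2⟩⟩ * (⟨_, P.conj_mem_J' (hHJ hs) ⟨y, hKJ y.2⟩⟩ : J)⁻¹ :=
          Subtype.ext (by simp [mul_assoc])
        rw [e1, map_mul, map_inv, hx, hy, ← map_inv, ← map_mul]
        rfl
      have h0 := (P.fixImg_swapper hKJ (hHJ hs) hsb hxy).1 (by
        rw [show (⟨((x * y⁻¹ : K) : G), hKJ (x * y⁻¹).2⟩ : J) = ⟨x, hKJ x.2⟩ * (⟨y, hKJ y.2⟩ : J)⁻¹ from rfl,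
          map_mul, map_inv, toAdd_mul, toAdd_inv, Prod.fst_add, Prod.fst_neg, e, add_neg_cancel])
      rw [show (⟨((x * y⁻¹ : K) : G), hKJ (x * y⁻¹).2⟩ : J) = ⟨x, hKJ x.2⟩ * (⟨y, hKJ y.2⟩ : J)⁻¹ from rfl,
        map_mul, map_inv, mul_inv_eq_one] at h0
      exact Subtype.ext h0
    rcases hP with e | e | e | e | e
    · exact fin 2 1 4 1 1 hle e hz h1i h1w (by norm_num)
    · exact fin 2 2 4 1 1 hle e hz h1i h1w (by norm_num)
    · by_cases hM2 : 2 ≤ Nat.card M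
      · calc Nat.card H ≤ 2 * Nat.card K := hle
          _ ≤ 2 * (4 * 4) := by rw [hKsplit, e]; omega
          _ ≤ 16 * Nat.card N := by omega
      have hM1 : Nat.card M = 1 := by have : 0 < Nat.card M := Nat.card_pos; omega
      exfalso
      have hMbot : M = ⊥ := (Subgroup.card_eq_one).mp hM1
      obtain ⟨x, hx, hx1⟩ : ∃ x : J, (x : G) ∈ K ∧ P.pi x ≠ 1 := by
        by_contra h
        push Not at h
        have : P.img K = ⊥ := by
          rw [Subgroup.eq_bot_iff_forall]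
          rintro _ ⟨x, hx, rfl⟩
          exact h x hx
        rw [this, Subgroup.card_bot] at e
        omega
      have hc : s * (x : G) * s⁻¹ = x :=
        mul_inv_eq_one.mp (Subgroup.mem_bot.mp (hMbot ▸ hYmem s hs x hx))
      have h2 : (x : G) * x = 1 :=
        Subgroup.mem_bot.mp (hMbot ▸ (⟨hsq x hx.1, mul_mem x.2 x.2⟩ : (x : G) * x ∈ M))
      refine hx1 (P.pi_eq_one.mpr ?_)
      rcases P.mem_or_mem x.2 h2 with h | h
      · exact ⟨h, hc ▸ P.conj_V1 (hHJ hs) hsb h⟩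
      · exact ⟨hc ▸ P.swap.conj_V1 (hHJ hs) (by rwa [P.both_swap]) h, h⟩
    · exact fin 2 8 4 1 4 hle e hz h1i (hZbig (by omega)) (by norm_num)
    · have h2 := himg.trans (Nat.mul_le_mul_left _ hfx)
      exact fin 2 16 4 4 4 hle e hz (by omega) (hZbig (by omega)) (by norm_num)
  obtain ⟨f, hf, hfJ⟩ := SetLike.not_le_iff_exists.mp hb1
  obtain ⟨k, hkf⟩ := hk f hf.1
  have himg := P.card_img_le_mul hKJ (hHJ hf.1) (hYmem f hf.1)
  have hfx := P.fixImg_fixer hKJ hf.2 hfJ hkf hq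
  by_cases hsw : H ≤ both V1 V2
  · have hle : Nat.card H ≤ 2 * Nat.card K := (Subgroup.card_le_of_le (le_inf le_rfl hsw)).trans s2
    rcases hP with e | e | e | e | e
    · exact fin 2 1 4 1 1 hle e hz h1i h1w (by norm_num)
    · exact fin 2 2 4 1 1 hle e hz h1i h1w (by norm_num)
    · by_cases hz4 : Nat.card (K ⊓ (V1 ⊓ V2) : Subgroup G) = 4
      · exact fin 2 4 4 1 2 hle e hz h1i (hfix f hf hfJ hz4) (by norm_num)
      · have hd : Nat.card (K ⊓ (V1 ⊓ V2) : Subgroup G) ∣ 2 ^ 2 :=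
          (hq ▸ P.card_Z ▸ Subgroup.card_dvd_of_le inf_le_right : _ ∣ 4)
        have : Nat.card (K ⊓ (V1 ⊓ V2) : Subgroup G) ≤ 2 := by
          obtain ⟨i, hi, he'⟩ := (Nat.dvd_prime_pow Nat.prime_two).mp hd
          interval_cases i <;> omega
        exact fin 2 4 2 1 1 hle e this h1i h1w (by norm_num)
    · exact fin 2 8 4 1 4 hle e hz h1i (hZbig (by omega)) (by norm_num)
    · have h2 := himg.trans (Nat.mul_le_mul_left _ hfx)
      exact fin 2 16 4 4 4 hle e hz (by omega) (hZbig (by omega)) (by norm_num)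
  obtain ⟨s, hs, hsb⟩ := SetLike.not_le_iff_exists.mp hsw
  have hle : Nat.card H ≤ 4 * Nat.card K := by omega
  have hmove : 4 ≤ Nat.card (P.img K) → 2 ≤ Nat.card (P.img M) := by
    intro h4
    by_contra h
    have hbot : P.img M = ⊥ := (Subgroup.card_eq_one).mp (by omega)
    have hall : ∀ (g : G) (hg : g ∈ H), (P.img K : Set (Multiplicative (F × F))) ⊆ P.fixImg K hKJ g (hHJ hg) := by
      rintro g hg _ ⟨x, hx, rfl⟩
      refine ⟨⟨x, hx⟩, rfl, mul_inv_eq_one.mp (Subgroup.mem_bot.mp (hbot ▸ ?_))⟩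
      refine ⟨⟨g * x * g⁻¹, P.conj_mem_J' (hHJ hg) x⟩ * x⁻¹, hYmem g hg x hx, ?_⟩
      rw [map_mul, map_inv]
    have h2 := Set.ncard_le_ncard (Set.subset_inter (hall f hf.1) (hall s hs)) (Set.toFinite _)
    have := P.fixImg_both hKJ hf.2 hfJ hkf (hHJ hs) hsb hq
    have e : (P.img K : Set (Multiplicative (F × F))).ncard = Nat.card (P.img K) := (Nat.card_coe_set_eq _).symm
    omega
  have hz4' : Nat.card (K ⊓ (V1 ⊓ V2) : Subgroup G) ≤ 2 ∨
      2 ≤ Nat.card (M ⊓ (V1 ⊓ V2) : Subgroup G) := by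
    by_cases hz4 : Nat.card (K ⊓ (V1 ⊓ V2) : Subgroup G) = 4
    · exact Or.inr (hfix f hf hfJ hz4)
    · refine Or.inl ?_
      obtain ⟨i, hi, he'⟩ := (Nat.dvd_prime_pow Nat.prime_two).mp
        (show Nat.card (K ⊓ (V1 ⊓ V2) : Subgroup G) ∣ 2 ^ 2 from
          (hq ▸ P.card_Z ▸ Subgroup.card_dvd_of_le inf_le_right : _ ∣ 4))
      interval_cases i <;> omega
  rcases hP with e | e | e | e | e
  · exact fin 4 1 4 1 1 hle e hz h1i h1w (by norm_num)
  · rcases hz4' with h | h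
    · exact fin 4 2 2 1 1 hle e h h1i h1w (by norm_num)
    · exact fin 4 2 4 1 2 hle e hz h1i h (by norm_num)
  · rcases hz4' with h | h
    · exact fin 4 4 2 2 1 hle e h (hmove (by omega)) h1w (by norm_num)
    · exact fin 4 4 4 2 2 hle e hz (hmove (by omega)) h (by norm_num)
  · exact fin 4 8 4 2 4 hle e hz (hmove (by omega)) (hZbig (by omega)) (by norm_num)
  · have h2 := himg.trans (Nat.mul_le_mul_left _ hfx)
    exact fin 4 16 4 4 4 hle e hz (by omega) (hZbig (by omega)) (by norm_num)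

/-- The case of four elements. -/
theorem sectional_le_four (hq : Nat.card F = 4) : Cfsg.SectionalPRankLE 2 4 G := by
  intro H N _ A _hA hA2
  haveI : Fact (Nat.Prime 2) := ⟨Nat.prime_two⟩
  set X := A.comap (QuotientGroup.mk' N) with hX
  obtain ⟨S⟩ : Nonempty (Sylow 2 X) := inferInstance
  let f : X →* A :=
    { toFun := fun x => ⟨QuotientGroup.mk' N x.1, x.2⟩
      map_one' := Subtype.ext (map_one (QuotientGroup.mk' N))
      map_mul' := fun x y => Subtype.ext (map_mul (QuotientGroup.mk' N) x.1 y.1) }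
  have hf : Function.Surjective f := fun a => by
    obtain ⟨h, hh⟩ := QuotientGroup.mk'_surjective N a.1
    exact ⟨⟨h, show QuotientGroup.mk' N h ∈ A by rw [hh]; exact a.2⟩, Subtype.ext hh⟩
  have hAp : IsPGroup 2 A := fun a => ⟨1, Subtype.ext (by simpa using hA2 a a.2)⟩
  have htop : (S : Subgroup X).map f = ⊤ :=
    ((S.mapSurjective hf).is_maximal' (Q := ⊤) (hAp.of_equiv Subgroup.topEquiv.symm) le_top).symm
  let ι : X →* G := H.subtype.comp X.subtype
  have hι : Function.Injective ι := H.subtype_injective.comp X.subtype_injective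
  set S' : Subgroup G := (S : Subgroup X).map ι with hS'
  have hS'p : IsPGroup 2 S' := S.isPGroup'.map ι
  obtain ⟨Q, hQ⟩ := P.J_pGroup.exists_le_sylow
  obtain ⟨R, hR⟩ := hS'p.exists_le_sylow
  obtain ⟨g, hg⟩ := MulAction.exists_smul_eq G R Q
  let c : G →* G := (MulAut.conj g).toMonoidHom
  have hc : Function.Injective c := (MulAut.conj g).injective
  have hle : S'.map c ≤ Q := by
    rw [← hg]
    rintro _ ⟨x, hx, rfl⟩
    exact ⟨x, hR hx, rfl⟩
  set N' : Subgroup G := ((f.comp (S : Subgroup X).subtype).ker.map (ι.comp (S : Subgroup X).subtype)).map c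
  have hbound : Nat.card (S'.map c) ≤ 16 * Nat.card N' := by
    refine P.card_le_sixteen_mul hq (hS'p.map c) (hle.trans (P.le_normalizer_J Q.isPGroup' hQ)) ?_ ?_
    · rintro _ ⟨_, ⟨x, -, rfl⟩, rfl⟩
      exact ⟨_, ⟨x.1, x.2, rfl⟩, rfl⟩
    · rintro _ ⟨_, ⟨x, hx, rfl⟩, rfl⟩
      refine ⟨_, ⟨⟨x, hx⟩ * ⟨x, hx⟩, ?_, rfl⟩, ?_⟩
      · refine (MonoidHom.mem_ker).mpr ?_
        rw [map_mul]
        exact Subtype.ext (by simpa [pow_two] using hA2 _ (f x).2)
      · show c (ι (x * x)) = _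
        rw [map_mul, map_mul]
  rw [Subgroup.card_map_of_injective hc, Subgroup.card_map_of_injective hι,
    Subgroup.card_map_of_injective hc,
    Subgroup.card_map_of_injective (f := ι.comp (S : Subgroup X).subtype) (hι.comp (S : Subgroup X).subtype_injective)] at hbound
  have hker := (f.comp (S : Subgroup X).subtype).ker.index_mul_card
  rw [Subgroup.index_ker, MonoidHom.range_comp, Subgroup.range_subtype, htop, Subgroup.card_top] at hker
  rw [← hker] at hbound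
  exact Nat.le_of_mul_le_mul_right hbound Nat.card_pos

end Pair

end Cfsg.Agent.Invol.NatPair
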