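import Cfsg.Agent.Lib.Invol.NatPair.Pair
import Cfsg.Agent.Lib.Grp.Cores

/-!
# Each natural module is its own centralizer
-/

set_option autoImplicit false
set_option linter.unusedSectionVars false
set_option linter.style.haveILetI false

namespace Cfsg.Agent.Invol.NatPair

open Matrix Cfsg.Agent.Grp.SL2
open Cfsg.Agent.Invol.Nat2 (dg dg_up mulVec_up mulVec_dg)
open Cfsg.Agent.Invol.SL2Nat (wel)

open scoped commutatorElement

universe u v

variable {G : Type u} [Group G] [Finite G] {F : Type v} [Field F] [Finite F] [CharP F 2]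

local notation "SS" => Matrix.SpecialLinearGroup (Fin 2) F

/-- A 2-group acting on a nontrivial 2-group fixes a nontrivial element. -/
theorem exists_ne_one_fixed {R V : Subgroup G} (hR : IsPGroup 2 R) (hV : IsPGroup 2 V) (hne : V ≠ ⊥)
    (hn : R ≤ Subgroup.normalizer (V : Set G)) : ∃ v ∈ V, v ≠ 1 ∧ ∀ r ∈ R, r * v * r⁻¹ = v := by
  haveI : Fact (Nat.Prime 2) := ⟨Nat.prime_two⟩
  letI : MulAction R V :=
    { smul := fun r v => ⟨(r : G) * v * (r : G)⁻¹, (Subgroup.mem_normalizer_iff.mp (hn r.2) _).mp v.2⟩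
      one_smul := fun v => Subtype.ext (show (1 : G) * v * (1 : G)⁻¹ = v by simp)
      mul_smul := fun a b v => Subtype.ext (show ((a : G) * b) * v * ((a : G) * b)⁻¹ =
        (a : G) * ((b : G) * v * (b : G)⁻¹) * (a : G)⁻¹ by group) }
  have h1 : (1 : V) ∈ MulAction.fixedPoints R V := fun r =>
    Subtype.ext (show (r : G) * 1 * (r : G)⁻¹ = 1 by simp)
  haveI : Nontrivial V := (Subgroup.nontrivial_iff_ne_bot V).mpr hne
  have hd : 2 ∣ Nat.card V := by
    obtain ⟨n, hn, hc⟩ := hV.nontrivial_iff_card.mp inferInstance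
    exact hc ▸ dvd_pow_self 2 hn.ne'
  obtain ⟨v, hv, hv1⟩ := hR.exists_fixed_point_of_prime_dvd_card_of_fixed_point V hd h1
  exact ⟨v, v.2, fun e => hv1 (Subtype.ext e.symm), fun r hr => congrArg Subtype.val (hv ⟨r, hr⟩)⟩

theorem mem_normalizer_of_conj {H : Subgroup G} {g : G} (h : ∀ x ∈ H, g * x * g⁻¹ ∈ H) :
    g ∈ Subgroup.normalizer (H : Set G) := by
  refine Subgroup.mem_normalizer_iff_map_conj_eq.mpr (Subgroup.eq_of_le_of_card_ge ?_
    (Subgroup.card_map_of_injective (MulAut.conj g).injective).ge)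
  rintro _ ⟨x, hx, rfl⟩
  exact h x hx

theorem mem_normalizer_centralizer {H : Subgroup G} {g : G} (hg : g ∈ Subgroup.normalizer (H : Set G)) :
    g ∈ Subgroup.normalizer (Subgroup.centralizer (H : Set G) : Set G) := by
  refine mem_normalizer_of_conj fun c hc => Subgroup.mem_centralizer_iff.mpr fun x hx => ?_
  have h1 := (Subgroup.mem_normalizer_iff.mp (inv_mem hg) x).mp hx
  have h2 := Subgroup.mem_centralizer_iff.mp hc _ h1
  calc x * (g * c * g⁻¹) = g * (g⁻¹ * x * g⁻¹⁻¹ * c) * g⁻¹ := by group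
    _ = g * (c * (g⁻¹ * x * g⁻¹⁻¹)) * g⁻¹ := by rw [h2]
    _ = g * c * g⁻¹ * x := by group

theorem exists_mulVec_eq {x : Fin 2 → F} (hx : x ≠ 0) :
    ∃ A : SS, (A : Matrix (Fin 2) (Fin 2) F).mulVec ![1, 0] = x := by
  by_cases h0 : x 0 = 0
  · have h1 : x 1 ≠ 0 := fun h1 => hx (funext fun i => by fin_cases i <;> assumption)
    refine ⟨⟨!![0, -(x 1)⁻¹; x 1, 0], by simp [Matrix.det_fin_two, h1]⟩, ?_⟩
    ext i; fin_cases i <;> simp [Matrix.mulVec, dotProduct, Fin.sum_univ_two, h0]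
  · refine ⟨⟨!![x 0, 0; x 1, (x 0)⁻¹], by simp [Matrix.det_fin_two, h0]⟩, ?_⟩
    ext i; fin_cases i <;> simp [Matrix.mulVec, dotProduct, Fin.sum_univ_two]

theorem coe_mulVec (A B : SS) (x : Fin 2 → F) :
    ((A * B : SS) : Matrix (Fin 2) (Fin 2) F).mulVec x =
      (A : Matrix (Fin 2) (Fin 2) F).mulVec ((B : Matrix (Fin 2) (Fin 2) F).mulVec x) :=
  (Matrix.mulVec_mulVec x _ _).symm

theorem coe_one_mulVec (x : Fin 2 → F) : ((1 : SS) : Matrix (Fin 2) (Fin 2) F).mulVec x = x :=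
  Matrix.one_mulVec x

namespace Mod

variable {L V J : Subgroup G} (C : Mod L V J F)
include C

/-- A 2-group normalized by `L`, acting trivially on `L/V`, centralizes `V`. -/
theorem commute_of_pGroup {R : Subgroup G} (hR : IsPGroup 2 R) (hRV : R ≤ Subgroup.normalizer (V : Set G))
    (hV : IsPGroup 2 V) (hne : V ≠ ⊥) (hLR : L ≤ Subgroup.normalizer (R : Set G)) {r v : G} (hr : r ∈ R)
    (hv : v ∈ V) : r * v * r⁻¹ = v := by
  obtain ⟨w, hw, hw1, hfix⟩ := exists_ne_one_fixed hR hV hne hRV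
  have hx0 : C.co w ≠ 0 := fun h => hw1 ((C.co_eq_zero hw).mp h)
  have key : ∀ l : L, ∀ r ∈ R, r * ((l : G) * w * (l : G)⁻¹) * r⁻¹ = (l : G) * w * (l : G)⁻¹ := by
    intro l r hr
    have h := hfix _ ((Subgroup.mem_normalizer_iff.mp (inv_mem (hLR l.2)) r).mp hr)
    calc r * ((l : G) * w * (l : G)⁻¹) * r⁻¹
        = (l : G) * (((l : G)⁻¹ * r * (l : G)⁻¹⁻¹) * w * ((l : G)⁻¹ * r * (l : G)⁻¹⁻¹)⁻¹) * (l : G)⁻¹ := by group
      _ = (l : G) * w * (l : G)⁻¹ := by rw [h]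
  by_cases hv1 : v = 1
  · rw [hv1, mul_one, mul_inv_cancel]
  obtain ⟨A, hA⟩ := exists_mulVec_eq hx0
  obtain ⟨B, hB⟩ := exists_mulVec_eq (x := C.co v) fun h => hv1 ((C.co_eq_zero hv).mp h)
  obtain ⟨l, hl⟩ := C.exists_lift (B * A⁻¹)
  have : (l : G) * w * (l : G)⁻¹ = v := by
    conv_lhs => rw [← C.vec_co hw, C.conj_vec, hl, ← hA, ← coe_mulVec, inv_mul_cancel_right, hB, C.vec_co hv]
  rw [← this]
  exact key l r hr

/-- A normal 2-subgroup of `L` lies in `V`. -/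
theorem pGroup_le {R : Subgroup G} (hR : IsPGroup 2 R) (hRL : R ≤ L) (hV : IsPGroup 2 V) (hne : V ≠ ⊥)
    (hLR : L ≤ Subgroup.normalizer (R : Set G)) : R ≤ V := by
  intro r hr
  refine (C.ker ⟨r, hRL hr⟩).mp (Subtype.ext (Matrix.ext_of_mulVec_single fun i => ?_))
  have := C.co_conj ⟨r, hRL hr⟩ (C.vec_mem (Pi.single i 1))
  rw [C.commute_of_pGroup hR (hRL.trans C.norm) hV hne hLR hr (C.vec_mem _), C.co_vec] at this
  rw [coe_one_mulVec]
  exact this.symm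

theorem eq_one_of_central {z : G} (hz : z ∈ V) (h : ∀ l ∈ L, Commute z l) : z = 1 := by
  have hf : ∀ A : SS, (A : Matrix (Fin 2) (Fin 2) F).mulVec (C.co z) = C.co z := fun A => by
    obtain ⟨l, rfl⟩ := C.exists_lift A
    rw [← C.co_conj l hz, ← (h l l.2).eq, mul_inv_cancel_right]
  have h1 := congrFun (hf (up 1)) 0
  have h2 := congrFun (hf wel) 0
  rw [mulVec_up] at h1
  rw [mulVec_wel] at h2
  simp at h1 h2
  refine (C.co_eq_zero hz).mp (funext fun i => ?_)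
  fin_cases i <;> simp [← h2, h1]

/-- Adjusting an element centralizing `V` and `J` so that it centralizes `L`. -/
theorem exists_centralizing {a : F} (ha0 : a ≠ 0) (ha1 : a ≠ 1) {d : G} (hdV : ∀ v ∈ V, Commute d v)
    (hdL : ∀ l ∈ L, d * l * d⁻¹ * l⁻¹ ∈ V) (hdJ : ∀ x ∈ J, Commute d x) :
    ∃ z ∈ V, C.co z 1 = 0 ∧ ∀ l ∈ L, Commute (d * z) l := by
  let κ : G → Fin 2 → F := fun l => C.co (d * l * d⁻¹ * l⁻¹)
  have hκ : ∀ (l m : L), κ ((l : G) * m) = κ l + (C.ρ l : Matrix (Fin 2) (Fin 2) F).mulVec (κ m) := by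
    intro l m
    show C.co _ = _ + Matrix.mulVec _ (C.co _)
    rw [← C.co_conj l (hdL m m.2), ← C.co_mul (hdL l l.2) (C.conj_mem l.2 (hdL m m.2))]
    congr 1; group
  have hκJ : ∀ x ∈ J, κ x = 0 := fun x hx => by
    show C.co _ = 0
    rw [(hdJ x hx).eq, mul_inv_cancel_right, mul_inv_cancel, C.co_one]
  obtain ⟨h, hh⟩ := C.exists_lift (dg a ha0)
  obtain ⟨j, hj⟩ := C.exists_lift (up 1)
  have hjJ : (j : G) ∈ J := (C.mem_J j).mpr ⟨1, hj⟩
  have hj' : ((h⁻¹ * j * h : L) : G) ∈ J := (C.mem_J _).mpr ⟨(a * a)⁻¹, by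
    rw [map_mul, map_mul, map_inv, hh, hj, mul_assoc, inv_mul_eq_iff_eq_mul, dg_up,
      show a * a * (a * a)⁻¹ = 1 by field_simp]⟩
  have h10 : κ h 1 = 0 := by
    have e1 := hκ j h
    have e2 := hκ h (h⁻¹ * j * h)
    rw [hκJ _ hjJ, zero_add, hj, mulVec_up] at e1
    rw [hκJ _ hj', Matrix.mulVec_zero, add_zero] at e2
    have e : (j : G) * h = (h : G) * ((h⁻¹ * j * h : L) : G) := by simp [mul_assoc]
    rw [e, e2] at e1
    simpa using congrFun e1 0
  have ha' : (1 : F) + a ≠ 0 := fun e => ha1 (CharTwo.add_eq_zero.mp e).symm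
  set z := C.vec ![κ h 0 / (1 + a), 0] with hzdef
  have hz : z ∈ V := C.vec_mem _
  have hz1 : C.co z 1 = 0 := by rw [hzdef, C.co_vec]; rfl
  refine ⟨z, hz, hz1, ?_⟩
  let K : Subgroup L := (Subgroup.centralizer {d * z}).subgroupOf L
  have hK : ∀ l : L, l ∈ K ↔ Commute (d * z) l := fun l => Subgroup.mem_centralizer_singleton_iff.trans eq_comm
  have hJK : ∀ l : L, (l : G) ∈ J → l ∈ K := fun l hl => by
    refine (hK l).mpr ((hdJ _ hl).mul_left ?_)
    obtain ⟨t, ht⟩ := (C.mem_J l).mp hl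
    have := C.co_conj l hz
    rw [ht, mulVec_up, hz1, mul_zero, add_zero] at this
    have h2 : (l : G) * z * (l : G)⁻¹ = z := by
      rw [← C.vec_co (C.conj_mem l.2 hz), this]
      conv_rhs => rw [← C.vec_co hz]
      congr 1; ext i; fin_cases i <;> simp [hz1]
    exact (mul_inv_eq_iff_eq_mul.mp h2).symm
  have hhK : h ∈ K := by
    refine (hK h).mpr (commutatorElement_eq_one_iff_commute.mp ?_)
    have e : ⁅d * z, (h : G)⁆ = (d * ((z * ((h : G) * z⁻¹ * (h : G)⁻¹))) * d⁻¹) * (d * h * d⁻¹ * (h : G)⁻¹) := by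
      rw [commutatorElement_def]; group
    rw [e, C.inv_eq hz]
    have hm : z * ((h : G) * z * (h : G)⁻¹) ∈ V := mul_mem hz (C.conj_mem h.2 hz)
    rw [(hdV _ hm).eq, mul_inv_cancel_right, ← C.co_eq_zero (mul_mem hm (hdL h h.2)),
      C.co_mul hm (hdL h h.2), C.co_mul hz (C.conj_mem h.2 hz), C.co_conj h hz, hh, mulVec_dg, hzdef, C.co_vec]
    show ![_, _] + ![_, _] + κ h = 0
    ext i; fin_cases i
    · simp only [Matrix.cons_val_zero, Pi.add_apply, Pi.zero_apply]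
      show κ h 0 / (1 + a) + a * (κ h 0 / (1 + a)) + κ h 0 = 0
      rw [show κ h 0 / (1 + a) + a * (κ h 0 / (1 + a)) = κ h 0 by field_simp]
      exact CharTwo.add_self_eq_zero _
    · simpa using h10
  obtain ⟨w, hw⟩ := C.exists_lift wel
  have hv : ((h * w)⁻¹ * (w * h⁻¹) : L) ∈ K := by
    refine hJK _ (C.V_le_J ((C.ker _).mp ?_))
    rw [map_mul, map_inv, map_mul, map_mul, map_inv, hh, hw, inv_mul_eq_one]
    refine eq_mul_inv_iff_mul_eq.mpr (Subtype.ext ?_)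
    show (dg a ha0 : SS).1 * (wel : SS).1 * (dg a ha0 : SS).1 = (wel : SS).1
    ext i j; fin_cases i <;> fin_cases j <;> simp [wel, dg, Matrix.mul_apply, Fin.sum_univ_two, ha0]
  have hwK : w ∈ K := by
    set c := d * z with hc
    set κ' : G := c * w * c⁻¹ * (w : G)⁻¹ with hκ'
    have hm : κ' ∈ V := by
      have : κ' = (d * (z * ((w : G) * z⁻¹ * (w : G)⁻¹)) * d⁻¹) * (d * w * d⁻¹ * (w : G)⁻¹) := by
        rw [hκ', hc]; group
      rw [this]
      have hzz : z * ((w : G) * z⁻¹ * (w : G)⁻¹) ∈ V := mul_mem hz (C.conj_mem w.2 (inv_mem hz))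
      exact mul_mem ((hdV _ hzz).eq ▸ (by rw [mul_inv_cancel_right]; exact hzz)) (hdL w w.2)
    have e1 : ((h : G)) * κ' * (h : G)⁻¹ = κ' := by
      have c1 : Commute c h := (hK h).mp hhK
      have c2 := (hK _).mp hv
      have c3 : Commute c ((h⁻¹ : L) : G) := by push_cast; exact c1.inv_right
      simp only [Subgroup.coe_mul, Subgroup.coe_inv] at c2 c3
      set u := ((h : G) * w)⁻¹ * ((w : G) * (h : G)⁻¹) with hu
      have hw' : (h : G) * w = w * ((h : G)⁻¹ * u⁻¹) := by rw [hu]; group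
      have c4 : Commute c ((h : G)⁻¹ * u⁻¹) := c3.mul_right c2.inv_right
      calc (h : G) * κ' * (h : G)⁻¹
          = ((h : G) * c * (h : G)⁻¹) * ((h : G) * w) * c⁻¹ * ((h : G) * w)⁻¹ := by rw [hκ']; group
        _ = c * (w * ((h : G)⁻¹ * u⁻¹)) * c⁻¹ * (w * ((h : G)⁻¹ * u⁻¹))⁻¹ := by
            rw [← c1.eq, mul_inv_cancel_right, hw']
        _ = c * w * (((h : G)⁻¹ * u⁻¹) * c⁻¹) * (w * ((h : G)⁻¹ * u⁻¹))⁻¹ := by group
        _ = κ' := by rw [← c4.inv_left.eq, hκ']; group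
    have e2 := C.co_conj h hm
    rw [e1, hh, mulVec_dg] at e2
    have : C.co κ' = 0 := by
      funext i
      have ei := congrFun e2 i
      fin_cases i <;> simp at ei ⊢
      · exact (mul_left_eq_self₀.mp ei.symm).resolve_left ha1
      · refine (mul_left_eq_self₀.mp ei.symm).resolve_left ?_
        rwa [inv_eq_one]
    exact (hK w).mpr (commutatorElement_eq_one_iff_commute.mp ((C.co_eq_zero hm).mp this))
  intro l hl
  have hKt : K.map C.ρ = ⊤ := SL2Nat.generated _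
    (fun t => by obtain ⟨m, hm⟩ := C.exists_lift (up t); exact ⟨m, hJK m ((C.mem_J m).mpr ⟨t, hm⟩), hm⟩)
    ⟨w, hwK, hw⟩
  obtain ⟨m, hm, hme⟩ : C.ρ ⟨l, hl⟩ ∈ K.map C.ρ := hKt ▸ Subgroup.mem_top _
  have hv : (m : G)⁻¹ * l ∈ V := C.mem_of_ρ_eq (m := ⟨l, hl⟩) hme
  have := ((hK m).mp hm).mul_right ((hK ⟨_, C.le hv⟩).mp (hJK _ (C.V_le_J hv)))
  simpa using this

end Mod

namespace Pair

variable {L1 L2 V1 V2 J T : Subgroup G} (P : Pair L1 L2 V1 V2 J T F)
include P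

theorem exists_ne_zero_one : ∃ a : F, a ≠ 0 ∧ a ≠ 1 := by
  classical
  haveI := Fintype.ofFinite F
  by_contra h
  push Not at h
  have : Finset.univ ⊆ ({0, 1} : Finset F) := fun a _ => by
    by_cases ha : a = 0
    · simp [ha]
    · simp [h a ha]
  have h4 := P.four_le_q
  rw [Nat.card_eq_fintype_card, ← Finset.card_univ] at h4
  have h2 := (Finset.card_le_card this).trans (Finset.card_insert_le _ _)
  rw [Finset.card_singleton] at h2
  omega

theorem map_conj_le_J {n : G} (hn : n ∈ Subgroup.normalizer (J : Set G)) {V : Subgroup G} (hV : V ≤ J) :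
    V.map (MulAut.conj n).toMonoidHom ≤ J := by
  rintro _ ⟨v, hv, rfl⟩
  exact (Subgroup.mem_normalizer_iff.mp hn v).mp (hV hv)

theorem map_conj_eq {n : G} (hn : n ∈ Subgroup.normalizer (J : Set G)) :
    V1.map (MulAut.conj n).toMonoidHom = V1 ∨ V1.map (MulAut.conj n).toMonoidHom = V2 := by
  have hc : Nat.card (V1.map (MulAut.conj n).toMonoidHom) = Nat.card V1 :=
    Subgroup.card_map_of_injective (MulAut.conj n).injective
  refine (P.le_or_le (P.map_conj_le_J hn P.V1_le_J) ?_).imp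
    (fun h => Subgroup.eq_of_le_of_card_ge h hc.ge) fun h => Subgroup.eq_of_le_of_card_ge h ?_
  · rintro _ ⟨v, hv, rfl⟩
    rw [← map_mul, P.m1.mul_self hv, map_one]
  · rw [hc, P.card_V1, P.swap.card_V1]

/-- An element normalizing `J` and `V1` normalizes `V2`. -/
theorem mem_normalizer_V2 {n : G} (hn : n ∈ Subgroup.normalizer (J : Set G))
    (hn1 : n ∈ Subgroup.normalizer (V1 : Set G)) : n ∈ Subgroup.normalizer (V2 : Set G) := by
  rcases P.swap.map_conj_eq hn with h | h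
  · exact Subgroup.mem_normalizer_iff_map_conj_eq.mpr h
  · exfalso
    have h1 : V1.map (MulAut.conj n).toMonoidHom = V1 := Subgroup.mem_normalizer_iff_map_conj_eq.mp hn1
    obtain ⟨a, ha, ha2⟩ := P.swap.exists_V1_not_V2
    exact ha2 ((Subgroup.map_injective (MulAut.conj n).injective (h.trans h1.symm)) ▸ ha)

theorem L1_le_N1 : L1 ≤ Subgroup.normalizer (V1 : Set G) := P.m1.norm

theorem conj_mem_J {l : L1} {a : F} (ha : a ≠ 0) (hl : P.m1.ρ l = dg a ha) :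
    (l : G) ∈ Subgroup.normalizer (J : Set G) := by
  refine mem_normalizer_of_conj fun x hx => ?_
  obtain ⟨t, ht⟩ := P.exists_up hx
  refine (P.m1.mem_J (l * ⟨x, P.m1.Jle hx⟩ * l⁻¹)).mpr ⟨a * a * t, ?_⟩
  rw [map_mul, map_mul, map_inv, hl, ht, dg_up, mul_inv_cancel_right]

/-- `O₂(N(V₁))`. -/
def R1 (_ : Pair L1 L2 V1 V2 J T F) : Subgroup G :=
  (Cfsg.pCore 2 (Subgroup.normalizer (V1 : Set G))).map (Subgroup.normalizer (V1 : Set G)).subtype

theorem R1_le : P.R1 ≤ Subgroup.normalizer (V1 : Set G) := Subgroup.map_subtype_le _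

theorem R1_pGroup : IsPGroup 2 P.R1 := by
  haveI : Fact (Nat.Prime 2) := ⟨Nat.prime_two⟩
  exact Grp.pCore_isPGroup.map _

theorem N1_le_R1 : Subgroup.normalizer (V1 : Set G) ≤ Subgroup.normalizer (P.R1 : Set G) := by
  intro n hn
  refine mem_normalizer_of_conj ?_
  rintro _ ⟨x, hx, rfl⟩
  exact ⟨_, (Grp.pCore_isNormal (p := 2)).conj_mem x hx ⟨n, hn⟩, rfl⟩

theorem R1_comm_V1 {r a : G} (hr : r ∈ P.R1) (ha : a ∈ V1) : Commute r a :=
  mul_inv_eq_iff_eq_mul.mp (P.m1.commute_of_pGroup P.R1_pGroup P.R1_le P.V1_pGroup P.V1_ne_bot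
    (P.L1_le_N1.trans P.N1_le_R1) hr ha)

theorem R1_comm_L1 {r l : G} (hr : r ∈ P.R1) (hl : l ∈ L1) : r * l * r⁻¹ * l⁻¹ ∈ V1 := by
  have h1 : r * l * r⁻¹ * l⁻¹ ∈ L1 :=
    mul_mem ((Subgroup.mem_normalizer_iff.mp (P.nL1 (P.R1_le hr)) l).mp hl) (inv_mem hl)
  have h2 : r * l * r⁻¹ * l⁻¹ ∈ P.R1 := by
    rw [mul_assoc, mul_assoc, ← mul_assoc l]
    exact mul_mem hr ((Subgroup.mem_normalizer_iff.mp (P.N1_le_R1 (P.L1_le_N1 hl)) _).mp (inv_mem hr))
  refine P.m1.pGroup_le (R := P.R1 ⊓ L1) (P.R1_pGroup.to_le inf_le_left) inf_le_right P.V1_pGroup P.V1_ne_bot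
    (fun m hm => ?_) ⟨h2, h1⟩
  exact Subgroup.inf_normalizer_le_normalizer_inf ⟨P.N1_le_R1 (P.L1_le_N1 hm), Subgroup.le_normalizer hm⟩

/-- Modulo `V1` the elements of `O₂(N(V1))` centralize `J`. -/
theorem exists_comm_J {d : G} (hd : d ∈ P.R1) : ∃ a ∈ V1, ∀ x ∈ J, Commute (a * d) x := by
  have hdJ : d ∈ Subgroup.normalizer (J : Set G) := by
    refine mem_normalizer_of_conj fun x hx => ?_
    rw [← inv_mul_cancel_right (d * x * d⁻¹) x]
    exact mul_mem (P.V1_le_J (P.R1_comm_L1 hd (P.m1.Jle hx))) hx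
  have hd2 := P.mem_normalizer_V2 hdJ (P.R1_le hd)
  have hdL2 := P.nL2 hd2
  have hZ : ∀ t : F, P.m2.mov d ![t, 0] = ![t, 0] := fun t => by
    have h : P.m2.vec ![t, 0] ∈ V1 := P.swap.vec_mem_Z t
    rw [Mod.mov, (P.R1_comm_V1 hd h).eq, mul_inv_cancel_right, P.m2.co_vec]
  have hσ : ∀ c, P.m2.σ d c = c := fun c => P.m2.σ_eq_of hd2 hdL2 c c (x := ![1, 0])
    (fun e => one_ne_zero (α := F) (by simpa using congrFun e 0))
    (by rw [show c • (![1, 0] : Fin 2 → F) = ![c, 0] by ext i; fin_cases i <;> simp, hZ, hZ]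
        ext i; fin_cases i <;> simp)
  have h1 : P.m2.mov d ![0, 1] 1 = 1 := by
    have hx : d * P.m2.vec ![0, 1] * d⁻¹ * (P.m2.vec ![0, 1])⁻¹ ∈ V1 :=
      P.R1_comm_L1 hd (P.V2_le_L1 (P.m2.vec_mem _))
    rw [P.m2.vec_mov hd2, P.m2.inv_eq (P.m2.vec_mem _), ← P.m2.vec_add] at hx
    have := (P.swap.mem_Z_iff (P.m2.vec_mem _)).mp hx
    rw [show P.swap.m1 = P.m2 from rfl, P.m2.co_vec] at this
    simpa [CharTwo.add_eq_zero] using this
  set f := P.m2.mov d ![0, 1] 0 with hf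
  obtain ⟨a, ha, hρ⟩ := P.swap.exists_b f
  have hρ' : P.m2.ρ ⟨a, P.swap.V2_le_L1 ha⟩ = up f := hρ
  refine ⟨a, ha, fun x hx => ?_⟩
  obtain ⟨v, hv, w, hw, rfl⟩ := P.exists_mul hx
  refine Commute.mul_right (Commute.mul_left (P.m1.mul_comm_V ha hv) (P.R1_comm_V1 hd hv)) ?_
  refine mul_inv_eq_iff_eq_mul.mp ?_
  have had : a * d ∈ Subgroup.normalizer (V2 : Set G) := mul_mem (P.m2.norm (P.swap.V2_le_L1 ha)) hd2
  conv_lhs => rw [← P.m2.vec_co hw, P.m2.vec_mov had,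
    P.m2.mov_mul (P.m2.norm (P.swap.V2_le_L1 ha)) hd2]
  conv_rhs => rw [← P.m2.vec_co hw]
  congr 1
  rw [show P.m2.mov a = P.m2.mov ((⟨a, P.swap.V2_le_L1 ha⟩ : L2) : G) from rfl, P.m2.mov_L, hρ', mulVec_up]
  have hy : P.m2.co w = P.m2.co w 0 • ![1, 0] + P.m2.co w 1 • ![0, 1] := by
    ext i; fin_cases i <;> simp
  have hm : P.m2.mov d (P.m2.co w) = ![P.m2.co w 0 + P.m2.co w 1 * f, P.m2.co w 1] := by
    conv_lhs => rw [hy, P.m2.mov_add hd2, P.m2.semilinear hd2 hdL2, P.m2.semilinear hd2 hdL2, hσ, hσ, hZ]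
    ext i; fin_cases i <;> simp [← hf, h1]
  rw [hm]
  ext i; fin_cases i <;> simp [mul_comm f, add_assoc, CharTwo.add_self_eq_zero]

theorem R1_eq_bot_of_centralizes : P.R1 ⊓ Subgroup.centralizer (L1 : Set G) = ⊥ := by
  obtain ⟨a, ha0, ha1⟩ := P.exists_ne_zero_one
  set D := P.R1 ⊓ Subgroup.centralizer (L1 : Set G) with hD
  have hc : ∀ d ∈ D, ∀ l ∈ L1, Commute d l := fun d hd l hl =>
    (Subgroup.mem_centralizer_iff.mp hd.2 l hl).symm
  have hdV2 : ∀ d ∈ D, d ∈ Subgroup.normalizer (V2 : Set G) := fun d hd => by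
    refine P.mem_normalizer_V2 ?_ (P.R1_le hd.1)
    refine Subgroup.centralizer_le_normalizer _ (Subgroup.mem_centralizer_iff.mpr fun x hx => ?_)
    exact (hc d hd x (P.m1.Jle hx)).eq.symm
  have key : ∀ d ∈ D, ∀ l ∈ L2, Commute d l := by
    intro d hd
    have hdJ : ∀ x ∈ J, Commute d x := fun x hx => hc d hd x (P.m1.Jle hx)
    have hdV : ∀ v ∈ V2, Commute d v := fun v hv => hdJ v (P.V2_le_J hv)
    have hd2 := hdV2 d hd
    have hdL : ∀ l ∈ L2, d * l * d⁻¹ * l⁻¹ ∈ V2 := by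
      intro l hl
      have h1 : d * l * d⁻¹ ∈ L2 := (Subgroup.mem_normalizer_iff.mp (P.nL2 hd2) l).mp hl
      refine (P.m2.ker ⟨_, mul_mem h1 (inv_mem hl)⟩).mp ?_
      have e : P.m2.ρ ⟨_, h1⟩ = P.m2.ρ ⟨l, hl⟩ := Subtype.ext (Matrix.ext_of_mulVec_single fun i => by
        have hm := P.m2.mov_mulVec hd2 ⟨l, hl⟩ h1 (Pi.single i 1)
        have hid : ∀ x, P.m2.mov d x = x := fun x => by
          rw [Mod.mov, (hdV _ (P.m2.vec_mem x)).eq, mul_inv_cancel_right, P.m2.co_vec]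
        rw [hid, hid] at hm
        exact hm.symm)
      rw [show (⟨d * l * d⁻¹ * l⁻¹, mul_mem h1 (inv_mem hl)⟩ : L2) = ⟨_, h1⟩ * ⟨l, hl⟩⁻¹ from rfl,
        map_mul, map_inv, e, mul_inv_cancel]
    obtain ⟨z, hz, hz1, hzc⟩ := P.m2.exists_centralizing ha0 ha1 hdV hdL hdJ
    have hzV1 : z ∈ V1 := (P.swap.mem_Z_iff hz).mpr hz1
    obtain ⟨h, hh⟩ := P.m1.exists_lift (dg a ha0)
    have hhJ := P.conj_mem_J ha0 hh
    have hhL2 := P.nL2 (P.mem_normalizer_V2 hhJ (P.m1.norm h.2))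
    have hz' : (h : G) * z * (h : G)⁻¹ ∈ V2 :=
      (Subgroup.mem_normalizer_iff.mp (P.mem_normalizer_V2 hhJ (P.m1.norm h.2)) z).mp hz
    have hfix : z * ((h : G) * z * (h : G)⁻¹) = 1 := by
      refine P.m2.eq_one_of_central (mul_mem hz hz') fun l hl => ?_
      have c1 := hzc l hl
      have c2 : Commute (d * ((h : G) * z * (h : G)⁻¹)) l := by
        have hl' : (h : G)⁻¹ * l * (h : G) ∈ L2 := by
          have := (Subgroup.mem_normalizer_iff.mp (inv_mem hhL2) l).mp hl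
          rwa [inv_inv] at this
        have hdh : (h : G) * d * (h : G)⁻¹ = d := by rw [← (hc d hd h h.2).eq, mul_inv_cancel_right]
        have := (hzc _ hl').map (MulAut.conj (h : G)).toMonoidHom
        simp only [MulEquiv.coe_toMonoidHom, MulAut.conj_apply] at this
        have e1 : (h : G) * (d * z) * (h : G)⁻¹ = d * ((h : G) * z * (h : G)⁻¹) := by
          conv_rhs => rw [← hdh]
          group
        have e2 : (h : G) * ((h : G)⁻¹ * l * (h : G)) * (h : G)⁻¹ = l := by group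
        rwa [e1, e2] at this
      have e : z * ((h : G) * z * (h : G)⁻¹) = (d * z)⁻¹ * (d * ((h : G) * z * (h : G)⁻¹)) := by
        rw [_root_.mul_inv_rev, P.m2.inv_eq hz]; group
      rw [e]
      exact c1.inv_left.mul_left c2
    have hz0 : (h : G) * z * (h : G)⁻¹ = z := by
      rw [← inv_eq_of_mul_eq_one_right hfix, P.m2.inv_eq hz]
    have := P.m1.co_conj h hzV1
    rw [hz0, hh, mulVec_dg] at this
    have h0 : P.m1.co z 0 = 0 :=
      (mul_left_eq_self₀.mp (by simpa using (congrFun this 0).symm)).resolve_left ha1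
    have : z = 1 := (P.m1.co_eq_zero hzV1).mp (funext fun i => by
      fin_cases i
      · exact h0
      · exact (P.mem_Z_iff hzV1).mp hz)
    intro l hl
    simpa [this] using hzc l hl
  have hN : ∀ n ∈ Subgroup.normalizer (V1 : Set G), n ∈ Subgroup.normalizer (D : Set G) := fun n hn =>
    Subgroup.inf_normalizer_le_normalizer_inf
      ⟨P.N1_le_R1 hn, mem_normalizer_centralizer (P.nL1 hn)⟩
  refine P.core D (P.R1_pGroup.to_le inf_le_left) (inf_le_left.trans P.R1_le) hdV2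
    (fun t ht => hN t (P.TV1 ht)) (fun l hl => hN l (P.L1_le_N1 hl)) fun l hl => ?_
  refine Subgroup.centralizer_le_normalizer _ (Subgroup.mem_centralizer_iff.mpr fun d hd => ?_)
  exact (key d hd l hl).eq

theorem R1_le_V1 : P.R1 ≤ V1 := by
  intro d hd
  obtain ⟨a, ha0, ha1⟩ := P.exists_ne_zero_one
  obtain ⟨b, hb, hbJ⟩ := P.exists_comm_J hd
  have hVR : V1 ≤ P.R1 := fun v hv =>
    ⟨⟨v, Subgroup.le_normalizer hv⟩, Grp.le_pCore Subgroup.normal_in_normalizer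
      (P.V1_pGroup.of_equiv (Subgroup.subgroupOfEquivOfLe Subgroup.le_normalizer).symm) hv, rfl⟩
  have hbd : b * d ∈ P.R1 := mul_mem (hVR hb) hd
  obtain ⟨z, hz, -, hzc⟩ := P.m1.exists_centralizing ha0 ha1 (fun v hv => P.R1_comm_V1 hbd hv)
    (fun l hl => P.R1_comm_L1 hbd hl) hbJ
  have : b * d * z ∈ P.R1 ⊓ Subgroup.centralizer (L1 : Set G) :=
    ⟨mul_mem hbd (hVR hz), Subgroup.mem_centralizer_iff.mpr fun l hl => (hzc l hl).eq.symm⟩
  rw [P.R1_eq_bot_of_centralizes, Subgroup.mem_bot] at this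
  have hd' : d = b⁻¹ * z⁻¹ := by rw [eq_inv_mul_iff_mul_eq]; exact eq_inv_of_mul_eq_one_left this
  exact hd' ▸ mul_mem (inv_mem hb) (inv_mem hz)

/-- `C(V1) = V1`. -/
theorem centralizer_V1 : Subgroup.centralizer (V1 : Set G) ≤ V1 := by
  intro c hc
  have hN := Subgroup.centralizer_le_normalizer _ hc
  refine P.R1_le_V1 ⟨⟨c, hN⟩, P.char2.2 V1 P.V1_pGroup P.V1_ne_bot (Subgroup.mem_centralizer_iff.mpr ?_), rfl⟩
  intro x hx
  exact Subtype.ext (Subgroup.mem_centralizer_iff.mp hc _ (P.R1_le_V1 ⟨x, hx, rfl⟩))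

theorem centralizer_J {c : G} (hc : ∀ x ∈ J, Commute c x) : c ∈ V1 ∧ c ∈ V2 :=
  ⟨P.centralizer_V1 (Subgroup.mem_centralizer_iff.mpr fun v hv => (hc v (P.V1_le_J hv)).eq.symm),
    P.swap.centralizer_V1 (Subgroup.mem_centralizer_iff.mpr fun v hv => (hc v (P.V2_le_J hv)).eq.symm)⟩

end Pair

end Cfsg.Agent.Invol.NatPair
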