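import Cfsg.Agent.Lib.Invol.NatPair.SelfCent
import Cfsg.Agent.Lib.Invol.NatPair.Involutive
import Cfsg.Agent.Lib.Invol.NatPair.Outer

/-!
# The common normalizer of the two modules, and the Sylow subgroups

An element normalizing both modules is triangular and semilinear. A linear 2-element of this normalizer lies in
`J`; hence every 2-subgroup containing `J` normalizes `J`.
-/

set_option autoImplicit false
set_option linter.unusedSectionVars false
set_option linter.style.haveILetI false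

namespace Cfsg.Agent.Invol.NatPair

open Matrix Cfsg.Agent.Grp.SL2
open Cfsg.Agent.Invol.Nat2 (mulVec_up)

universe u v

variable {G : Type u} [Group G] [Finite G] {F : Type v} [Field F] [Finite F] [CharP F 2]

/-- The common normalizer of two subgroups. -/
abbrev both (V1 V2 : Subgroup G) : Subgroup G :=
  Subgroup.normalizer (V1 : Set G) ⊓ Subgroup.normalizer (V2 : Set G)

namespace Pair

variable {L1 L2 V1 V2 J T : Subgroup G} (P : Pair L1 L2 V1 V2 J T F)
include P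

theorem both_le_normalizer_J : both V1 V2 ≤ Subgroup.normalizer (J : Set G) := fun n hn => by
  refine mem_normalizer_of_conj fun x hx => ?_
  obtain ⟨a, ha, b, hb, rfl⟩ := P.exists_mul hx
  rw [show n * (a * b) * n⁻¹ = (n * a * n⁻¹) * (n * b * n⁻¹) by group]
  exact mul_mem (P.V1_le_J ((Subgroup.mem_normalizer_iff.mp hn.1 a).mp ha))
    (P.V2_le_J ((Subgroup.mem_normalizer_iff.mp hn.2 b).mp hb))

theorem J_le_both : J ≤ both V1 V2 := le_inf P.J_le_N1 P.swap.J_le_N1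

theorem V1_ne_V2 : V1 ≠ V2 := fun h => by
  obtain ⟨a, ha, ha2⟩ := P.exists_V1_not_V2
  exact ha2 (h ▸ ha)

theorem mem_both_of_J {n : G} (hn : n ∈ Subgroup.normalizer (J : Set G))
    (h1 : n ∈ Subgroup.normalizer (V1 : Set G)) : n ∈ both V1 V2 := ⟨h1, P.mem_normalizer_V2 hn h1⟩

/-- An element of `N(J)` outside the common normalizer interchanges the two modules. -/
theorem conj_V1 {n : G} (hn : n ∈ Subgroup.normalizer (J : Set G)) (hb : n ∉ both V1 V2) {v : G} (hv : v ∈ V1) :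
    n * v * n⁻¹ ∈ V2 := by
  rcases P.map_conj_eq hn with h | h
  · exact absurd (P.mem_both_of_J hn (Subgroup.mem_normalizer_iff_map_conj_eq.mpr h)) hb
  · exact h ▸ Subgroup.mem_map_of_mem _ hv

theorem both_swap : both V2 V1 = both V1 V2 := inf_comm _ _

theorem mul_mem_both {a b : G} (ha : a ∈ Subgroup.normalizer (J : Set G))
    (hb : b ∈ Subgroup.normalizer (J : Set G)) (ha' : a ∉ both V1 V2) (hb' : b ∉ both V1 V2) :
    a * b ∈ both V1 V2 := by
  refine P.mem_both_of_J (mul_mem ha hb) (mem_normalizer_of_conj fun v hv => ?_)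
  rw [show a * b * v * (a * b)⁻¹ = a * (b * v * b⁻¹) * a⁻¹ by group]
  exact P.swap.conj_V1 ha (by rwa [P.both_swap]) (P.conj_V1 hb hb' hv)

/-! ### Coordinates of an element of the common normalizer -/

/-- The scalar on the line `Z`. -/
noncomputable def alpha (P : Pair L1 L2 V1 V2 J T F) (n : G) : F := P.m1.mov n ![1, 0] 0

/-- The scalar on `V1/Z`. -/
noncomputable def delta (P : Pair L1 L2 V1 V2 J T F) (n : G) : F := P.m1.mov n ![0, 1] 1

/-- The off-diagonal entry. -/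
noncomputable def beta (P : Pair L1 L2 V1 V2 J T F) (n : G) : F := P.m1.mov n ![0, 1] 0

/-- The element acts linearly on `V1`. -/
def Lin (P : Pair L1 L2 V1 V2 J T F) (n : G) : Prop := ∀ c, P.m1.σ n c = c

theorem mov_line {n : G} (hn : n ∈ both V1 V2) (t : F) : P.m1.mov n ![t, 0] 1 = 0 := by
  refine (P.mem_Z_iff ?_).mp ?_
  · exact (Subgroup.mem_normalizer_iff.mp hn.1 _).mp (P.m1.vec_mem _)
  · exact (Subgroup.mem_normalizer_iff.mp hn.2 _).mp (P.vec_mem_Z t)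

theorem mov_eq {n : G} (hn : n ∈ both V1 V2) (x : Fin 2 → F) :
    P.m1.mov n x = ![P.m1.σ n (x 0) * P.alpha n + P.m1.σ n (x 1) * P.beta n, P.m1.σ n (x 1) * P.delta n] := by
  have hy : x = x 0 • (![1, 0] : Fin 2 → F) + x 1 • ![0, 1] := by ext i; fin_cases i <;> simp
  conv_lhs => rw [hy, P.m1.mov_add hn.1, P.m1.semilinear hn.1 (P.nL1 hn.1), P.m1.semilinear hn.1 (P.nL1 hn.1)]
  ext i; fin_cases i <;> simp [alpha, beta, delta, P.mov_line hn 1]

theorem σ_zero {n : G} (hn : n ∈ both V1 V2) : P.m1.σ n 0 = 0 := by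
  simpa using P.m1.σ_add hn.1 (P.nL1 hn.1) 0 0

theorem alpha_ne_zero {n : G} (hn : n ∈ both V1 V2) : P.alpha n ≠ 0 := fun h => by
  have : P.m1.mov n ![1, 0] = P.m1.mov n 0 := by
    rw [P.m1.mov_zero]
    ext i; fin_cases i
    · exact h
    · exact P.mov_line hn 1
  simpa using congrFun (P.m1.mov_inj hn.1 this) 0

theorem σ_inj {n : G} (hn : n ∈ both V1 V2) : Function.Injective (P.m1.σ n) := fun c d h => by
  have e : P.m1.mov n (c • ![1, 0]) = P.m1.mov n (d • ![1, 0]) := by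
    rw [P.m1.semilinear hn.1 (P.nL1 hn.1), P.m1.semilinear hn.1 (P.nL1 hn.1), h]
  simpa using congrFun (P.m1.mov_inj hn.1 e) 0

theorem delta_ne_zero {n : G} (hn : n ∈ both V1 V2) : P.delta n ≠ 0 := fun h => by
  obtain ⟨c, hc⟩ := (Finite.injective_iff_surjective.mp (P.σ_inj hn)) (P.beta n / P.alpha n)
  have : P.m1.mov n ![0, 1] = P.m1.mov n ![c, 0] := by
    rw [P.mov_eq hn, P.mov_eq hn]
    ext i; fin_cases i
    · simp [P.σ_zero hn, hc, P.m1.σ_one hn.1 (P.nL1 hn.1), P.alpha_ne_zero hn]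
    · simp [P.σ_zero hn, h]
  simpa using congrFun (P.m1.mov_inj hn.1 this) 1

theorem alpha_mul {n n' : G} (hn : n ∈ both V1 V2) (hn' : n' ∈ both V1 V2) :
    P.alpha (n * n') = P.m1.σ n (P.alpha n') * P.alpha n := by
  rw [alpha, P.m1.mov_mul hn.1 hn'.1, P.mov_eq hn, P.mov_line hn' 1]
  simp [alpha, P.σ_zero hn]

theorem delta_mul {n n' : G} (hn : n ∈ both V1 V2) (hn' : n' ∈ both V1 V2) :
    P.delta (n * n') = P.m1.σ n (P.delta n') * P.delta n := by
  rw [delta, P.m1.mov_mul hn.1 hn'.1, P.mov_eq hn]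
  simp [delta]

theorem alpha_one : P.alpha 1 = 1 := by simp [alpha, P.m1.mov_one]

theorem delta_one : P.delta 1 = 1 := by simp [delta, P.m1.mov_one]

theorem lin_one : P.Lin 1 := P.m1.σ_unit

theorem lin_mul {n n' : G} (hn : n ∈ both V1 V2) (hn' : n' ∈ both V1 V2) (h : P.Lin n) (h' : P.Lin n') :
    P.Lin (n * n') := fun c => by
  rw [P.m1.σ_comp hn.1 (P.nL1 hn.1) hn'.1 (P.nL1 hn'.1), h', h]

theorem lin_pow {n : G} (hn : n ∈ both V1 V2) (h : P.Lin n) (k : ℕ) :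
    P.Lin (n ^ k) ∧ P.alpha (n ^ k) = P.alpha n ^ k ∧ P.delta (n ^ k) = P.delta n ^ k := by
  induction k with
  | zero => simpa using ⟨P.lin_one, P.alpha_one, P.delta_one⟩
  | succ k ih =>
    have hk := pow_mem hn k
    rw [pow_succ]
    exact ⟨P.lin_mul hk hn ih.1 h, by rw [P.alpha_mul hk hn, ih.1, ih.2.1, mul_comm, pow_succ],
      by rw [P.delta_mul hk hn, ih.1, ih.2.2, mul_comm, pow_succ]⟩

theorem lin_J {x : G} (hx : x ∈ J) : P.Lin x := P.m1.σ_L ⟨x, P.m1.Jle hx⟩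

theorem coords_J {x : G} (hx : x ∈ J) : P.alpha x = 1 ∧ P.delta x = 1 := by
  obtain ⟨t, ht⟩ := P.exists_up hx
  have e : ∀ y, P.m1.mov x y = ((up t : Matrix.SpecialLinearGroup (Fin 2) F) : Matrix (Fin 2) (Fin 2) F).mulVec y :=
    fun y => by rw [← ht]; exact P.m1.mov_L ⟨x, P.m1.Jle hx⟩ y
  simp [alpha, delta, e, up]

/-- A linear unipotent element lies in `J`. -/
theorem mem_J_of_unipotent {n : G} (hn : n ∈ both V1 V2) (h : P.Lin n) (ha : P.alpha n = 1)
    (hd : P.delta n = 1) : n ∈ J := by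
  obtain ⟨b, hb, hρ⟩ := P.exists_b (P.beta n)
  have hbN : b ∈ Subgroup.normalizer (V1 : Set G) := P.m1.norm (P.V2_le_L1 hb)
  suffices b⁻¹ * n ∈ V1 by simpa using mul_mem (P.V2_le_J hb) (P.V1_le_J this)
  refine P.centralizer_V1 (Subgroup.mem_centralizer_iff.mpr fun v hv => ?_)
  refine Eq.symm (mul_inv_eq_iff_eq_mul.mp ?_)
  conv_lhs => rw [← P.m1.vec_co hv, P.m1.vec_mov (mul_mem (inv_mem hbN) hn.1)]
  conv_rhs => rw [← P.m1.vec_co hv]
  congr 1
  refine P.m1.mov_inj hbN ?_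
  rw [← P.m1.mov_mul hbN (mul_mem (inv_mem hbN) hn.1), mul_inv_cancel_left, P.mov_eq hn, ha, hd, h, h,
    show P.m1.mov b = P.m1.mov ((⟨b, P.V2_le_L1 hb⟩ : L1) : G) from rfl, P.m1.mov_L, hρ, mulVec_up]
  simp [mul_comm]

theorem eq_one_of_two_pow {x : F} {k : ℕ} (h : x ^ 2 ^ k = 1) : x = 1 := by
  have := sub_pow_char_pow (R := F) (p := 2) (n := k) x 1
  rw [h, one_pow, sub_self] at this
  exact sub_eq_zero.mp (eq_zero_of_pow_eq_zero this)

/-- A linear 2-element of the common normalizer lies in `J`. -/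
theorem mem_J_of_lin {n : G} (hn : n ∈ both V1 V2) (h : P.Lin n) {k : ℕ} (hk : n ^ 2 ^ k = 1) : n ∈ J := by
  obtain ⟨-, h1, h2⟩ := P.lin_pow hn h (2 ^ k)
  rw [hk, P.alpha_one] at h1
  rw [hk, P.delta_one] at h2
  exact P.mem_J_of_unipotent hn h (P.eq_one_of_two_pow h1.symm) (P.eq_one_of_two_pow h2.symm)

/-- The action on `J/V1`. -/
theorem conj_up_param {n x : G} (hn : n ∈ both V1 V2) (hx : x ∈ J) {t : F}
    (ht : P.m1.ρ ⟨x, P.m1.Jle hx⟩ = up t) (hx' : n * x * n⁻¹ ∈ L1) :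
    P.m1.ρ ⟨n * x * n⁻¹, hx'⟩ = up (P.m1.σ n t * P.alpha n / P.delta n) := by
  obtain ⟨s, hs⟩ := P.exists_up (b := n * x * n⁻¹)
    ((Subgroup.mem_normalizer_iff.mp (P.both_le_normalizer_J hn) x).mp hx)
  have := P.m1.mov_mulVec hn.1 ⟨x, P.m1.Jle hx⟩ hx' ![0, 1]
  rw [ht, hs, mulVec_up, mulVec_up, P.mov_eq hn, P.mov_eq hn] at this
  have e := congrFun this 0
  simp [P.σ_zero hn, P.m1.σ_one hn.1 (P.nL1 hn.1)] at e
  rw [hs]
  congr 1
  rw [eq_div_iff (P.delta_ne_zero hn)]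
  linear_combination -e

/-- The field automorphism as a ring homomorphism. -/
noncomputable def σHom {n : G} (hn : n ∈ both V1 V2) : F →+* F where
  toFun := P.m1.σ n
  map_one' := P.m1.σ_one hn.1 (P.nL1 hn.1)
  map_mul' := P.m1.σ_mul hn.1 (P.nL1 hn.1)
  map_zero' := P.σ_zero hn
  map_add' := P.m1.σ_add hn.1 (P.nL1 hn.1)

/-- An involution outside `J` induces a field automorphism of order two. -/
theorem exists_moved {n : G} (hn : n ∈ both V1 V2) (hJ : n ∉ J) {k : ℕ} (hk : n ^ 2 ^ k = 1) :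
    ∃ c, P.m1.σ n c ≠ c := by
  by_contra h
  push Not at h
  exact hJ (P.mem_J_of_lin hn h hk)

/-- The product of two commuting involutions outside `J` lies in `J`. -/
theorem mul_mem_J {a b : G} (ha : a ∈ both V1 V2) (hb : b ∈ both V1 V2) (ha2 : a * a = 1) (hb2 : b * b = 1)
    (hab : Commute a b) (haJ : a ∉ J) (hbJ : b ∉ J) : a * b ∈ J := by
  obtain ⟨c, hc⟩ := P.exists_moved ha haJ (k := 1) (by rw [pow_one, pow_two, ha2])
  obtain ⟨c', hc'⟩ := P.exists_moved hb hbJ (k := 1) (by rw [pow_one, pow_two, hb2])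
  have hinv : ∀ {n : G} (hn : n ∈ both V1 V2), n * n = 1 → ∀ x, P.σHom hn (P.σHom hn x) = x := fun hn h x => by
    show P.m1.σ _ (P.m1.σ _ x) = x
    rw [← P.m1.σ_comp hn.1 (P.nL1 hn.1) hn.1 (P.nL1 hn.1), h, P.m1.σ_unit]
  have e := eq_of_involutive (P.σHom ha) (P.σHom hb) (hinv ha ha2) (hinv hb hb2) hc hc'
  refine P.mem_J_of_lin (mul_mem ha hb) (fun x => ?_) (k := 1) ?_
  · rw [P.m1.σ_comp ha.1 (P.nL1 ha.1) hb.1 (P.nL1 hb.1)]
    show P.σHom ha (P.σHom hb x) = x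
    rw [← e x, hinv ha ha2]
  · rw [pow_one, pow_two, mul_assoc, ← mul_assoc b, ← hab.eq, mul_assoc, hb2, mul_one, ha2]

/-- A field involution moves a point of `Z`. -/
theorem exists_moved_Z {n : G} (hn : n ∈ both V1 V2) (hJ : n ∉ J) {k : ℕ} (hk : n ^ 2 ^ k = 1) :
    ∃ z ∈ V1 ⊓ V2, ¬ Commute n z := by
  by_contra h
  push Not at h
  obtain ⟨c, hc⟩ := P.exists_moved hn hJ hk
  have e : ∀ t, P.m1.σ n t * P.alpha n = t := fun t => by
    have h1 : P.m1.mov n ![t, 0] = ![t, 0] := by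
      rw [Mod.mov, (h _ ⟨P.m1.vec_mem _, P.vec_mem_Z t⟩).eq, mul_inv_cancel_right, P.m1.co_vec]
    rw [P.mov_eq hn] at h1
    simpa [P.σ_zero hn] using congrFun h1 0
  have := e 1
  rw [P.m1.σ_one hn.1 (P.nL1 hn.1), one_mul] at this
  exact hc (by simpa [this] using e c)

theorem card_centralized_V1 {n : G} (hn : n ∈ both V1 V2) (hJ : n ∉ J) {k : ℕ} (hk : n ^ 2 ^ k = 1)
    {E : Subgroup G} (hE : E ≤ V1) (hc : ∀ x ∈ E, Commute n x) : Nat.card E ≤ Nat.card F := by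
  obtain ⟨c, hσ⟩ := P.exists_moved hn hJ hk
  let f : (Fin 2 → F) →+ (Fin 2 → F) :=
    { toFun := P.m1.mov n
      map_zero' := P.m1.mov_zero
      map_add' := P.m1.mov_add hn.1 }
  have h := fixed_sq_le_card f (P.m1.σ n) (P.m1.semilinear hn.1 (P.nL1 hn.1)) hσ
  rw [Nat.card_fun, Nat.card_fin, sq] at h
  refine le_trans ?_ (Nat.mul_self_le_mul_self_iff.mp h)
  refine Nat.card_le_card_of_injective (fun x : E => (⟨P.m1.co x, ?_⟩ : {y // f y = y})) ?_
  · show P.m1.mov n (P.m1.co x) = P.m1.co x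
    rw [Mod.mov, P.m1.vec_co (hE x.2), (hc x x.2).eq, mul_inv_cancel_right]
  · intro x y e
    have := congrArg (fun z : {y // f y = y} => P.m1.vec z.1) e
    simp only [P.m1.vec_co (hE x.2), P.m1.vec_co (hE y.2)] at this
    exact Subtype.ext this

theorem card_le_q {E : Subgroup G} (hE : E ≤ J) (h2 : ∀ x ∈ E, x * x = 1) {n : G} (hn : n ∈ both V1 V2)
    (hJ : n ∉ J) {k : ℕ} (hk : n ^ 2 ^ k = 1) (hc : ∀ x ∈ E, Commute n x) : Nat.card E ≤ Nat.card F := by
  rcases P.le_or_le hE h2 with h | h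
  · exact P.card_centralized_V1 hn hJ hk h hc
  · exact P.swap.card_centralized_V1 (P.both_swap.symm ▸ hn) hJ hk h hc

/-- An elementary subgroup of `N(J)` not contained in `J` has order at most `2q`. -/
theorem card_elementary_le {E : Subgroup G} (hE : E ≤ Subgroup.normalizer (J : Set G))
    (h2 : ∀ x ∈ E, x * x = 1) (hEJ : ¬ E ≤ J) : Nat.card E ≤ 2 * Nat.card F := by
  have hcomm : ∀ a ∈ E, ∀ b ∈ E, Commute a b := fun a ha b hb => by
    show a * b = b * a
    have := h2 _ (mul_mem ha hb)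
    rw [eq_inv_of_mul_eq_one_left this, _root_.mul_inv_rev, inv_eq_of_mul_eq_one_left (h2 a ha),
      inv_eq_of_mul_eq_one_left (h2 b hb)]
  have hinv : ∀ a ∈ E, a⁻¹ = a := fun a ha => inv_eq_of_mul_eq_one_left (h2 a ha)
  have s1 : Nat.card E ≤ 2 * Nat.card (E ⊓ both V1 V2 : Subgroup G) :=
    card_le_two_mul E _ fun a ha b hb ha' hb' => by
      rw [hinv a ha]; exact P.mul_mem_both (hE ha) (hE hb) ha' hb'
  have s2 : Nat.card (E ⊓ both V1 V2 : Subgroup G) ≤ 2 * Nat.card (E ⊓ J : Subgroup G) := by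
    have := card_le_two_mul (E ⊓ both V1 V2) J fun a ha b hb ha' hb' => by
      rw [hinv a ha.1]; exact P.mul_mem_J ha.2 hb.2 (h2 a ha.1) (h2 b hb.1) (hcomm a ha.1 b hb.1) ha' hb'
    rwa [inf_assoc, inf_eq_right.mpr P.J_le_both] at this
  have h2J : ∀ x ∈ E ⊓ J, x * x = 1 := fun x hx => h2 x hx.1
  by_cases hsw : E ≤ both V1 V2
  · obtain ⟨n, hn, hnJ⟩ := SetLike.not_le_iff_exists.mp hEJ
    have := P.card_le_q inf_le_right h2J (hsw hn) hnJ (k := 1) (by rw [pow_one, pow_two, h2 n hn])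
      fun x hx => hcomm n hn x hx.1
    rw [inf_eq_left.mpr hsw] at s2
    omega
  obtain ⟨h, hh, hhb⟩ := SetLike.not_le_iff_exists.mp hsw
  have hZ : E ⊓ J ≤ V1 ⊓ V2 := by
    intro x hx
    have hfix : h * x * h⁻¹ = x := by rw [(hcomm h hh x hx.1).eq, mul_inv_cancel_right]
    rcases P.mem_or_mem hx.2 (h2J x hx) with h1 | h1
    · exact ⟨h1, hfix ▸ P.conj_V1 (hE hh) hhb h1⟩
    · exact ⟨hfix ▸ P.swap.conj_V1 (hE hh) (by rwa [P.both_swap]) h1, h1⟩
  have hq := P.card_Z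
  by_cases hfx : E ⊓ both V1 V2 ≤ J
  · have h3 : E ⊓ both V1 V2 ≤ E ⊓ J := le_inf inf_le_left hfx
    have := Subgroup.card_le_of_le (h3.trans hZ)
    omega
  obtain ⟨n, hn, hnJ⟩ := SetLike.not_le_iff_exists.mp hfx
  obtain ⟨z, hz, hzc⟩ := P.exists_moved_Z hn.2 hnJ (k := 1) (by rw [pow_one, pow_two, h2 n hn.1])
  have hlt : E ⊓ J < V1 ⊓ V2 := lt_of_le_of_ne hZ fun e => hzc (hcomm n hn.1 z (e.symm ▸ hz).1)
  obtain ⟨k, hk⟩ := Subgroup.card_dvd_of_le hlt.le
  have hlt' : Nat.card (E ⊓ J : Subgroup G) < Nat.card (V1 ⊓ V2 : Subgroup G) :=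
    lt_of_not_ge fun h => hlt.ne (Subgroup.eq_of_le_of_card_ge hlt.le h)
  rcases k with _ | _ | k
  · omega
  · omega
  · have : Nat.card (E ⊓ J : Subgroup G) * 2 ≤ Nat.card (V1 ⊓ V2 : Subgroup G) :=
      hk ▸ Nat.mul_le_mul_left _ (by omega)
    omega

theorem le_J_of_big {E : Subgroup G} (hE : E ≤ Subgroup.normalizer (J : Set G))
    (h2 : ∀ x ∈ E, x * x = 1) (hc : Nat.card E = Nat.card F * Nat.card F) : E ≤ J := by
  by_contra h
  have h' := P.card_elementary_le hE h2 h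
  have := P.four_le_q
  rw [hc] at h'
  nlinarith

/-- Every 2-subgroup containing `J` normalizes `J`. -/
theorem le_normalizer_J {S : Subgroup G} (hS : IsPGroup 2 S) (hJS : J ≤ S) :
    S ≤ Subgroup.normalizer (J : Set G) := by
  haveI : Fact (Nat.Prime 2) := ⟨Nat.prime_two⟩
  set Q := (Subgroup.normalizer (J : Set G)).subgroupOf S with hQ
  have hmove : ∀ n : S, n ∈ Subgroup.normalizer (Q : Set S) → n ∈ Q := by
    intro n hn
    refine Subgroup.mem_subgroupOf.mpr (mem_normalizer_of_conj fun x hx => ?_)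
    have hV : ∀ {V : Subgroup G}, V ≤ J → (∀ v ∈ V, v * v = 1) → Nat.card V = Nat.card F * Nat.card F →
        ∀ v ∈ V, (n : G) * v * (n : G)⁻¹ ∈ J := by
      intro V hVJ h2 hc v hv
      have hle : V.map (MulAut.conj (n : G)).toMonoidHom ≤ Subgroup.normalizer (J : Set G) := by
        rintro _ ⟨w, hw, rfl⟩
        have h1 : (⟨w, hJS (hVJ hw)⟩ : S) ∈ Q :=
          Subgroup.mem_subgroupOf.mpr (Subgroup.le_normalizer (hVJ hw))
        exact Subgroup.mem_subgroupOf.mp ((Subgroup.mem_normalizer_iff.mp hn _).mp h1)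
      refine P.le_J_of_big hle ?_ ((Subgroup.card_map_of_injective (MulAut.conj (n : G)).injective).trans hc)
        ⟨v, hv, rfl⟩
      rintro _ ⟨w, hw, rfl⟩
      rw [← map_mul, h2 w hw, map_one]
    obtain ⟨a, ha, b, hb, rfl⟩ := P.exists_mul hx
    rw [show (n : G) * (a * b) * (n : G)⁻¹ = ((n : G) * a * (n : G)⁻¹) * ((n : G) * b * (n : G)⁻¹) by group]
    exact mul_mem (hV P.V1_le_J (fun v hv => P.m1.mul_self hv) P.card_V1 a ha)
      (hV P.V2_le_J (fun v hv => P.m2.mul_self hv) P.swap.card_V1 b hb)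
  have : Group.IsNilpotent S := hS.isNilpotent
  have htop : Q = ⊤ := by
    by_contra hne
    obtain ⟨x, hx, hxQ⟩ := SetLike.exists_of_lt
      (Group.normalizerCondition_of_isNilpotent Q (lt_top_iff_ne_top.mpr hne))
    exact hxQ (hmove x hx)
  exact fun s hs => Subgroup.mem_subgroupOf.mp (htop ▸ Subgroup.mem_top (⟨s, hs⟩ : S))

end Pair

end Cfsg.Agent.Invol.NatPair
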