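import Cfsg.Agent.Lib.Invol.NatPair.Hom
import Cfsg.Agent.Lib.Classical.SLNormal

/-!
# `L₁` and `L₂` generate `PSL(3, q)`, with Sylow 2-subgroup `J`
-/

set_option autoImplicit false
set_option linter.unusedSectionVars false
set_option linter.style.haveILetI false

namespace Cfsg.Agent.Invol.NatPair

open Matrix Cfsg.Agent.Grp.SL2

universe u v

variable {G : Type u} [Group G] [Finite G] {F : Type v} [Field F] [Finite F] [CharP F 2]

namespace Pair

variable {L1 L2 V1 V2 J T : Subgroup G} (P : Pair L1 L2 V1 V2 J T F)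
include P

theorem iso_psl (h8 : 8 ≤ Nat.card F) :
    Nonempty (↥(L1 ⊔ L2) ≃* Matrix.ProjectiveSpecialLinearGroup (Fin 3) F) ∧
      Nat.card ↥(L1 ⊔ L2) ∣ Nat.card (Matrix.SpecialLinearGroup (Fin 3) F) ∧
      (∃ a ∈ V1, ∃ b ∈ V2, ¬ Commute b a) := by
  classical
  haveI := Fintype.ofFinite F
  obtain ⟨D⟩ := P.exists_torus h8
  obtain ⟨W⟩ := D.exists_weyl h8
  obtain ⟨f, hf, hr⟩ := W.exists_hom_onto h8
  haveI : IsSimpleGroup (Matrix.ProjectiveSpecialLinearGroup (Fin 3) F) :=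
    Classical.PSL_isSimple (F := F) (n := 3) (by norm_num) (by intro h; omega)
  have hperf : commutator (Matrix.SpecialLinearGroup (Fin 3) F) = ⊤ :=
    Classical.SL_commutator_eq_top_of_three_le (by simp)
  have hle : f.ker ≤ Subgroup.center (Matrix.SpecialLinearGroup (Fin 3) F) := by
    by_contra hne
    have h := Classical.SL_normal_eq_top hperf f.ker hne
    have h01 : (0 : Fin 3) ≠ 1 := by decide
    have hm : Matrix.SpecialLinearGroup.transvection h01 (1 : F) ∈ f.ker := h ▸ Subgroup.mem_top _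
    rw [MonoidHom.mem_ker, hf] at hm
    exact one_ne_zero (α := F) (D.x12_inj (hm.trans (by
      have := D.x12_add 0 0
      rwa [add_zero, eq_comm, mul_eq_left, eq_comm] at this)))
  have hge : Subgroup.center (Matrix.SpecialLinearGroup (Fin 3) F) ≤ f.ker := by
    intro c hc
    rw [MonoidHom.mem_ker]
    have hcomm : ∀ x ∈ L1 ⊔ L2, Commute (f c) x := fun x hx => by
      obtain ⟨y, rfl⟩ : x ∈ f.range := hr ▸ hx
      exact (show Commute c y from (Subgroup.mem_center_iff.mp hc y).symm).map f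
    obtain ⟨h1, -⟩ := P.centralizer_J fun x hx => hcomm x (Subgroup.mem_sup_left (P.m1.Jle hx))
    obtain ⟨r, hr3, hscalar⟩ := Matrix.SpecialLinearGroup.mem_center_iff.mp hc
    have hc3 : c ^ 3 = 1 := Subtype.ext (by
      rw [Matrix.SpecialLinearGroup.coe_pow, ← hscalar, ← map_pow, show r ^ 3 = 1 by simpa using hr3,
        map_one]
      rfl)
    have h3 : f c * f c * f c = 1 := by rw [← map_mul, ← map_mul, ← pow_three', hc3, map_one]
    rwa [P.m1.mul_self h1, one_mul] at h3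
  refine ⟨⟨?_⟩, ?_, _, D.x23_mem 1, _, D.x12_mem 1, W.not_commute_base⟩
  · exact (((QuotientGroup.quotientMulEquivOfEq (le_antisymm hle hge).symm).trans
      (QuotientGroup.quotientKerEquivRange f)).trans (MulEquiv.subgroupCongr hr)).symm
  · rw [← hr]
    exact Subgroup.card_range_dvd f

/-- A 2-subgroup of `L₁ ⊔ L₂` containing `J` is `J`. -/
theorem sylow_eq (h8 : 8 ≤ Nat.card F) {S : Subgroup G} (hS : IsPGroup 2 S) (hJ : J ≤ S) (hle : S ≤ L1 ⊔ L2) :
    S = J := by
  classical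
  haveI := Fintype.ofFinite F
  haveI : Fact (Nat.Prime 2) := ⟨Nat.prime_two⟩
  refine (Subgroup.eq_of_le_of_card_ge hJ ?_).symm
  have h1 : Nat.card S ∣ Nat.card (GL (Fin 3) F) := by
    rw [Classical.natCard_GL_eq_SL_mul (F := F) 3 (by norm_num)]
    exact ((Subgroup.card_dvd_of_le hle).trans (P.iso_psl h8).2.1).mul_left _
  obtain ⟨n, hn⟩ := IsPGroup.iff_card.mp hS
  set q := Nat.card F with hq
  have hqe : q = 2 ^ P.e := P.hF
  have hcard : Nat.card (GL (Fin 3) F) = 2 ^ (3 * P.e) * ((q ^ 3 - 1) * (q ^ 2 - 1) * (q - 1)) := by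
    rw [Matrix.card_GL_field, Fin.prod_univ_three, ← Nat.card_eq_fintype_card, ← hq,
      show 3 * P.e = P.e + P.e + P.e by ring, pow_add, pow_add, ← hqe]
    simp only [Fin.val_zero, Fin.val_one, Fin.val_two, pow_zero, pow_one]
    rw [show q ^ 3 - q = q * (q ^ 2 - 1) by rw [Nat.mul_sub, mul_one, ← pow_succ'],
      show q ^ 3 - q ^ 2 = q * q * (q - 1) by rw [Nat.mul_sub, mul_one, pow_three', pow_two]]
    ring
  have hev : Even q := hqe ▸ Nat.even_pow.mpr ⟨even_two, by have := P.he; omega⟩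
  have hodd : Odd ((q ^ 3 - 1) * (q ^ 2 - 1) * (q - 1)) := by
    have h : ∀ k, k ≠ 0 → Odd (q ^ k - 1) := fun k hk =>
      Nat.Even.sub_odd (Nat.one_le_pow _ _ (by omega)) (hev.pow_of_ne_zero hk) odd_one
    exact ((h 3 (by norm_num)).mul (h 2 (by norm_num))).mul (pow_one q ▸ h 1 one_ne_zero)
  rw [hcard] at h1
  rw [hn] at h1 ⊢
  have h2 := Nat.Coprime.dvd_of_dvd_mul_right
    (Nat.Coprime.pow_left n (Nat.coprime_two_left.mpr hodd)) h1
  refine (Nat.le_of_dvd (pow_pos two_pos _) h2).trans (le_of_eq ?_)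
  rw [P.card_J, ← hq, hqe, show 3 * P.e = P.e + (P.e + P.e) by ring, pow_add, pow_add]

end Pair

end Cfsg.Agent.Invol.NatPair
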