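import Cfsg.Agent.Lib.Invol.NatPair.SelfCent
import Cfsg.Agent.Lib.Invol.NaturalSL2
import Cfsg.Agent.Lib.Grp.Cores

/-!
# From the hypotheses to a `Pair`
-/

set_option autoImplicit false
set_option linter.unusedSectionVars false
set_option linter.style.haveILetI false

namespace Cfsg.Agent.Invol.NatPair

open Matrix Cfsg.Agent.Grp.SL2
open Cfsg.Agent.Invol.Nat2 (mulVec_up)

universe u v

variable {G : Type u} [Group G] [Finite G] {F : Type v} [Field F] [Finite F] [CharP F 2]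

/-- Coordinates in which the given Sylow subgroup is upper unitriangular. -/
theorem exists_mod (L J : Subgroup G) (φ : ↥L ⧸ Cfsg.pCore 2 ↥L ≃* Matrix.SpecialLinearGroup (Fin 2) F)
    (ψ : Additive ↥(Cfsg.pCore 2 ↥L) ≃+ (Fin 2 → F))
    (h : ∀ (g : ↥L) (v : ↥(Cfsg.pCore 2 ↥L)),
      ψ (Additive.ofMul ⟨g * v * g⁻¹, Subgroup.Normal.conj_mem inferInstance (v : ↥L) v.2 g⟩)
        = Matrix.mulVec ((φ (QuotientGroup.mk g) : Matrix.SpecialLinearGroup (Fin 2) F) :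
            Matrix (Fin 2) (Fin 2) F) (ψ (Additive.ofMul v)))
    (hJ : ∃ S : Sylow 2 ↥L, (S : Subgroup ↥L).map L.subtype = J) :
    Nonempty (Mod L ((Cfsg.pCore 2 ↥L).map L.subtype) J F) := by
  classical
  haveI : Fact (Nat.Prime 2) := ⟨Nat.prime_two⟩
  obtain ⟨S, hS⟩ := hJ
  haveI hOn : (Cfsg.pCore 2 ↥L).Normal := Grp.pCore_isNormal
  have hOS : (Cfsg.pCore 2 ↥L) ≤ (S : Subgroup ↥L) := by
    rw [← S.is_maximal' ((Grp.pCore_isPGroup (p := 2) (G := ↥L)).to_sup_of_normal_left S.isPGroup') le_sup_right]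
    exact le_sup_left
  let ρ0 : L →* Matrix.SpecialLinearGroup (Fin 2) F := φ.toMonoidHom.comp (QuotientGroup.mk' (Cfsg.pCore 2 ↥L))
  have hρ0 : Function.Surjective ρ0 := φ.surjective.comp (QuotientGroup.mk'_surjective _)
  have hker : ∀ l, ρ0 l = 1 ↔ l ∈ (Cfsg.pCore 2 ↥L) := fun l =>
    φ.map_eq_one_iff.trans (QuotientGroup.eq_one_iff l)
  obtain ⟨g, hg⟩ := Nat2.exists_conj_upG 2 (S.mapSurjective hρ0)
  have hg' : (S : Subgroup L).map ρ0 =
      (Nat2.upG : Subgroup (Matrix.SpecialLinearGroup (Fin 2) F)).map (MulAut.conj g).toMonoidHom := hg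
  let c : (Fin 2 → F) ≃+ (Fin 2 → F) :=
    { toFun := fun x => ((g⁻¹ : Matrix.SpecialLinearGroup (Fin 2) F) : Matrix (Fin 2) (Fin 2) F).mulVec x
      invFun := fun x => (g : Matrix (Fin 2) (Fin 2) F).mulVec x
      left_inv := fun x => (coe_mulVec g g⁻¹ x).symm.trans (by rw [mul_inv_cancel, coe_one_mulVec])
      right_inv := fun x => (coe_mulVec g⁻¹ g x).symm.trans (by rw [inv_mul_cancel, coe_one_mulVec])
      map_add' := fun x y => Matrix.mulVec_add _ x y }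
  let eV := (Cfsg.pCore 2 ↥L).equivMapOfInjective L.subtype L.subtype_injective
  refine ⟨{ le := Subgroup.map_subtype_le (Cfsg.pCore 2 ↥L)
            norm := ?_
            ρ := (MulAut.conj g⁻¹).toMonoidHom.comp ρ0
            surj := (MulAut.conj g⁻¹).surjective.comp hρ0
            ker := fun l => ?_
            ψ := ((MulEquiv.toAdditive eV.symm).trans ψ).trans c
            act := ?_
            Jle := hS ▸ Subgroup.map_subtype_le _
            mem_J := fun l => ?_ }⟩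
  · intro l hl
    refine mem_normalizer_of_conj ?_
    rintro _ ⟨x, hx, rfl⟩
    exact ⟨⟨l, hl⟩ * x * ⟨l, hl⟩⁻¹, hOn.conj_mem x hx _, rfl⟩
  · show MulAut.conj g⁻¹ (ρ0 l) = 1 ↔ _
    rw [(MulAut.conj g⁻¹).map_eq_one_iff, hker]
    exact ⟨fun hl => ⟨l, hl, rfl⟩, fun ⟨x, hx, e⟩ => L.subtype_injective e ▸ hx⟩
  · rintro l v hv
    set w := eV.symm v with hw
    have hwv : ((w : L) : G) = v := congrArg Subtype.val (eV.apply_symm_apply v)
    have e : eV.symm ⟨(l : G) * v * (l : G)⁻¹, hv⟩ = ⟨l * w * l⁻¹, hOn.conj_mem _ w.2 l⟩ := by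
      rw [eV.symm_apply_eq]
      apply Subtype.ext
      show (l : G) * v * (l : G)⁻¹ = ((l * w * l⁻¹ : L) : G)
      rw [Subgroup.coe_mul, Subgroup.coe_mul, hwv, Subgroup.coe_inv]
    show c (ψ (Additive.ofMul (eV.symm ⟨(l : G) * v * (l : G)⁻¹, hv⟩))) =
      ((MulAut.conj g⁻¹ (ρ0 l) : Matrix.SpecialLinearGroup (Fin 2) F) : Matrix (Fin 2) (Fin 2) F).mulVec
        (c (ψ (Additive.ofMul (eV.symm v))))
    rw [e, h l w, ← hw]
    show ((g⁻¹ : Matrix.SpecialLinearGroup (Fin 2) F) : Matrix (Fin 2) (Fin 2) F).mulVec _ =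
      Matrix.mulVec ((g⁻¹ * ρ0 l * g⁻¹⁻¹ : Matrix.SpecialLinearGroup (Fin 2) F) : Matrix (Fin 2) (Fin 2) F)
        (((g⁻¹ : Matrix.SpecialLinearGroup (Fin 2) F) : Matrix (Fin 2) (Fin 2) F).mulVec _)
    rw [← coe_mulVec, ← coe_mulVec, inv_inv, mul_inv_cancel_right]
    rfl
  · rw [← hS]
    constructor
    · rintro ⟨x, hx, e⟩
      obtain rfl : x = l := L.subtype_injective e
      obtain ⟨u, hu, eu⟩ : ρ0 x ∈ Nat2.upG.map (MulAut.conj g).toMonoidHom := hg' ▸ ⟨x, hx, rfl⟩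
      obtain ⟨t, ht⟩ := Nat2.mem_upG.mp hu
      refine ⟨t, ?_⟩
      show g⁻¹ * ρ0 x * g⁻¹⁻¹ = up t
      rw [← eu, show (MulAut.conj g).toMonoidHom u = g * u * g⁻¹ from rfl, ← ht]
      group
    · rintro ⟨t, ht⟩
      have ht' : g⁻¹ * ρ0 l * g⁻¹⁻¹ = up t := ht
      have hm : ρ0 l ∈ (S : Subgroup L).map ρ0 := hg' ▸
        ⟨up t, Nat2.mem_upG.mpr ⟨t, rfl⟩, by show g * up t * g⁻¹ = _; rw [← ht']; group⟩
      obtain ⟨x, hx, ex⟩ := hm
      have : x⁻¹ * l ∈ (Cfsg.pCore 2 ↥L) := (hker _).mp (by rw [map_mul, map_inv, ex, inv_mul_cancel])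
      refine ⟨l, ?_, rfl⟩
      have := (S : Subgroup L).mul_mem hx (hOS this)
      rwa [mul_inv_cancel_left] at this

omit [Finite G] [Finite F] in
/-- An involution of `V₁V₂` lies in `V₁` or in `V₂`. -/
theorem mem_or_mem_of_mods {L1 L2 V1 V2 J : Subgroup G} (m1 : Mod L1 V1 J F) (m2 : Mod L2 V2 J F)
    (hJ : J = V1 ⊔ V2) {x : G} (hx : x ∈ J) (h2 : x * x = 1) : x ∈ V1 ∨ x ∈ V2 := by
  have hN : V2 ≤ Subgroup.normalizer (V1 : Set G) := (m2.V_le_J.trans m1.Jle).trans m1.norm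
  rw [hJ, ← SetLike.mem_coe, Subgroup.coe_mul_of_right_le_normalizer_left V1 V2 hN] at hx
  obtain ⟨a, ha, b, hb, rfl⟩ := hx
  change a ∈ V1 at ha
  change b ∈ V2 at hb
  by_cases hb1 : b ∈ V1
  · exact Or.inl (mul_mem ha hb1)
  refine Or.inr (mul_mem ?_ hb)
  have hc : b * a * b⁻¹ = a := by
    have e : b * a = a * b := by
      calc b * a = b⁻¹ * a⁻¹ := by rw [m2.inv_eq hb, m1.inv_eq ha]
        _ = (a * b)⁻¹ := (_root_.mul_inv_rev a b).symm
        _ = a * b := inv_eq_of_mul_eq_one_left h2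
    rw [e, mul_inv_cancel_right]
  have hbL : b ∈ L1 := m1.Jle (m2.V_le_J hb)
  obtain ⟨s, hs⟩ := (m1.mem_J ⟨b, hbL⟩).mp (m2.V_le_J hb)
  have hs0 : s ≠ 0 := fun h0 => hb1 ((m1.ker ⟨b, hbL⟩).mp (by rw [hs, h0, up_zero]))
  have h1 : m1.co a 1 = 0 := by
    have e := m1.co_conj ⟨b, hbL⟩ ha
    rw [hc, hs, mulVec_up] at e
    have e0 := congrFun e 0
    simp only [Matrix.cons_val_zero] at e0
    exact (mul_eq_zero.mp (by linear_combination -e0 : s * m1.co a 1 = 0)).resolve_left hs0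
  set w := m1.vec ![0, m1.co a 0 / s]
  have hw : w ∈ V1 := m1.vec_mem _
  have e : b * (w * b⁻¹ * w⁻¹) = a := by
    have hw2 := m1.conj_vec ⟨b, hbL⟩ ![0, m1.co a 0 / s]
    rw [hs, mulVec_up] at hw2
    calc b * (w * b⁻¹ * w⁻¹) = (b * w * b⁻¹) * w := by
          rw [show b * (w * b⁻¹ * w⁻¹) = b * w * b⁻¹ * w⁻¹ by group, m1.inv_eq hw]
      _ = a := by
          rw [hw2, ← m1.vec_add]
          conv_rhs => rw [← m1.vec_co ha]
          congr 1
          ext i; fin_cases i <;> simp [h1, mul_div_cancel₀ _ hs0, CharTwo.add_self_eq_zero]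
  rw [← e]
  exact mul_mem hb (m2.conj_mem (m2.Jle (m1.V_le_J hw)) (inv_mem hb))

omit [Finite F] [Field F] [CharP F 2] in
/-- A maximal 2-local `N(L)` is the normalizer of `O₂(L)`. -/
theorem normalizer_core_eq (L : Subgroup G) (hne : (Cfsg.pCore 2 ↥L).map L.subtype ≠ ⊥)
    (hM : Cfsg.IsMaximalTwoLocal (Subgroup.normalizer (L : Set G))) :
    Subgroup.normalizer ((Cfsg.pCore 2 ↥L).map L.subtype : Set G) = Subgroup.normalizer (L : Set G) := by
  haveI : Fact (Nat.Prime 2) := ⟨Nat.prime_two⟩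
  set N := Subgroup.normalizer (L : Set G)
  set V := (Cfsg.pCore 2 ↥L).map L.subtype
  have hchar : ((Cfsg.pCore 2 ↥L) : Subgroup ↥L).Characteristic := by
    refine Subgroup.characteristic_iff_map_le.mpr fun a => Grp.le_pCore ?_ (Grp.pCore_isPGroup.map _)
    exact Grp.pCore_isNormal.map _ a.surjective
  have hle : N ≤ Subgroup.normalizer (V : Set G) := fun n hn => by
    refine mem_normalizer_of_conj ?_
    rintro _ ⟨x, hx, rfl⟩
    let a : ↥L ≃* ↥L :=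
      { toFun := fun y => ⟨n * y * n⁻¹, (Subgroup.mem_normalizer_iff.mp hn _).mp y.2⟩
        invFun := fun y => ⟨n⁻¹ * y * n⁻¹⁻¹, (Subgroup.mem_normalizer_iff.mp (inv_mem hn) _).mp y.2⟩
        left_inv := fun y => Subtype.ext (by show n⁻¹ * (n * y * n⁻¹) * n⁻¹⁻¹ = y; group)
        right_inv := fun y => Subtype.ext (by show n * (n⁻¹ * y * n⁻¹⁻¹) * n⁻¹ = y; group)
        map_mul' := fun y y' => Subtype.ext (by
          show n * ((y : G) * y') * n⁻¹ = n * y * n⁻¹ * (n * y' * n⁻¹); group) }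
    exact ⟨a x, Subgroup.characteristic_iff_map_le.mp hchar a ⟨x, hx, rfl⟩, rfl⟩
  exact hM.2 _ ⟨V, Grp.pCore_isPGroup.map _, hne, rfl⟩ hle

/-- The hypotheses give a `Pair`. -/
theorem exists_pair (hG : Cfsg.IsCharacteristicTwoType G) (e : ℕ) (he : 2 ≤ e) (hF : Nat.card F = 2 ^ e)
    (L1 L2 : Subgroup G) (m1 : Mod L1 ((Cfsg.pCore 2 ↥L1).map L1.subtype)
      ((Cfsg.pCore 2 ↥L1).map L1.subtype ⊔ (Cfsg.pCore 2 ↥L2).map L2.subtype) F)
    (m2 : Mod L2 ((Cfsg.pCore 2 ↥L2).map L2.subtype)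
      ((Cfsg.pCore 2 ↥L1).map L1.subtype ⊔ (Cfsg.pCore 2 ↥L2).map L2.subtype) F)
    (S : Sylow 2 ↥L1) (hS : (S : Subgroup ↥L1).map L1.subtype =
      (Cfsg.pCore 2 ↥L1).map L1.subtype ⊔ (Cfsg.pCore 2 ↥L2).map L2.subtype)
    (hM1 : Cfsg.IsMaximalTwoLocal (Subgroup.normalizer (L1 : Set G)))
    (hM2 : Cfsg.IsMaximalTwoLocal (Subgroup.normalizer (L2 : Set G)))
    (T : Sylow 2 ↥(Subgroup.normalizer (L1 : Set G)))
    (hO : Cfsg.pCore 2 ↥(((T : Subgroup ↥(Subgroup.normalizer (L1 : Set G))).map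
      (Subgroup.normalizer (L1 : Set G)).subtype) ⊔ L1 ⊔ L2) = ⊥) :
    ∃ T0 : Subgroup G, Nonempty (Pair L1 L2 ((Cfsg.pCore 2 ↥L1).map L1.subtype)
      ((Cfsg.pCore 2 ↥L2).map L2.subtype)
      ((Cfsg.pCore 2 ↥L1).map L1.subtype ⊔ (Cfsg.pCore 2 ↥L2).map L2.subtype) T0 F) := by
  classical
  haveI : Fact (Nat.Prime 2) := ⟨Nat.prime_two⟩
  set V1 := (Cfsg.pCore 2 ↥L1).map L1.subtype
  set V2 := (Cfsg.pCore 2 ↥L2).map L2.subtype
  set J := V1 ⊔ V2 with hJdef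
  have hq : 4 ≤ Nat.card F := hF ▸ le_trans (by norm_num) (Nat.pow_le_pow_right (by norm_num : 0 < 2) he)
  have hV : ∀ {L V : Subgroup G}, Mod L V J F → V ≠ ⊥ := fun {L V} m h => by
    have := m.card_V
    rw [h, Subgroup.card_bot] at this
    nlinarith
  have e1 := normalizer_core_eq L1 (hV m1) hM1
  have e2 := normalizer_core_eq L2 (hV m2) hM2
  have hJp : IsPGroup 2 J := hS ▸ S.isPGroup'.map _
  have hmax : ∀ X : Subgroup G, IsPGroup 2 X → X ≤ L1 → J ≤ X → X = J := by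
    intro X hX hXL hJX
    have h := S.is_maximal' (Q := X.subgroupOf L1) (hX.of_equiv (Subgroup.subgroupOfEquivOfLe hXL).symm)
      fun x hx => hJX (hS ▸ ⟨x, hx, rfl⟩)
    exact le_antisymm (fun x hx => hS ▸ ⟨⟨x, hXL hx⟩, h ▸ (show (⟨x, hXL hx⟩ : L1) ∈ X.subgroupOf L1 from hx), rfl⟩) hJX
  have hJN : J ≤ (Subgroup.normalizer (L1 : Set G)) := m1.Jle.trans Subgroup.le_normalizer
  obtain ⟨S0, hS0⟩ := (hJp.of_equiv (Subgroup.subgroupOfEquivOfLe hJN).symm).exists_le_sylow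
  obtain ⟨n, hn⟩ := MulAction.exists_smul_eq (Subgroup.normalizer (L1 : Set G)) S0 T
  set T' := (T : Subgroup (Subgroup.normalizer (L1 : Set G))).map (Subgroup.normalizer (L1 : Set G)).subtype with hT'
  -- a conjugate of `J` inside `L1` and `T`
  set J1 := J.map (MulAut.conj (n : G)).toMonoidHom
  have hJ1T : J1 ≤ T' := by
    rintro _ ⟨x, hx, rfl⟩
    refine ⟨n * ⟨x, hJN hx⟩ * n⁻¹, ?_, rfl⟩
    rw [← hn]
    exact ⟨⟨x, hJN hx⟩, hS0 hx, rfl⟩
  have hJ1L : J1 ≤ L1 := by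
    rintro _ ⟨x, hx, rfl⟩
    exact (Subgroup.mem_normalizer_iff.mp n.2 x).mp (m1.Jle hx)
  obtain ⟨S', hS'⟩ := ((hJp.map (MulAut.conj (n : G)).toMonoidHom).of_equiv
    (Subgroup.subgroupOfEquivOfLe hJ1L).symm).exists_le_sylow
  obtain ⟨l, hl⟩ := MulAction.exists_smul_eq L1 S S'
  have hJl : J.map (MulAut.conj (l : G)).toMonoidHom = J1 := by
    refine (Subgroup.eq_of_le_of_card_ge ?_ ?_).symm
    · intro y hy
      have hy' : (⟨y, hJ1L hy⟩ : L1) ∈ (S' : Subgroup L1) := hS' hy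
      rw [← hl] at hy'
      obtain ⟨w, hw, e⟩ := hy'
      exact ⟨w, hS ▸ ⟨w, hw, rfl⟩, congrArg Subtype.val e⟩
    · rw [Subgroup.card_map_of_injective (MulAut.conj (l : G)).injective,
        Subgroup.card_map_of_injective (MulAut.conj (n : G)).injective]
  set T0 := T'.map (MulAut.conj (l : G)⁻¹).toMonoidHom with hT0
  have hlN : (l : G) ∈ (Subgroup.normalizer (L1 : Set G)) := Subgroup.le_normalizer l.2
  have hT0N : T0 ≤ (Subgroup.normalizer (L1 : Set G)) := by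
    rintro _ ⟨_, ⟨x, -, rfl⟩, rfl⟩
    exact mul_mem (mul_mem (inv_mem hlN) x.2) (inv_mem (inv_mem hlN))
  have hT0p : IsPGroup 2 T0 := (T.isPGroup'.map _).map _
  have hJT0 : J ≤ T0 := fun x hx =>
    ⟨(l : G) * x * (l : G)⁻¹, hJ1T (hJl ▸ ⟨x, hx, rfl⟩), by
      show (l : G)⁻¹ * ((l : G) * x * (l : G)⁻¹) * (l : G)⁻¹⁻¹ = x; group⟩
  have hT0max : ∀ X : Subgroup G, IsPGroup 2 X → X ≤ (Subgroup.normalizer (L1 : Set G)) → T0 ≤ X → X = T0 := by
    intro X hX hXN hle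
    refine (Subgroup.eq_of_le_of_card_ge hle ?_).symm
    obtain ⟨SX, hSX⟩ := (hX.of_equiv (Subgroup.subgroupOfEquivOfLe hXN).symm).exists_le_sylow
    rw [hT0, Subgroup.card_map_of_injective (MulAut.conj (l : G)⁻¹).injective, hT',
      Subgroup.card_map_of_injective (Subgroup.normalizer (L1 : Set G)).subtype_injective,
      ← Nat.card_congr (Subgroup.subgroupOfEquivOfLe hXN).toEquiv]
    exact (Subgroup.card_le_of_le hSX).trans (by rw [SX.card_eq_multiplicity, T.card_eq_multiplicity])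
  have hTJ : ∀ t ∈ T0, ∀ x ∈ J, t * x * t⁻¹ ∈ J := by
    have hW := hmax (T0 ⊓ L1) (hT0p.to_le inf_le_left) inf_le_right (le_inf hJT0 m1.Jle)
    intro t ht x hx
    rw [← hW]
    exact ⟨T0.mul_mem (T0.mul_mem ht (hJT0 hx)) (T0.inv_mem ht),
      (Subgroup.mem_normalizer_iff.mp (hT0N ht) x).mp (m1.Jle hx)⟩
  have TV1 : T0 ≤ Subgroup.normalizer (V1 : Set G) := hT0N.trans e1.ge
  have hne : V1 ≠ V2 := fun h => by
    obtain ⟨w, hw⟩ := m1.exists_lift (up 1)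
    have hwJ : (w : G) ∈ J := (m1.mem_J w).mpr ⟨1, hw⟩
    rw [hJdef, ← h, sup_idem] at hwJ
    have h' := (m1.ker w).mpr hwJ
    rw [hw, ← up_zero] at h'
    exact one_ne_zero (α := F) (up_inj h')
  have TV2 : T0 ≤ Subgroup.normalizer (V2 : Set G) := by
    intro t ht
    set W := V2.map (MulAut.conj t).toMonoidHom with hW
    have hWm : ∀ x ∈ W, x ∈ V1 ∨ x ∈ V2 := by
      rintro _ ⟨x, hx, rfl⟩
      exact mem_or_mem_of_mods m1 m2 rfl (hTJ t ht x (m2.V_le_J hx))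
        (by rw [← map_mul, m2.mul_self hx, map_one])
    have hor : W ≤ V1 ∨ W ≤ V2 := by
      by_contra h
      push Not at h
      obtain ⟨⟨x, hx, hx1⟩, ⟨y, hy, hy2⟩⟩ :=
        And.intro (SetLike.not_le_iff_exists.mp h.1) (SetLike.not_le_iff_exists.mp h.2)
      have hx2 := (hWm x hx).resolve_left hx1
      have hy1 := (hWm y hy).resolve_right hy2
      rcases hWm _ (mul_mem hx hy) with hm | hm
      · exact hx1 (by simpa using mul_mem hm (inv_mem hy1))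
      · exact hy2 (by simpa using mul_mem (inv_mem hx2) hm)
    have hc : Nat.card W = Nat.card F * Nat.card F :=
      (Subgroup.card_map_of_injective (MulAut.conj t).injective).trans m2.card_V
    rcases hor with h | h
    · exfalso
      have e : W = V1 := Subgroup.eq_of_le_of_card_ge h (by rw [hc, m1.card_V])
      have e' := Subgroup.mem_normalizer_iff_map_conj_eq.mp (TV1 ht)
      exact hne (Subgroup.map_injective (MulAut.conj t).injective (e'.trans e.symm))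
    · exact Subgroup.mem_normalizer_iff_map_conj_eq.mpr
        (Subgroup.eq_of_le_of_card_ge h (Subgroup.card_map_of_injective (MulAut.conj t).injective).ge)
  refine ⟨T0, ⟨{ m1 := m1, m2 := m2, Jeq := rfl, e := e, he := he, hF := hF, nL1 := e1.le, nL2 := e2.le,
                 TV1 := TV1, TV2 := TV2, core := ?_, char2 := hG }⟩⟩
  intro D hD hD1 _ hTD hL1D hL2D
  have hDT : D ≤ T0 := by
    rw [← hT0max (D ⊔ T0) (hD.to_sup_of_normal_left' hT0p hTD) (sup_le (hD1.trans e1.le) hT0N) le_sup_right]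
    exact le_sup_left
  set Y := T' ⊔ L1 ⊔ L2
  have hTY : T0 ≤ Y := by
    rintro _ ⟨x, hx, rfl⟩
    have hlY : (l : G) ∈ Y := Subgroup.mem_sup_left (Subgroup.mem_sup_right l.2)
    exact mul_mem (mul_mem (inv_mem hlY) (Subgroup.mem_sup_left (Subgroup.mem_sup_left hx))) (inv_mem (inv_mem hlY))
  have hYD : Y ≤ Subgroup.normalizer (D : Set G) := by
    refine sup_le (sup_le ?_ hL1D) hL2D
    intro x hx
    have hx' : (l : G)⁻¹ * x * (l : G)⁻¹⁻¹ ∈ T0 := ⟨x, hx, rfl⟩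
    have := mul_mem (mul_mem (hL1D l.2) (hTD hx')) (inv_mem (hL1D l.2))
    convert this using 1
    group
  have h := Grp.le_pCore (p := 2) (Subgroup.normal_subgroupOf_of_le_normalizer hYD)
    (hD.of_equiv (Subgroup.subgroupOfEquivOfLe (hDT.trans hTY)).symm)
  rw [show Cfsg.pCore 2 ↥Y = ⊥ from hO, le_bot_iff, Subgroup.subgroupOf_eq_bot, disjoint_iff, inf_eq_left.mpr (hDT.trans hTY)] at h
  exact h

end Cfsg.Agent.Invol.NatPair
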