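import Cfsg.Agent.Lib.Invol.NatPair.Opposite
import Cfsg.Agent.S2401

/-!
# The six root subgroups satisfy Steinberg's relations for `SL(3, q)`
-/

set_option autoImplicit false
set_option linter.unusedSectionVars false
set_option linter.style.haveILetI false

namespace Cfsg.Agent.Invol.NatPair

open Matrix Cfsg.Agent.Grp.SL2
open Cfsg.Agent.Invol.SL2Nat (wel)

universe u v

variable {G : Type u} [Group G] [Finite G] {F : Type v} [Field F] [Finite F] [CharP F 2]

omit [Finite F] in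
/-- The upper unitriangular matrices and one further element outside the Borel subgroup generate. -/
theorem eq_top_of_upper (K : Subgroup (Matrix.SpecialLinearGroup (Fin 2) F)) (hu : ∀ t, up t ∈ K)
    {A : Matrix.SpecialLinearGroup (Fin 2) F} (hA : A ∈ K) (hc : (A : Matrix (Fin 2) (Fin 2) F) 1 0 ≠ 0) :
    K = ⊤ := by
  set a := (A : Matrix (Fin 2) (Fin 2) F) 0 0 with ha
  set c := (A : Matrix (Fin 2) (Fin 2) F) 1 0 with hc'
  set d := (A : Matrix (Fin 2) (Fin 2) F) 1 1 with hd'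
  set B := up (a / c) * A * up (d / c) with hB
  have hBK : B ∈ K := mul_mem (mul_mem (hu _) hA) (hu _)
  have hBv : (B : Matrix (Fin 2) (Fin 2) F) = (up (a / c)).1 * A.1 * (up (d / c)).1 := rfl
  have b00 : (B : Matrix (Fin 2) (Fin 2) F) 0 0 = 0 := by
    simp [hBv, up, Matrix.mul_apply, Matrix.vecMul, dotProduct, Fin.sum_univ_two, ← ha, ← hc', div_mul_cancel₀ _ hc, CharTwo.add_self_eq_zero]
  have b10 : (B : Matrix (Fin 2) (Fin 2) F) 1 0 = c := by
    simp [hBv, up, Matrix.mul_apply, Matrix.vecMul, dotProduct, Fin.sum_univ_two, ← hc']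
  have b11 : (B : Matrix (Fin 2) (Fin 2) F) 1 1 = 0 := by
    simp [hBv, up, Matrix.mul_apply, Matrix.vecMul, dotProduct, Fin.sum_univ_two, ← hc', ← hd', mul_div_cancel₀ _ hc, CharTwo.add_self_eq_zero]
  have b01 : (B : Matrix (Fin 2) (Fin 2) F) 0 1 = c⁻¹ := by
    have h := det_eq B
    rw [b00, b10, b11, zero_mul, zero_sub, CharTwo.neg_eq] at h
    exact eq_inv_of_mul_eq_one_left h
  have hl : ∀ t, low t ∈ K := fun t => by
    have : low t = B * up (t / (c * c)) * B := Subtype.ext (by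
      show (low t).1 = B.1 * (up (t / (c * c))).1 * B.1
      ext i j
      fin_cases i <;> fin_cases j <;>
        simp [low, up, Matrix.mul_apply, Matrix.vecMul, dotProduct, Fin.sum_univ_two, b00, b01, b10, b11] <;> field_simp)
    rw [this]
    exact mul_mem (mul_mem hBK (hu _)) hBK
  refine SL2Nat.generated K hu ?_
  have hwel : (wel : Matrix.SpecialLinearGroup (Fin 2) F) = up 1 * low 1 * up 1 := Subtype.ext (by
    show (wel : Matrix.SpecialLinearGroup (Fin 2) F).1 = (up (1 : F)).1 * (low (1 : F)).1 * (up (1 : F)).1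
    ext i j
    fin_cases i <;> fin_cases j <;>
      simp [up, low, wel, Matrix.mul_apply, Matrix.vecMul, dotProduct, Fin.sum_univ_two, CharTwo.add_self_eq_zero, CharTwo.neg_eq])
  rw [hwel]
  exact mul_mem (mul_mem (hu 1) (hl 1)) (hu 1)

omit [Finite F] in
theorem three_eq : (3 : F) = 1 := by linear_combination (CharTwo.two_eq_zero (R := F))

omit [Finite F] in
theorem four_eq : (4 : F) = 0 := by linear_combination 2 * (CharTwo.two_eq_zero (R := F))

namespace Weyl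

variable {L1 L2 V1 V2 J T : Subgroup G} {P : Pair L1 L2 V1 V2 J T F} {D : Torus P} (W : Weyl D)

/-- The root subgroup opposite to `x12`. -/
noncomputable def x21 (t : F) : G := W.s1 * D.x12 t * W.s1⁻¹

/-- The root subgroup opposite to `x23`. -/
noncomputable def x32 (t : F) : G := W.s2 * D.x23 t * W.s2⁻¹

/-- The root subgroup opposite to `x13`. -/
noncomputable def x31 (t : F) : G := W.s1 * W.x32 t * W.s1⁻¹

include W

theorem inv1 : W.s1⁻¹ = W.s1 := inv_eq_of_mul_eq_one_left W.sq1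

theorem inv2 : W.s2⁻¹ = W.s2 := inv_eq_of_mul_eq_one_left W.sq2

theorem cc1 (x : G) : W.s1 * (W.s1 * x * W.s1⁻¹) * W.s1⁻¹ = x := by
  rw [show W.s1 * (W.s1 * x * W.s1⁻¹) * W.s1⁻¹ = (W.s1 * W.s1) * x * (W.s1 * W.s1)⁻¹ by group, W.sq1,
    one_mul, inv_one, mul_one]

theorem cc2 (x : G) : W.s2 * (W.s2 * x * W.s2⁻¹) * W.s2⁻¹ = x := by
  rw [show W.s2 * (W.s2 * x * W.s2⁻¹) * W.s2⁻¹ = (W.s2 * W.s2) * x * (W.s2 * W.s2)⁻¹ by group, W.sq2,
    one_mul, inv_one, mul_one]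

theorem conj_x21 {h : G} (hh : h ∈ D.H) (t : F) :
    h * W.x21 t * h⁻¹ = W.x21 (P.delta h / P.alpha h * t) := by
  rw [x21, x21, ← (W.a1 h hh).1, ← (W.a1 h hh).2, ← D.conj_x12 (W.h1 h hh)]
  simp [mul_assoc, W.inv1, W.sq1, ← mul_assoc W.s1 W.s1]

theorem conj_x32 {h : G} (hh : h ∈ D.H) (t : F) : h * W.x32 t * h⁻¹ = W.x32 ((P.delta h)⁻¹ * t) := by
  rw [x32, x32, ← (W.a2 h hh).2, ← D.conj_x23 (W.h2 h hh)]
  simp [mul_assoc, W.inv2, W.sq2, ← mul_assoc W.s2 W.s2]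

theorem conj_x31 {h : G} (hh : h ∈ D.H) (t : F) : h * W.x31 t * h⁻¹ = W.x31 ((P.alpha h)⁻¹ * t) := by
  rw [x31, x31, ← (W.a1 h hh).2, ← W.conj_x32 (W.h1 h hh)]
  simp [mul_assoc, W.inv1, W.sq1, ← mul_assoc W.s1 W.s1]

theorem x21_add (s t : F) : W.x21 (s + t) = W.x21 s * W.x21 t := by rw [x21, x21, x21, D.x12_add]; group

theorem x32_add (s t : F) : W.x32 (s + t) = W.x32 s * W.x32 t := by rw [x32, x32, x32, D.x23_add]; group

theorem x31_add (s t : F) : W.x31 (s + t) = W.x31 s * W.x31 t := by rw [x31, x31, x31, W.x32_add]; group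

theorem x32_inj {s t : F} (h : W.x32 s = W.x32 t) : s = t :=
  D.x23_inj (mul_left_cancel (mul_right_cancel h))

theorem x31_inj {s t : F} (h : W.x31 s = W.x31 t) : s = t :=
  W.x32_inj (mul_left_cancel (mul_right_cancel h))

theorem x31_zero : W.x31 0 = 1 := by rw [x31, x32, D.x23_zero]; group

theorem x32_zero : W.x32 0 = 1 := by rw [x32, D.x23_zero]; group

/-- The commutator relation inside `J`. -/
theorem rel_base (t u : F) : D.x12 t * D.x23 u = D.x13 (t * u) * D.x23 u * D.x12 t := by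
  have h := P.conj_up (P.V2_le_L1 (D.x12_mem t)) (D.ρ_x12 t) (D.x23_mem u)
  rw [D.co_x23, ← Torus.x13.eq_def D] at h
  rw [← h]; group

theorem not_commute_base : ¬ Commute (D.x12 1) (D.x23 1) := fun hc => by
  have h := W.rel_base 1 1
  rw [mul_one, mul_assoc, ← hc.eq, eq_comm, mul_eq_right] at h
  exact one_ne_zero (D.x13_inj (h.trans D.x13_zero.symm))

theorem opp21 : D.Opp (W.s2 * W.s1 * W.s2) := by
  refine ⟨fun h hh => ?_, fun hall => ?_⟩
  · have e : (W.s2 * W.s1 * W.s2)⁻¹ * h * (W.s2 * W.s1 * W.s2) =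
        W.s2 * (W.s1 * (W.s2 * h * W.s2⁻¹) * W.s1⁻¹) * W.s2⁻¹ := by
      simp only [_root_.mul_inv_rev, W.inv1, W.inv2, mul_assoc]
    have m1 := W.h2 h hh
    have m2 := W.h1 _ m1
    have ha := P.alpha_ne_zero (D.mem hh)
    have hd := P.delta_ne_zero (D.mem hh)
    refine e ▸ ⟨W.h2 _ m2, ?_⟩
    rw [(W.a2 _ m2).1, (W.a1 _ m1).1, (W.a1 _ m1).2, (W.a2 h hh).1, (W.a2 h hh).2]
    field_simp
  · have h := hall (1 : F)
    have e : W.s2 * W.s1 * W.s2 * D.x13 1 * (W.s2 * W.s1 * W.s2)⁻¹ = W.s2 * W.x21 1 * W.s2⁻¹ := by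
      rw [x21, ← W.w2]; group
    rw [e] at h
    obtain ⟨h1, h2⟩ := h
    rw [P.Z_eq_vec h1 h2, ← Torus.x13.eq_def D] at e
    have e' : W.x21 1 = W.s2 * D.x13 (P.m1.co (W.s2 * W.x21 1 * W.s2⁻¹) 0) * W.s2⁻¹ := by
      rw [show D.x13 (P.m1.co (W.s2 * W.x21 1 * W.s2⁻¹) 0) = W.s2 * W.x21 1 * W.s2⁻¹ from
        (P.Z_eq_vec h1 h2).symm, W.cc2]
    rw [W.w2] at e'
    have hJ : W.x21 1 ∈ J := e' ▸ P.V2_le_J (D.x12_mem _)
    have hc := (P.Z_central (D.x13_mem 1).1 (D.x13_mem 1).2 hJ).map (MulAut.conj W.s1).toMonoidHom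
    rw [show (MulAut.conj W.s1).toMonoidHom (D.x13 1) = D.x23 1 from W.w1 1,
      show (MulAut.conj W.s1).toMonoidHom (W.x21 1) = D.x12 1 from W.cc1 _] at hc
    exact W.not_commute_base hc.symm

theorem opp31 : D.Opp (W.s1 * W.s2 * W.s1) := by
  refine ⟨fun h hh => ?_, fun hall => ?_⟩
  · have e : (W.s1 * W.s2 * W.s1)⁻¹ * h * (W.s1 * W.s2 * W.s1) =
        W.s1 * (W.s2 * (W.s1 * h * W.s1⁻¹) * W.s2⁻¹) * W.s1⁻¹ := by
      simp only [_root_.mul_inv_rev, W.inv1, W.inv2, mul_assoc]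
    have m1 := W.h1 h hh
    have m2 := W.h2 _ m1
    refine e ▸ ⟨W.h1 _ m2, ?_⟩
    rw [(W.a1 _ m2).1, (W.a2 _ m1).2, (W.a1 h hh).2]
  · have h := hall (1 : F)
    have e : W.s1 * W.s2 * W.s1 * D.x13 1 * (W.s1 * W.s2 * W.s1)⁻¹ = W.x31 1 := by
      rw [x31, x32, ← W.w1]; group
    rw [e] at h
    set r := P.m1.co (W.x31 1) 0
    have e31 : W.x31 1 = D.x13 r := P.Z_eq_vec h.1 h.2
    have e32 : W.x32 1 = D.x23 r := by rw [← W.w1, ← e31, x31, W.cc1]
    have hr : r ≠ 0 := fun h0 => one_ne_zero (α := F) (W.x31_inj (by rw [e31, h0, D.x13_zero, W.x31_zero]))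
    have hc : Commute (D.x13 1) (D.x23 1) := P.m1.mul_comm_V (D.x13_mem 1).1 (D.x23_mem 1)
    have hc' := hc.map (MulAut.conj W.s2).toMonoidHom
    rw [show (MulAut.conj W.s2).toMonoidHom (D.x13 1) = D.x12 1 from W.w2 1,
      show (MulAut.conj W.s2).toMonoidHom (D.x23 1) = D.x23 r from e32] at hc'
    have h3 := W.rel_base 1 r
    rw [one_mul, mul_assoc, ← hc'.eq, eq_comm, mul_eq_right] at h3
    exact hr (D.x13_inj (h3.trans D.x13_zero.symm))

theorem exists_c (h8 : 8 ≤ Nat.card F) :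
    ∃ c, c ≠ 0 ∧ ∀ t, W.s2 * W.x21 t * W.s2⁻¹ = W.x31 (c * t) := by
  have hex : ∀ t, ∃ r, W.s2 * W.x21 t * W.s2⁻¹ = W.x31 r := fun t => by
    obtain ⟨r, hr⟩ := D.opposite_unique h8 W.opp21 W.opp31 t
    refine ⟨r, ?_⟩
    rw [x21, x31, x32, ← W.w2, ← W.w1]
    convert hr using 1 <;> group
  choose π hπ using hex
  have hlin : ∀ a t, π (a * t) = a * π t := fun a t => by
    by_cases ha : a = 0
    · subst ha
      rw [zero_mul, zero_mul]
      refine W.x31_inj ((hπ 0).symm.trans ?_)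
      rw [W.x31_zero, x21, show D.x12 0 = 1 by
        have := D.x12_add 0 0; rwa [add_zero, eq_comm, mul_eq_left] at this]
      group
    obtain ⟨h, hh, e1, e2⟩ := D.exists_torus2 ha
    refine W.x31_inj ?_
    have hw : (P.alpha (W.s2 * h * W.s2⁻¹))⁻¹ = a := by rw [(W.a2 h hh).1, e1, e2]; field_simp
    have hw' : P.delta h / P.alpha h = a := by rw [e1, e2]; field_simp
    rw [← hπ, ← hw', ← W.conj_x21 hh, hw']
    conv_rhs => rw [← hw, ← W.conj_x31 (W.h2 h hh), ← hπ]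
    group
  refine ⟨π 1, fun h0 => ?_, fun t => ?_⟩
  · have h := hπ 1
    rw [h0, W.x31_zero, conj_eq_one_iff, x21, conj_eq_one_iff] at h
    refine one_ne_zero (α := F) (D.x12_inj (h.trans ?_))
    have := D.x12_add 0 0
    rwa [add_zero, eq_comm, mul_eq_left, eq_comm] at this
  · rw [hπ t, mul_comm (π 1), ← hlin, mul_one]

theorem exists_scalar (h8 : 8 ≤ Nat.card F) :
    ∃ h ∈ D.H, P.alpha h = P.delta h ∧ P.alpha h ≠ 1 := by
  classical
  haveI := Fintype.ofFinite F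
  obtain ⟨c, hc0, hc⟩ : ∃ c : F, c ≠ 0 ∧ c ^ 3 ≠ 1 := by
    by_contra h
    push Not at h
    have hsub : (Finset.univ.erase (0 : F)) ⊆ (Polynomial.nthRoots 3 (1 : F)).toFinset := fun c hc => by
      rw [Multiset.mem_toFinset, Polynomial.mem_nthRoots (by norm_num)]
      exact h c (Finset.mem_erase.mp hc).1
    have h1 := (Finset.card_le_card hsub).trans
      ((Multiset.toFinset_card_le _).trans (Polynomial.card_nthRoots 3 1))
    rw [Finset.card_erase_of_mem (Finset.mem_univ _), Finset.card_univ, ← Nat.card_eq_fintype_card] at h1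
    omega
  obtain ⟨h, hh, e1, e2⟩ := D.exists_torus1 hc0
  obtain ⟨h', hh', f1, f2⟩ := D.exists_torus2 (mul_ne_zero hc0 hc0)
  refine ⟨h * h', mul_mem hh hh', ?_, ?_⟩
  · rw [P.alpha_mul (D.mem hh) (D.mem hh'), P.delta_mul (D.mem hh) (D.mem hh'), (D.lin h hh).2,
      (D.lin h hh).2, e1, e2, f1, f2]
    field_simp
  · rw [P.alpha_mul (D.mem hh) (D.mem hh'), (D.lin h hh).2, e1, f1]
    intro e
    apply hc
    linear_combination e

theorem ρ_x21 (t : F) (h : W.x21 t ∈ L1) : P.m1.ρ ⟨W.x21 t, h⟩ = up D.s0 * low t * up D.s0 := by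
  rw [show (⟨W.x21 t, h⟩ : L1) = ⟨W.s1, W.m1⟩ * ⟨D.x12 t, P.V2_le_L1 (D.x12_mem t)⟩ * ⟨W.s1, W.m1⟩⁻¹ from
      Subtype.ext rfl, map_mul, map_mul, map_inv, W.ρ1 W.m1, D.ρ_x12]
  refine Subtype.ext ?_
  show (up D.s0).1 * wel.1 * (up D.s0).1 * (up t).1 * Matrix.adjugate ((up D.s0).1 * wel.1 * (up D.s0).1) =
    (up D.s0).1 * (low t).1 * (up D.s0).1
  ext i j
  fin_cases i <;> fin_cases j <;>
    simp [up, low, wel, Matrix.mul_apply, Matrix.vecMul, dotProduct, Fin.sum_univ_two, CharTwo.neg_eq, CharTwo.add_self_eq_zero,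
      Matrix.adjugate_fin_two] <;> ring_nf <;>
      simp [CharTwo.two_eq_zero, three_eq, four_eq]

/-- The first Weyl involution is a product of root elements. -/
theorem s1_eq (h8 : 8 ≤ Nat.card F) : W.s1 = D.x12 1 * W.x21 1 * D.x12 1 := by
  set w := D.x12 1 * W.x21 1 * D.x12 1 with hwdef
  have h12 := P.V2_le_L1 (D.x12_mem (1 : F))
  have h21 : W.x21 1 ∈ L1 := mul_mem (mul_mem W.m1 h12) (inv_mem W.m1)
  have hρ : P.m1.ρ ⟨W.s1, W.m1⟩ = P.m1.ρ ⟨w, mul_mem (mul_mem h12 h21) h12⟩ := by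
    rw [show (⟨w, mul_mem (mul_mem h12 h21) h12⟩ : L1) = ⟨_, h12⟩ * ⟨_, h21⟩ * ⟨_, h12⟩ from rfl, map_mul,
      map_mul, D.ρ_x12, W.ρ_x21, W.ρ1]
    refine Subtype.ext ?_
    show (up D.s0).1 * wel.1 * (up D.s0).1 =
      (up (1 : F)).1 * ((up D.s0).1 * (low (1 : F)).1 * (up D.s0).1) * (up (1 : F)).1
    ext i j
    fin_cases i <;> fin_cases j <;>
      simp [up, low, wel, Matrix.mul_apply, Matrix.vecMul, dotProduct, Fin.sum_univ_two, CharTwo.neg_eq, CharTwo.add_self_eq_zero] <;>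
        ring_nf <;>
      simp [CharTwo.two_eq_zero, three_eq, four_eq]
  have hv := P.m1.mem_of_ρ_eq hρ
  obtain ⟨h, hh, he, h1⟩ := W.exists_scalar h8
  have c12 : h * D.x12 1 * h⁻¹ = D.x12 1 := by
    rw [D.conj_x12 hh, he, div_self (P.delta_ne_zero (D.mem hh)), one_mul]
  have c21 : h * W.x21 1 * h⁻¹ = W.x21 1 := by
    rw [W.conj_x21 hh, he, div_self (P.delta_ne_zero (D.mem hh)), one_mul]
  have cs : W.s1 * h * W.s1⁻¹ = h := D.eq_of_coords (W.h1 h hh) hh
    (by rw [(W.a1 h hh).1, he]) (by rw [(W.a1 h hh).2, he])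
  have cw : h * w * h⁻¹ = w := by
    rw [hwdef, show h * (D.x12 1 * W.x21 1 * D.x12 1) * h⁻¹ =
      (h * D.x12 1 * h⁻¹) * (h * W.x21 1 * h⁻¹) * (h * D.x12 1 * h⁻¹) by group, c12, c21]
  have hs : Commute h W.s1 := ((mul_inv_eq_iff_eq_mul.mp cs) : W.s1 * h = h * W.s1).symm
  have hw : Commute h w := mul_inv_eq_iff_eq_mul.mp cw
  have := D.fixed_V1 hh h1 (he ▸ h1) hv (mul_inv_eq_iff_eq_mul.mpr (hs.inv_right.mul_right hw).eq)
  exact inv_mul_eq_one.mp this

/-- The constant is trivial. -/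
theorem s2_x21 (h8 : 8 ≤ Nat.card F) (t : F) : W.s2 * W.x21 t * W.s2⁻¹ = W.x31 t := by
  obtain ⟨c, hc0, hc⟩ := W.exists_c h8
  suffices h : c = 1 by rw [hc, h, one_mul]
  let f1 := (MulAut.conj W.s1).toMonoidHom
  let f2 := (MulAut.conj W.s2).toMonoidHom
  have f1_12 : ∀ t, f1 (D.x12 t) = W.x21 t := fun t => rfl
  have f1_21 : ∀ t, f1 (W.x21 t) = D.x12 t := fun t => W.cc1 _
  have f1_13 : ∀ t, f1 (D.x13 t) = D.x23 t := W.w1
  have f1_23 : ∀ t, f1 (D.x23 t) = D.x13 t := fun t => by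
    show W.s1 * D.x23 t * W.s1⁻¹ = _
    rw [← W.w1, W.cc1]
  have f1_32 : ∀ t, f1 (W.x32 t) = W.x31 t := fun t => rfl
  have f1_31 : ∀ t, f1 (W.x31 t) = W.x32 t := fun t => W.cc1 _
  have f2_13 : ∀ t, f2 (D.x13 t) = D.x12 t := W.w2
  have f2_23 : ∀ t, f2 (D.x23 t) = W.x32 t := fun t => rfl
  have f2_21 : ∀ t, f2 (W.x21 t) = W.x31 (c * t) := hc
  have hc13 : ∀ a b, Commute (W.x21 a) (D.x23 b) := fun a b => by
    have h : Commute (D.x12 a) (D.x13 b) := P.m2.mul_comm_V (D.x12_mem a) (D.x13_mem b).2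
    have h := h.map f1
    rwa [f1_12, f1_13] at h
  have h13_23 : ∀ a b, Commute (D.x13 a) (D.x23 b) := fun a b =>
    P.m1.mul_comm_V (D.x13_mem a).1 (D.x23_mem b)
  have h32_12 : ∀ a b, Commute (W.x32 a) (D.x12 b) := fun a b => by
    have h := (h13_23 b a).map f2
    rw [f2_13, f2_23] at h
    exact h.symm
  have h31_32 : ∀ a b, Commute (W.x31 a) (W.x32 b) := fun a b => by
    have h := (hc13 (a / c) b).map f2
    rwa [f2_21, f2_23, mul_div_cancel₀ _ hc0] at h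
  have h31_21 : ∀ a b, Commute (W.x31 a) (W.x21 b) := fun a b => by
    have h := (h32_12 a b).map f1
    rwa [f1_32, f1_12] at h
  have relA : ∀ a b, W.x31 a * D.x12 b = W.x32 (a * b / c) * D.x12 b * W.x31 a := fun a b => by
    have h := congrArg f1 (W.rel_base (a / c) b)
    simp only [map_mul, f1_12, f1_13, f1_23] at h
    have h := congrArg f2 h
    simp only [map_mul, f2_21, f2_13, f2_23, mul_div_cancel₀ _ hc0] at h
    rwa [div_mul_eq_mul_div] at h
  have relB : ∀ a b, W.x32 a * W.x21 b = W.x31 (a * b / c) * W.x21 b * W.x32 a := fun a b => by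
    have h := congrArg f1 (relA a b)
    simpa only [map_mul, f1_31, f1_12, f1_32] using h
  have sq : ∀ {x : F → G}, (∀ s t, x (s + t) = x s * x t) → ∀ b, x b * x b = 1 := fun {x} ha b => by
    have h0 := ha 0 0
    rw [add_zero, eq_comm, mul_eq_left] at h0
    rw [← ha, CharTwo.add_self_eq_zero, h0]
  set a := D.x12 (1 : F) with hadef
  set b := W.x21 (1 : F) with hbdef
  have ha : a * a = 1 := sq D.x12_add 1
  have hb : b * b = 1 := sq W.x21_add 1
  have cA : ∀ T, a * W.x31 T * a = W.x32 (T / c) * W.x31 T := fun T => by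
    rw [mul_assoc, relA, mul_one, ← hadef, ← mul_assoc, ← mul_assoc, ← (h32_12 _ _).eq, ← hadef,
      mul_assoc (W.x32 _) a a, ha, mul_one]
  have cA' : ∀ T, a * W.x32 T * a = W.x32 T := fun T => by
    rw [← (h32_12 T 1).eq, mul_assoc, ha, mul_one]
  have cB : ∀ T, b * W.x32 T * b = W.x31 (T / c) * W.x32 T := fun T => by
    rw [mul_assoc, relB, mul_one, ← hbdef, ← mul_assoc, ← mul_assoc, ← (h31_21 _ _).eq, ← hbdef,
      mul_assoc (W.x31 _) b b, hb, mul_one]
  have cB' : ∀ T, b * W.x31 T * b = W.x31 T := fun T => by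
    rw [← (h31_21 T 1).eq, mul_assoc, hb, mul_one]
  have key := (W.cc1 (W.x32 (1 : F))).symm
  rw [← x31, W.inv1, W.s1_eq h8] at key
  have e : a * b * a * W.x31 1 * (a * b * a) =
      W.x32 ((1 / c / c + 1) / c) * W.x31 (1 / c / c + 1) * W.x32 (1 / c) := by
    calc a * b * a * W.x31 1 * (a * b * a) = a * (b * (a * W.x31 1 * a) * b) * a := by group
      _ = a * ((b * W.x32 (1 / c) * b) * (b * W.x31 1 * b)) * a := by
          rw [cA]
          congr 2
          calc b * (W.x32 (1 / c) * W.x31 1) * b = b * W.x32 (1 / c) * (b * b) * W.x31 1 * b := by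
                rw [hb]; group
            _ = _ := by group
      _ = a * (W.x31 (1 / c / c) * W.x32 (1 / c) * W.x31 1) * a := by rw [cB, cB']
      _ = a * (W.x31 (1 / c / c + 1) * W.x32 (1 / c)) * a := by
          rw [W.x31_add, mul_assoc (W.x31 (1 / c / c)) (W.x31 1), (h31_32 1 (1 / c)).eq,
            ← mul_assoc (W.x31 (1 / c / c))]
      _ = (a * W.x31 (1 / c / c + 1) * a) * (a * W.x32 (1 / c) * a) := by
          conv_rhs => rw [show (a * W.x31 (1 / c / c + 1) * a) * (a * W.x32 (1 / c) * a) =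
            a * W.x31 (1 / c / c + 1) * (a * a) * W.x32 (1 / c) * a by group, ha]
          group
      _ = _ := by rw [cA, cA']
  rw [e, mul_assoc, (h31_32 _ _).eq, ← mul_assoc, ← W.x32_add] at key
  set A := 1 / c / c + 1 with hA
  set B := A / c + 1 / c with hB
  have h31 : W.x31 A = W.x32 (B + 1) := by
    rw [W.x32_add, key, ← mul_assoc, sq W.x32_add B, one_mul]
  have hd : P.delta D.k ≠ 1 := D.kd
  have hz : B + 1 = 0 := by
    have h := W.conj_x31 D.kH A
    rw [D.alpha_k, inv_one, one_mul, h31, W.conj_x32 D.kH] at h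
    by_contra hne
    exact hd (inv_eq_one.mp ((mul_left_eq_self₀.mp (W.x32_inj h)).resolve_right hne))
  have hA0 : A = 0 := W.x31_inj (by rw [h31, hz, W.x32_zero, W.x31_zero])
  have hc2 : c * c = 1 := by
    rw [hA, CharTwo.add_eq_zero, div_div, one_div, inv_eq_one] at hA0
    exact hA0
  exact P.eq_one_of_two_pow (k := 1) (by rw [pow_one, pow_two, hc2])

end Weyl

end Cfsg.Agent.Invol.NatPair
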