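import Cfsg.Agent.Lib.Invol.NatPair.Kernel

/-!
# A common torus and the positive root subgroups
-/

set_option autoImplicit false
set_option linter.unusedSectionVars false
set_option linter.style.haveILetI false

namespace Cfsg.Agent.Invol.NatPair

open Matrix Cfsg.Agent.Grp.SL2
open Cfsg.Agent.Invol.Nat2 (mulVec_up)

universe u v

variable {G : Type u} [Group G] [Finite G] {F : Type v} [Field F] [Finite F] [CharP F 2]

namespace Pair

variable {L1 L2 V1 V2 J T : Subgroup G} (P : Pair L1 L2 V1 V2 J T F)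
include P

theorem swap_lin {n : G} (hn : n ∈ both V1 V2) (hl : P.Lin n) : P.swap.Lin n := by
  have hn' : n ∈ both V2 V1 := P.both_swap.symm ▸ hn
  intro c
  by_cases hc : c = 0
  · rw [hc]; exact P.swap.σ_zero hn'
  obtain ⟨t, ht, hρ, -⟩ := P.swap.exists_torus1 hc
  have ht' : (t : G) ∈ both V1 V2 := P.both_swap ▸ ht
  have htl : P.Lin t := P.lin_torus2 hc hρ ht'
  refine P.m2.σ_eq_of hn'.1 (P.nL2 hn'.1) c c (x := ![1, 0])
    (fun e => one_ne_zero (α := F) (by simpa using congrFun e 0)) ?_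
  set w := P.m2.vec ![1, 0] with hwdef
  have hw1 : w ∈ V1 := P.swap.vec_mem_Z 1
  have hw2 : w ∈ V2 := P.m2.vec_mem _
  have hmv : P.m2.mov (t : G) ![1, 0] = c • ![1, 0] := by
    rw [P.m2.mov_L, show P.m2.ρ t = Nat2.dg c hc from hρ, Nat2.mulVec_dg]
    ext i; fin_cases i <;> simp
  have hmv' : ∀ r : F, P.m2.mov (t : G) ![r, 0] = c • ![r, 0] := fun r => by
    rw [P.m2.mov_L, show P.m2.ρ t = Nat2.dg c hc from hρ, Nat2.mulVec_dg]
    ext i; fin_cases i <;> simp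
  have hline : P.m2.mov n ![1, 0] = ![P.m2.mov n ![1, 0] 0, 0] := by
    ext i; fin_cases i
    · rfl
    · exact P.swap.mov_line hn' 1
  rw [← hmv, hline, ← hmv', ← hline]
  refine P.m2.vec_inj ?_
  rw [← P.m2.vec_mov hn'.1, ← P.m2.vec_mov ht'.2, ← P.m2.vec_mov ht'.2, ← P.m2.vec_mov hn'.1,
    ← hwdef, P.Z_eq_vec hw1 hw2, P.m1.vec_mov ht'.1, P.m1.vec_mov hn.1, P.m1.vec_mov hn.1, P.m1.vec_mov ht'.1,
    P.mov_eq hn, P.mov_eq ht', P.mov_eq hn, P.mov_eq ht']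
  congr 1
  ext i
  fin_cases i <;> simp [hl _, htl _, P.σ_zero hn, P.σ_zero ht'] <;> ring

theorem lin_inv {n : G} (hn : n ∈ both V1 V2) (hl : P.Lin n) : P.Lin n⁻¹ := fun c => by
  have hn' := (both V1 V2).inv_mem hn
  conv_lhs => rw [← hl c]
  rw [← P.m1.σ_comp hn'.1 (P.nL1 hn'.1) hn.1 (P.nL1 hn.1), inv_mul_cancel, P.m1.σ_unit]

/-- The linear part of the common normalizer. -/
def linGroup : Subgroup G where
  carrier := {n | n ∈ both V1 V2 ∧ P.Lin n}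
  one_mem' := ⟨one_mem _, P.lin_one⟩
  mul_mem' := fun ha hb => ⟨mul_mem ha.1 hb.1, P.lin_mul ha.1 hb.1 ha.2 hb.2⟩
  inv_mem' := fun ha => ⟨inv_mem ha.1, P.lin_inv ha.1 ha.2⟩

theorem mem_J_iff_coords {n : G} (hn : n ∈ both V1 V2) (hl : P.Lin n) :
    n ∈ J ↔ P.alpha n = 1 ∧ P.delta n = 1 :=
  ⟨fun h => P.coords_J h, fun h => P.mem_J_of_unipotent hn hl h.1 h.2⟩

theorem J_le_linGroup : J ≤ P.linGroup := fun _ hx => ⟨P.J_le_both hx, P.lin_J hx⟩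

/-- A torus: a complement of `J` in the linear part. -/
theorem exists_torus_group :
    ∃ H : Subgroup G, (∀ h ∈ H, h ∈ both V1 V2 ∧ P.Lin h) ∧ (∀ h ∈ H, ∀ h' ∈ H, Commute h h') ∧
      (∀ h ∈ H, h ∈ J → h = 1) ∧ (∀ n ∈ both V1 V2, P.Lin n → ∃ h ∈ H, h⁻¹ * n ∈ J) := by
  classical
  let χ : P.linGroup →* Fˣ × Fˣ :=
    { toFun := fun n => (Units.mk0 (P.alpha n) (P.alpha_ne_zero n.2.1),
        Units.mk0 (P.delta n) (P.delta_ne_zero n.2.1))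
      map_one' := Prod.ext (Units.ext P.alpha_one) (Units.ext P.delta_one)
      map_mul' := fun a b => Prod.ext
        (Units.ext (show P.alpha ((a : G) * b) = P.alpha a * P.alpha b by
          rw [P.alpha_mul a.2.1 b.2.1, a.2.2, mul_comm]))
        (Units.ext (show P.delta ((a : G) * b) = P.delta a * P.delta b by
          rw [P.delta_mul a.2.1 b.2.1, a.2.2, mul_comm])) }
  have hker : χ.ker = J.subgroupOf P.linGroup := by
    ext n
    rw [MonoidHom.mem_ker, Subgroup.mem_subgroupOf, P.mem_J_iff_coords n.2.1 n.2.2]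
    constructor
    · intro h
      exact ⟨congrArg (fun p : Fˣ × Fˣ => (p.1 : F)) h, congrArg (fun p : Fˣ × Fˣ => (p.2 : F)) h⟩
    · intro h
      ext
      · exact h.1
      · exact h.2
  have hcop : (Nat.card χ.ker).Coprime χ.ker.index := by
    rw [hker, Nat.card_congr (Subgroup.subgroupOfEquivOfLe P.J_le_linGroup).toEquiv, P.card_J, P.hF,
      ← pow_add, ← pow_add, ← hker, Subgroup.index_ker]
    refine Nat.Coprime.pow_left _ (Nat.coprime_two_left.mpr ?_)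
    refine Odd.of_dvd_nat ?_ (Subgroup.card_subgroup_dvd_card χ.range)
    have : Odd (Nat.card Fˣ) := by
      rw [Nat.card_units, P.hF]
      exact Nat.Even.sub_odd (Nat.one_le_two_pow) (Nat.even_pow.mpr ⟨even_two, by have := P.he; omega⟩) odd_one
    rw [Nat.card_prod]
    exact this.mul this
  obtain ⟨H0, hH0⟩ := Subgroup.exists_right_complement'_of_coprime hcop
  refine ⟨H0.map P.linGroup.subtype, ?_, ?_, ?_, ?_⟩
  · rintro _ ⟨h, -, rfl⟩; exact h.2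
  · rintro _ ⟨h, hh, rfl⟩ _ ⟨h', hh', rfl⟩
    have e : h * h' * h⁻¹ * h'⁻¹ ∈ χ.ker ⊓ H0 := ⟨MonoidHom.mem_ker.mpr (by simp [mul_comm (χ h)]),
      H0.mul_mem (H0.mul_mem (H0.mul_mem hh hh') (H0.inv_mem hh)) (H0.inv_mem hh')⟩
    rw [hH0.disjoint.eq_bot, Subgroup.mem_bot] at e
    exact congrArg Subtype.val (mul_inv_eq_iff_eq_mul.mp (mul_inv_eq_one.mp e))
  · rintro _ ⟨h, hh, rfl⟩ hJ
    have e : h ∈ χ.ker ⊓ H0 := ⟨hker ▸ hJ, hh⟩
    rw [hH0.disjoint.eq_bot, Subgroup.mem_bot] at e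
    rw [e]; rfl
  · intro n hn hl
    obtain ⟨⟨⟨j, hj⟩, ⟨h, hh⟩⟩, e⟩ := hH0.2 ⟨n, hn, hl⟩
    have e' : (j : G) * h = n := congrArg Subtype.val e
    have hjJ : (j : G) ∈ J := by rw [hker] at hj; exact hj
    refine ⟨h, ⟨h, hh, rfl⟩, ?_⟩
    rw [← e']
    have := (Subgroup.mem_normalizer_iff.mp (P.both_le_normalizer_J ((both V1 V2).inv_mem h.2.1)) (j : G)).mp hjJ
    convert this using 1
    group

end Pair

/-- A torus with a distinguished element centralizing `Z` and moving `V1/Z`. -/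
structure Torus {L1 L2 V1 V2 J T : Subgroup G} (P : Pair L1 L2 V1 V2 J T F) where
  H : Subgroup G
  lin : ∀ h ∈ H, h ∈ both V1 V2 ∧ P.Lin h
  comm : ∀ h ∈ H, ∀ h' ∈ H, Commute h h'
  disj : ∀ h ∈ H, h ∈ J → h = 1
  cover : ∀ n ∈ both V1 V2, P.Lin n → ∃ h ∈ H, h⁻¹ * n ∈ J
  k : G
  kH : k ∈ H
  kZ : ∀ z ∈ V1, z ∈ V2 → Commute k z
  kd : P.delta k ≠ 1

namespace Torus

variable {L1 L2 V1 V2 J T : Subgroup G} {P : Pair L1 L2 V1 V2 J T F} (D : Torus P)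
include D

theorem mem {h : G} (hh : h ∈ D.H) : h ∈ both V1 V2 := (D.lin h hh).1

theorem exists_of_coords {n : G} (hn : n ∈ both V1 V2) (hl : P.Lin n) :
    ∃ h ∈ D.H, P.alpha h = P.alpha n ∧ P.delta h = P.delta n := by
  obtain ⟨h, hh, hJ⟩ := D.cover n hn hl
  obtain ⟨e1, e2⟩ := P.coords_J hJ
  refine ⟨h, hh, ?_, ?_⟩
  · conv_rhs => rw [← mul_inv_cancel_left h n]
    rw [P.alpha_mul (D.mem hh) (P.J_le_both hJ), (D.lin h hh).2, e1, one_mul]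
  · conv_rhs => rw [← mul_inv_cancel_left h n]
    rw [P.delta_mul (D.mem hh) (P.J_le_both hJ), (D.lin h hh).2, e2, one_mul]

theorem eq_of_coords {h h' : G} (hh : h ∈ D.H) (hh' : h' ∈ D.H) (e1 : P.alpha h = P.alpha h')
    (e2 : P.delta h = P.delta h') : h = h' := by
  have hm := D.H.mul_mem (D.H.inv_mem hh) hh'
  refine inv_mul_eq_one.mp (D.disj _ hm (P.mem_J_of_unipotent (D.mem hm) (D.lin _ hm).2 ?_ ?_))
  · have := P.alpha_mul (D.mem hh) (D.mem hm)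
    rw [mul_inv_cancel_left, (D.lin h hh).2, ← e1] at this
    exact mul_right_cancel₀ (P.alpha_ne_zero (D.mem hh)) (by rw [one_mul]; exact this.symm)
  · have := P.delta_mul (D.mem hh) (D.mem hm)
    rw [mul_inv_cancel_left, (D.lin h hh).2, ← e2] at this
    exact mul_right_cancel₀ (P.delta_ne_zero (D.mem hh)) (by rw [one_mul]; exact this.symm)

theorem exists_torus1 {a : F} (ha : a ≠ 0) : ∃ h ∈ D.H, P.alpha h = a ∧ P.delta h = a⁻¹ := by
  obtain ⟨n, hn, -, hl, h1, h2⟩ := P.exists_torus1 ha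
  obtain ⟨h, hh, e1, e2⟩ := D.exists_of_coords hn hl
  exact ⟨h, hh, e1.trans h1, e2.trans h2⟩

theorem exists_torus2 {a : F} (ha : a ≠ 0) : ∃ h ∈ D.H, P.alpha h = a ∧ P.delta h = a * a := by
  obtain ⟨n, hn, -, hl, h1, h2⟩ := P.exists_torus2 ha
  obtain ⟨h, hh, e1, e2⟩ := D.exists_of_coords hn hl
  exact ⟨h, hh, e1.trans h1, e2.trans h2⟩

theorem exists_kernel {c : F} (hc : c ≠ 0) : ∃ h ∈ D.H, P.alpha h = 1 ∧ P.delta h = c ^ 3 := by
  obtain ⟨n, hn, h2⟩ := P.exists_kernel hc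
  obtain ⟨h, hh, e1, e2⟩ := D.exists_of_coords hn.1 hn.2.1
  exact ⟨h, hh, e1.trans hn.2.2, e2.trans h2⟩

theorem alpha_k : P.alpha D.k = 1 := by
  have h := D.kZ _ (P.m1.vec_mem ![1, 0]) (P.vec_mem_Z 1)
  show P.m1.mov D.k ![1, 0] 0 = 1
  rw [Mod.mov, h.eq, mul_inv_cancel_right, P.m1.co_vec]
  rfl

/-- The root subgroup of `Z`. -/
noncomputable def x13 (_ : Torus P) (t : F) : G := P.m1.vec ![t, 0]

/-- The root subgroup of `V1` outside `Z`. -/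
noncomputable def x23 (D : Torus P) (u : F) : G :=
  D.k * P.m1.vec ![0, u / (P.delta D.k + 1)] * D.k⁻¹ * P.m1.vec ![0, u / (P.delta D.k + 1)]

theorem d1 : P.delta D.k + 1 ≠ 0 := fun e => D.kd (CharTwo.add_eq_zero.mp e)

theorem conj_x13 {h : G} (hh : h ∈ D.H) (t : F) : h * D.x13 t * h⁻¹ = D.x13 (P.alpha h * t) := by
  rw [x13, x13, P.m1.vec_mov (D.mem hh).1, P.mov_eq (D.mem hh), (D.lin h hh).2, (D.lin h hh).2]
  congr 1; ext i; fin_cases i <;> simp [mul_comm]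

theorem x13_mem (t : F) : D.x13 t ∈ V1 ∧ D.x13 t ∈ V2 := ⟨P.m1.vec_mem _, P.vec_mem_Z t⟩

theorem x13_add (s t : F) : D.x13 (s + t) = D.x13 s * D.x13 t := by
  rw [x13, x13, x13, ← P.m1.vec_add]; congr 1; ext i; fin_cases i <;> simp

theorem x13_inj {s t : F} (h : D.x13 s = D.x13 t) : s = t := by simpa using congrFun (P.m1.vec_inj h) 0

/-- The slope of the second eigenvector. -/
noncomputable def s0 (D : Torus P) : F := P.beta D.k / (P.delta D.k + 1)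

theorem x23_eq (u : F) : D.x23 u = P.m1.vec ![u * D.s0, u] := by
  rw [x23, P.m1.vec_mov (D.mem D.kH).1, ← P.m1.vec_add, P.mov_eq (D.mem D.kH), (D.lin _ D.kH).2,
    (D.lin _ D.kH).2]
  congr 1
  have := D.d1
  ext i; fin_cases i <;> simp [s0]
  · ring
  · field_simp

theorem x23_mem (u : F) : D.x23 u ∈ V1 := by rw [D.x23_eq]; exact P.m1.vec_mem _

theorem co_x23 (u : F) : P.m1.co (D.x23 u) 1 = u := by rw [D.x23_eq, P.m1.co_vec]; rfl

theorem x23_add (s t : F) : D.x23 (s + t) = D.x23 s * D.x23 t := by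
  rw [D.x23_eq, D.x23_eq, D.x23_eq, ← P.m1.vec_add]
  congr 1; ext i; fin_cases i <;> simp [add_mul]

theorem x23_inj {s t : F} (h : D.x23 s = D.x23 t) : s = t := by rw [← D.co_x23 s, h, D.co_x23]

/-- An element of `V1` is its `Z`-part times its part outside `Z`. -/
theorem vec_split (x : Fin 2 → F) : P.m1.vec x = D.x13 (x 0 + x 1 * D.s0) * D.x23 (x 1) := by
  rw [D.x23_eq, x13, ← P.m1.vec_add]
  congr 1
  ext i; fin_cases i <;> simp [add_assoc, CharTwo.add_self_eq_zero]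

theorem k_comm_V1 {v : G} (hv : v ∈ V1) :
    D.k * v * D.k⁻¹ * v⁻¹ = D.x23 (P.m1.co v 1 * (P.delta D.k + 1)) := by
  rw [P.m1.inv_eq hv, x23, mul_div_assoc, div_self D.d1, mul_one]
  conv_lhs => rw [← P.m1.vec_co hv]
  rw [show P.m1.vec (P.m1.co v) = P.m1.vec ![P.m1.co v 0, 0] * P.m1.vec ![0, P.m1.co v 1] by
    rw [← P.m1.vec_add]; congr 1; ext i; fin_cases i <;> simp]
  set z := P.m1.vec ![P.m1.co v 0, 0]
  set w := P.m1.vec ![0, P.m1.co v 1]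
  have hz : z ∈ V1 := P.m1.vec_mem _
  have hkw : D.k * w * D.k⁻¹ ∈ V1 :=
    (Subgroup.mem_normalizer_iff.mp (D.mem D.kH).1 w).mp (P.m1.vec_mem _)
  calc D.k * (z * w) * D.k⁻¹ * (z * w) = (D.k * z * D.k⁻¹) * (D.k * w * D.k⁻¹) * (z * w) := by group
    _ = z * ((D.k * w * D.k⁻¹) * z) * w := by
        rw [(D.kZ z hz (P.vec_mem_Z _)).eq, mul_inv_cancel_right]; group
    _ = z * (z * (D.k * w * D.k⁻¹)) * w := by rw [P.m1.mul_comm_V hkw hz]
    _ = D.k * w * D.k⁻¹ * w := by rw [← mul_assoc z, P.m1.mul_self hz, one_mul]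

theorem conj_x23 {h : G} (hh : h ∈ D.H) (u : F) : h * D.x23 u * h⁻¹ = D.x23 (P.delta h * u) := by
  have hv := P.m1.vec_mem ![0, u / (P.delta D.k + 1)]
  have e := D.k_comm_V1 ((Subgroup.mem_normalizer_iff.mp (D.mem hh).1 _).mp hv)
  rw [P.conj_V1_co (D.mem hh) (D.lin h hh).2 hv, P.m1.co_vec] at e
  rw [x23]
  nth_rewrite 2 [← P.m1.inv_eq hv]
  calc h * (D.k * P.m1.vec _ * D.k⁻¹ * (P.m1.vec _)⁻¹) * h⁻¹
      = (h * D.k) * P.m1.vec ![0, u / (P.delta D.k + 1)] * (h * D.k)⁻¹ *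
          (h * P.m1.vec ![0, u / (P.delta D.k + 1)] * h⁻¹)⁻¹ := by group
    _ = D.k * (h * P.m1.vec ![0, u / (P.delta D.k + 1)] * h⁻¹) * D.k⁻¹ *
          (h * P.m1.vec ![0, u / (P.delta D.k + 1)] * h⁻¹)⁻¹ := by rw [(D.comm h hh D.k D.kH).eq]; group
    _ = D.x23 (P.delta h * u) := by
        rw [e]
        congr 1
        have := D.d1
        simp
        field_simp

theorem gamma_k : (1 : F) / P.delta D.k + 1 ≠ 0 := fun e => D.kd (by
  have h0 := P.delta_ne_zero (D.mem D.kH)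
  have e' := CharTwo.add_eq_zero.mp e
  rwa [div_eq_one_iff_eq h0, eq_comm] at e')

/-- A chosen preimage in `V2`. -/
noncomputable def bOf (_ : Torus P) (t : F) : G := Classical.choose (P.exists_b t)

theorem bOf_spec (t : F) : ∃ hb : D.bOf t ∈ V2, P.m1.ρ ⟨D.bOf t, P.V2_le_L1 hb⟩ = up t :=
  Classical.choose_spec (P.exists_b t)

/-- The root subgroup of `V2` outside `Z`. -/
noncomputable def x12 (D : Torus P) (t : F) : G :=
  D.k * D.bOf (t / (1 / P.delta D.k + 1)) * D.k⁻¹ * D.bOf (t / (1 / P.delta D.k + 1))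

theorem x12_mem (t : F) : D.x12 t ∈ V2 := by
  obtain ⟨hb, -⟩ := D.bOf_spec (t / (1 / P.delta D.k + 1))
  exact mul_mem ((Subgroup.mem_normalizer_iff.mp (D.mem D.kH).2 _).mp hb) hb

theorem ρ_k_comm {b : G} (hb : b ∈ V2) {s : F} (hs : P.m1.ρ ⟨b, P.V2_le_L1 hb⟩ = up s)
    (h' : D.k * b * D.k⁻¹ * b ∈ L1) : P.m1.ρ ⟨D.k * b * D.k⁻¹ * b, h'⟩ = up (s * (1 / P.delta D.k + 1)) := by
  have hk' : D.k * b * D.k⁻¹ ∈ L1 :=
    P.V2_le_L1 ((Subgroup.mem_normalizer_iff.mp (D.mem D.kH).2 b).mp hb)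
  rw [show (⟨D.k * b * D.k⁻¹ * b, h'⟩ : L1) = ⟨_, hk'⟩ * ⟨b, P.V2_le_L1 hb⟩ from rfl, map_mul, hs,
    P.conj_up_param (D.mem D.kH) (P.V2_le_J hb) hs hk', (D.lin _ D.kH).2, D.alpha_k, up_mul]
  congr 1
  ring

theorem ρ_x12 (t : F) : P.m1.ρ ⟨D.x12 t, P.V2_le_L1 (D.x12_mem t)⟩ = up t := by
  obtain ⟨hb, hρ⟩ := D.bOf_spec (t / (1 / P.delta D.k + 1))
  rw [show (⟨D.x12 t, P.V2_le_L1 (D.x12_mem t)⟩ : L1) =
    ⟨D.k * D.bOf (t / (1 / P.delta D.k + 1)) * D.k⁻¹ * D.bOf (t / (1 / P.delta D.k + 1)),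
      P.V2_le_L1 (D.x12_mem t)⟩ from rfl, D.ρ_k_comm hb hρ]
  congr 1
  exact div_mul_cancel₀ t D.gamma_k

/-- Commutation with `k` maps `V2` onto the root subgroup. -/
theorem k_comm_V2 {b : G} (hb : b ∈ V2) {s : F} (hs : P.m1.ρ ⟨b, P.V2_le_L1 hb⟩ = up s) :
    D.k * b * D.k⁻¹ * b⁻¹ = D.x12 (s * (1 / P.delta D.k + 1)) := by
  rw [P.m2.inv_eq hb, x12, mul_div_assoc, div_self D.gamma_k, mul_one]
  obtain ⟨hb', hρ'⟩ := D.bOf_spec s
  set c := D.bOf s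
  have hm : c⁻¹ * b ∈ V1 :=
    P.m1.mem_of_ρ_eq (l := ⟨c, P.V2_le_L1 hb'⟩) (m := ⟨b, P.V2_le_L1 hb⟩) (hρ'.trans hs.symm)
  set z := c⁻¹ * b with hz
  have hz2 : z ∈ V2 := mul_mem (inv_mem hb') hb
  have hkc : D.k * c * D.k⁻¹ ∈ V2 := (Subgroup.mem_normalizer_iff.mp (D.mem D.kH).2 c).mp hb'
  calc D.k * b * D.k⁻¹ * b = (D.k * c * D.k⁻¹) * (D.k * z * D.k⁻¹) * (c * z) := by rw [hz]; group
    _ = (D.k * c * D.k⁻¹) * (z * c) * z := by
        rw [(D.kZ z hm hz2).eq, mul_inv_cancel_right]; group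
    _ = (D.k * c * D.k⁻¹) * c * (z * z) := by rw [P.m2.mul_comm_V hz2 hb']; group
    _ = D.k * c * D.k⁻¹ * c := by rw [P.m2.mul_self hz2, mul_one]

theorem conj_x12 {h : G} (hh : h ∈ D.H) (t : F) :
    h * D.x12 t * h⁻¹ = D.x12 (P.alpha h / P.delta h * t) := by
  obtain ⟨hb, hρ⟩ := D.bOf_spec (t / (1 / P.delta D.k + 1))
  set b := D.bOf (t / (1 / P.delta D.k + 1)) with hbdef
  have hb' : h * b * h⁻¹ ∈ V2 := (Subgroup.mem_normalizer_iff.mp (D.mem hh).2 b).mp hb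
  have hs := P.conj_up_param (D.mem hh) (P.V2_le_J hb) hρ (P.V2_le_L1 hb')
  rw [(D.lin h hh).2] at hs
  have e := D.k_comm_V2 hb' hs
  have e1 : h * D.x12 t * h⁻¹ = D.k * (h * b * h⁻¹) * D.k⁻¹ * (h * b * h⁻¹)⁻¹ := by
    have hbi : b⁻¹ = b := P.m2.inv_eq hb
    calc h * D.x12 t * h⁻¹ = h * (D.k * b * D.k⁻¹ * b⁻¹) * h⁻¹ := by rw [hbi]; rfl
      _ = (h * D.k) * b * (h * D.k)⁻¹ * (h * b * h⁻¹)⁻¹ := by group
      _ = _ := by rw [(D.comm h hh D.k D.kH).eq]; group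
  rw [e1, e]
  congr 1
  have := D.gamma_k
  field_simp

theorem eq_one_of_k_fixed {x : G} (hx : x ∈ J) (hc : Commute D.k x) : x ∈ V1 ∧ x ∈ V2 := by
  obtain ⟨s, hs⟩ := P.exists_up hx
  have e : D.k * x * D.k⁻¹ = x := by rw [hc.eq, mul_inv_cancel_right]
  have h' : D.k * x * D.k⁻¹ ∈ L1 := e.symm ▸ P.m1.Jle hx
  have := P.conj_up_param (D.mem D.kH) hx hs h'
  rw [show (⟨D.k * x * D.k⁻¹, h'⟩ : L1) = ⟨x, P.m1.Jle hx⟩ from Subtype.ext e, hs,
    (D.lin _ D.kH).2, D.alpha_k, mul_one] at this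
  have hs0 : s = 0 := by
    by_contra h0
    have hd := P.delta_ne_zero (D.mem D.kH)
    have h3 := up_inj this
    rw [eq_div_iff hd] at h3
    exact D.kd (mul_left_cancel₀ h0 (h3.trans (mul_one s).symm))
  have hx1 := (P.mem_V1_iff_up _ hs).mpr hs0
  refine ⟨hx1, (P.mem_Z_iff hx1).mpr ?_⟩
  have h2 := P.conj_V1_co (D.mem D.kH) (D.lin _ D.kH).2 hx1
  rw [e] at h2
  by_contra h0
  exact D.kd (mul_left_cancel₀ h0 (h2.symm.trans (mul_one _).symm))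

theorem exists_x12_of_comm {y : G} {b : G} (hb : b ∈ V2) (hyb : y = D.k * b * D.k⁻¹ * b⁻¹) :
    ∃ t, y = D.x12 t := by
  obtain ⟨s, hs⟩ := P.exists_up (P.V2_le_J hb)
  exact ⟨_, hyb.trans (D.k_comm_V2 hb hs)⟩

theorem x12_add (s t : F) : D.x12 (s + t) = D.x12 s * D.x12 t := by
  obtain ⟨hb, hρ⟩ := D.bOf_spec (s / (1 / P.delta D.k + 1))
  obtain ⟨hc, hρ'⟩ := D.bOf_spec (t / (1 / P.delta D.k + 1))
  set b := D.bOf (s / (1 / P.delta D.k + 1)) with hbdef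
  set c := D.bOf (t / (1 / P.delta D.k + 1)) with hcdef
  have hρm : P.m1.ρ ⟨b * c, P.V2_le_L1 (mul_mem hb hc)⟩ =
      up (s / (1 / P.delta D.k + 1) + t / (1 / P.delta D.k + 1)) := by
    rw [← up_mul, ← hρ, ← hρ', ← map_mul]; rfl
  have e := D.k_comm_V2 (mul_mem hb hc) hρm
  rw [add_mul, div_mul_cancel₀ _ D.gamma_k, div_mul_cancel₀ _ D.gamma_k] at e
  rw [← e]
  have hkc : D.k * c * D.k⁻¹ ∈ V2 := (Subgroup.mem_normalizer_iff.mp (D.mem D.kH).2 c).mp hc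
  calc D.k * (b * c) * D.k⁻¹ * (b * c)⁻¹ = (D.k * b * D.k⁻¹) * ((D.k * c * D.k⁻¹) * c⁻¹ * b⁻¹) := by group
    _ = (D.k * b * D.k⁻¹) * (b * ((D.k * c * D.k⁻¹) * c)) := by
        rw [P.m2.inv_eq hb, P.m2.inv_eq hc, P.m2.mul_comm_V hb (mul_mem hkc hc)]
    _ = D.x12 s * D.x12 t := by rw [x12, x12, ← hbdef, ← hcdef]; group

theorem x12_inj {s t : F} (h : D.x12 s = D.x12 t) : s = t := by
  refine up_inj ?_
  rw [← D.ρ_x12 s, ← D.ρ_x12 t]
  congr 1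
  exact Subtype.ext h

theorem mem_H_swap {n : G} (hn : n ∈ both V2 V1) (hl : P.swap.Lin n) : n ∈ both V1 V2 ∧ P.Lin n :=
  ⟨P.both_swap ▸ hn, P.swap.swap_lin hn hl⟩

theorem swap_kd : P.swap.delta D.k ≠ 1 := by
  intro e
  have hk2 : D.k ∈ both V2 V1 := P.both_swap.symm ▸ D.mem D.kH
  obtain ⟨b, hb, hρ⟩ := P.exists_b 1
  have h2 := P.swap.conj_V1_co hk2 (P.swap_lin (D.mem D.kH) (D.lin _ D.kH).2) hb
  rw [e, mul_one] at h2
  have hkb : D.k * b * D.k⁻¹ ∈ V2 := (Subgroup.mem_normalizer_iff.mp hk2.1 b).mp hb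
  have hm : D.k * b * D.k⁻¹ * b ∈ V1 := by
    refine (P.swap.mem_Z_iff (mul_mem hkb hb)).mpr ?_
    rw [show P.swap.m1 = P.m2 from rfl, P.m2.co_mul hkb hb, Pi.add_apply]
    exact CharTwo.add_eq_zero.mpr h2
  have hL : D.k * b * D.k⁻¹ * b ∈ L1 := P.m1.le hm
  have := (P.mem_V1_iff_up hL (D.ρ_k_comm hb hρ hL)).mp hm
  rw [one_mul] at this
  exact D.gamma_k this

/-- The same torus for the pair in the other order. -/
def swap : Torus P.swap where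
  H := D.H
  lin h hh := ⟨P.both_swap.symm ▸ D.mem hh, P.swap_lin (D.mem hh) (D.lin h hh).2⟩
  comm := D.comm
  disj := D.disj
  cover n hn hl := D.cover n (D.mem_H_swap hn hl).1 (D.mem_H_swap hn hl).2
  k := D.k
  kH := D.kH
  kZ z h2 h1 := D.kZ z h1 h2
  kd := D.swap_kd

end Torus

theorem Pair.exists_torus {L1 L2 V1 V2 J T : Subgroup G} (P : Pair L1 L2 V1 V2 J T F) (h8 : 8 ≤ Nat.card F) :
    Nonempty (Torus P) := by
  obtain ⟨H, hlin, hcomm, hdisj, hcov⟩ := P.exists_torus_group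
  obtain ⟨n, hn, hd, -⟩ := P.exists_kernel_ne h8
  obtain ⟨k, hk, hJ⟩ := hcov n hn.1 hn.2.1
  have hkn : k = n * (k⁻¹ * n)⁻¹ := by group
  refine ⟨{ H := H, lin := hlin, comm := hcomm, disj := hdisj, cover := hcov, k := k, kH := hk, kZ := ?_, kd := ?_ }⟩
  · intro z h1 h2
    rw [hkn]
    exact (P.InK_comm_Z hn h1 h2).mul_left (P.Z_central h1 h2 hJ).symm.inv_left
  · rw [hkn, P.delta_mul hn.1 ((both V1 V2).inv_mem (P.J_le_both hJ)), hn.2.1,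
      (P.coords_J (J.inv_mem hJ)).2, one_mul]
    exact hd

end Cfsg.Agent.Invol.NatPair
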